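/-
Additive duality inside a non-degenerate Hermitian subspace, and the double count of an orbit against the
translates of a set.
-/
import Cfsg.Agent.Lib.SpMinIndex.Count
import Cfsg.Agent.Lib.Classical.UnitarySimple

set_option autoImplicit false

namespace Cfsg.Agent.UMin

open Matrix Cfsg.Agent.Transvec Cfsg.Agent.Transvec.Herm
open scoped Pointwise

/-- The annihilator of a subgroup under a pairing which is non-degenerate on the left. -/
theorem card_ann {V : Type*} [AddCommGroup V] [Finite V] {p : ℕ} [Fact p.Prime] [Module (ZMod p) V]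
    (B : V →+ V →+ ZMod p) (hB : ∀ r, (∀ v, B r v = 0) → r = 0) (K : AddSubgroup V) :
    Nat.card {r : V // ∀ v ∈ K, B r v = 0} * Nat.card K = Nat.card V := by
  let Ks : Submodule (ZMod p) V := AddSubgroup.toZModSubmodule _ K
  let L : V →ₗ[ZMod p] Module.Dual (ZMod p) V := LinearMap.mk₂ (ZMod p) (fun r v => B r v)
    (fun a b v => DFunLike.congr_fun (map_add B a b) v)
    (fun c r v => ZMod.map_smul (B.flip v) c r)
    (fun r a b => map_add (B r) a b)
    (fun c r v => ZMod.map_smul (B r) c v)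
  have hL : Function.Injective L := by
    rw [injective_iff_map_eq_zero]
    exact fun r hr => hB r fun v => LinearMap.congr_fun hr v
  have hLs : Function.Surjective L :=
    (LinearMap.injective_iff_surjective_of_finrank_eq_finrank Subspace.dual_finrank_eq.symm).1 hL
  have hR : Function.Surjective (Ks.dualRestrict.comp L) := (Subspace.dualRestrict_surjective).comp hLs
  have h := AddSubgroup.card_eq_card_quotient_mul_card_addSubgroup
    (LinearMap.ker (Ks.dualRestrict.comp L)).toAddSubgroup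
  rw [show Nat.card (V ⧸ (LinearMap.ker (Ks.dualRestrict.comp L)).toAddSubgroup) = Nat.card K from
    (Nat.card_congr (LinearMap.quotKerEquivOfSurjective _ hR).toEquiv).trans
      (by rw [Module.natCard_eq_pow_finrank (K := ZMod p), Subspace.dual_finrank_eq,
        ← Module.natCard_eq_pow_finrank (K := ZMod p)]; rfl)] at h
  rw [h, mul_comm]
  congr 1
  refine Nat.card_congr (Equiv.setCongr (Set.ext fun r => ?_))
  simp only [SetLike.mem_coe, Submodule.mem_toAddSubgroup, LinearMap.mem_ker, LinearMap.ext_iff]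
  exact ⟨fun h v => h v.1 v.2, fun h v hv => h ⟨v, hv⟩⟩

variable {ι : Type} [Fintype ι] [DecidableEq ι] {F : Type*} [Field F] [Finite F]

/-- A non-zero additive map to the prime field is killed by no non-zero multiplier. -/
theorem exists_smul_ne {g : F →+ ZMod (ringChar F)} (hg : g ≠ 0) {a : F} (ha : a ≠ 0) :
    ∃ t : F, g (t * a) ≠ 0 := by
  by_contra h
  push Not at h
  exact hg (AddMonoidHom.ext fun x => by simpa [ha] using h (x / a))

/-- An additive map killing a subgroup but not a given element outside it. -/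
theorem exists_sep (S : AddSubgroup F) {c : F} (hc : c ∉ S) :
    ∃ φ : F →+ ZMod (ringChar F), (∀ s ∈ S, φ s = 0) ∧ φ c ≠ 0 := by
  haveI : Fact (ringChar F).Prime := ⟨CharP.char_is_prime F _⟩
  letI : Algebra (ZMod (ringChar F)) F := ZMod.algebra F (ringChar F)
  obtain ⟨φ, h1, h2⟩ := Submodule.exists_dual_map_eq_bot_of_notMem
    (p := AddSubgroup.toZModSubmodule (ringChar F) S) (x := c) hc inferInstance
  refine ⟨φ.toAddMonoidHom, fun s hs => ?_, h1⟩
  have : φ s ∈ (AddSubgroup.toZModSubmodule (ringChar F) S).map φ := ⟨s, hs, rfl⟩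
  rw [h2, Submodule.mem_bot] at this
  exact this

variable {σ : F ≃+* F} {f : (ι → F) → (ι → F) → F} (hf : Geo.IsUnitaryForm σ f)
include hf

/-- The vectors of X pairing with all of K into the kernel of g. -/
def annIn (g : F →+ ZMod (ringChar F)) (X : Submodule F (ι → F)) (K : AddSubgroup (ι → F)) :
    AddSubgroup (ι → F) where
  carrier := {r | r ∈ X ∧ ∀ v ∈ K, g (f r v) = 0}
  zero_mem' := ⟨X.zero_mem, fun v _ => by rw [zero_left hf, map_zero]⟩
  add_mem' {a b} ha hb := ⟨X.add_mem ha.1 hb.1, fun v hv => by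
    rw [hf.add_left, map_add, ha.2 v hv, hb.2 v hv, add_zero]⟩
  neg_mem' {a} ha := ⟨X.neg_mem ha.1, fun v hv => by rw [neg_left hf, map_neg, ha.2 v hv, neg_zero]⟩

theorem mem_annIn {g : F →+ ZMod (ringChar F)} {X : Submodule F (ι → F)} {K : AddSubgroup (ι → F)}
    {r : ι → F} : r ∈ annIn hf g X K ↔ r ∈ X ∧ ∀ v ∈ K, g (f r v) = 0 := Iff.rfl

theorem card_annIn {g : F →+ ZMod (ringChar F)} (hg : g ≠ 0) {X : Submodule F (ι → F)} (hX : Nondeg hf X)
    {K : AddSubgroup (ι → F)} (hK : ∀ v ∈ K, v ∈ X) :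
    Nat.card (annIn hf g X K) * Nat.card K = Nat.card X := by
  haveI : Fact (ringChar F).Prime := ⟨CharP.char_is_prime F _⟩
  let B : X →+ X →+ ZMod (ringChar F) := AddMonoidHom.mk'
    (fun r => AddMonoidHom.mk' (fun v => g (f r v)) fun a b => by
      simp only [Submodule.coe_add, Herm.add_right hf, map_add])
    fun a b => AddMonoidHom.ext fun v => by
      show g (f ((a + b : X) : ι → F) v) = g (f a v) + g (f b v)
      rw [Submodule.coe_add, hf.add_left, map_add]
  have hp : ∀ x : X, ringChar F • x = 0 := fun x => Subtype.ext (funext fun i => by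
    rw [Submodule.coe_smul_of_tower, Pi.smul_apply, nsmul_eq_mul, CharP.cast_eq_zero, zero_mul]
    rfl)
  letI : Module (ZMod (ringChar F)) X := AddCommGroup.zmodModule hp
  have h := card_ann B (fun r hr => by
    refine Subtype.ext ((nondeg_iff hf).1 hX r r.2 fun w hw => ?_)
    by_contra hne
    obtain ⟨t, ht⟩ := exists_smul_ne hg (fun h => hne ((f_eq_zero_comm hf).1 h) : f (r : ι → F) w ≠ 0)
    refine ht ?_
    rw [show t * f (r : ι → F) w = f (r : ι → F) (σ t • w) by rw [Herm.smul_right hf, hf.involutive]]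
    exact hr ⟨_, X.smul_mem _ hw⟩) (K.comap X.subtype.toAddMonoidHom)
  have e1 : Nat.card (K.comap X.subtype.toAddMonoidHom) = Nat.card K := Nat.card_congr
    { toFun := fun v => ⟨v.1.1, v.2⟩
      invFun := fun v => ⟨⟨v.1, hK _ v.2⟩, v.2⟩
      left_inv := fun _ => rfl
      right_inv := fun _ => rfl }
  have e2 : Nat.card {r : X // ∀ v ∈ K.comap X.subtype.toAddMonoidHom, B r v = 0} =
      Nat.card (annIn hf g X K) := Nat.card_congr
    { toFun := fun r => ⟨r.1.1, r.1.2, fun v hv => r.2 ⟨v, hK v hv⟩ hv⟩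
      invFun := fun r => ⟨⟨r.1, r.2.1⟩, fun v hv => r.2.2 v hv⟩
      left_inv := fun _ => rfl
      right_inv := fun _ => rfl }
  rwa [e1, e2] at h

/-- A subgroup on which the pairing vanishes is small. -/
theorem card_sq_le {g : F →+ ZMod (ringChar F)} (hg : g ≠ 0) {X : Submodule F (ι → F)} (hX : Nondeg hf X)
    {K : AddSubgroup (ι → F)} (hK : ∀ v ∈ K, v ∈ X) (hiso : ∀ u ∈ K, ∀ v ∈ K, g (f u v) = 0) :
    Nat.card K ^ 2 ≤ Nat.card X := by
  rw [← card_annIn hf hg hX hK, pow_two]
  exact Nat.mul_le_mul_right _ (AddSubgroup.card_le_of_le fun v hv => ⟨hK v hv, hiso v hv⟩)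

/-- A subgroup of isotropic vectors is small. -/
theorem card_sq_le_of_singular {X : Submodule F (ι → F)} (hX : Nondeg hf X)
    {K : AddSubgroup (ι → F)} (hK : ∀ v ∈ K, v ∈ X) (hiso : ∀ v ∈ K, f v v = 0) :
    Nat.card K ^ 2 ≤ Nat.card X := by
  obtain ⟨b, hb⟩ := exists_trace hf.ne_refl hf.involutive (1 : F) (map_one σ)
  have h1 : (1 : F) ∉ (⊥ : AddSubgroup F) := by simp
  obtain ⟨φ, -, hφ⟩ := exists_sep ⊥ h1
  refine card_sq_le hf (g := φ.comp (AddMonoidHom.id F + σ.toAddMonoidHom)) (fun h => hφ ?_) hX hK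
    fun u hu v hv => ?_
  · have := DFunLike.congr_fun h b
    simpa [hb] using this
  · have h2 := hiso _ (add_mem hu hv)
    rw [hf.add_left, Herm.add_right hf, Herm.add_right hf, hiso u hu, hiso v hv, zero_add, add_zero] at h2
    show φ (f u v + σ (f u v)) = 0
    rw [← hf.herm v u, h2, map_zero]

/-! ### The double count -/

omit hf

section count

variable {L V : Type*} [Group L] [MulAction L V] [Finite L] [Finite V]

/-- The cosets of L₀ whose translate of D contains r. -/
def bSet (L₀ : Subgroup L) (D : Set V) (r : V) : Set (L ⧸ L₀) := {c | r ∈ c.out • D}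

theorem mk_mem_bSet {L₀ : Subgroup L} {D : Set V} (hD : ∀ l ∈ L₀, ∀ v ∈ D, l • v ∈ D) {r : V} (g : L) :
    (g : L ⧸ L₀) ∈ bSet L₀ D r ↔ g⁻¹ • r ∈ D := by
  obtain ⟨l, hl⟩ := QuotientGroup.mk_out_eq_mul L₀ g
  rw [bSet, Set.mem_setOf_eq, hl, Set.mem_smul_set_iff_inv_smul_mem, _root_.mul_inv_rev, mul_smul]
  exact ⟨fun h => by simpa using hD l l.2 _ h, fun h => hD _ (L₀.inv_mem l.2) _ h⟩

theorem card_bSet_const {L₀ : Subgroup L} {D : Set V} (hD : ∀ l ∈ L₀, ∀ v ∈ D, l • v ∈ D) (r : V) (g : L) :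
    Nat.card (bSet L₀ D (g • r)) = Nat.card (bSet L₀ D r) := by
  refine Nat.card_congr ⟨fun c => ⟨g⁻¹ • c.1, ?_⟩, fun c => ⟨g • c.1, ?_⟩,
    fun c => Subtype.ext (smul_inv_smul g c.1), fun c => Subtype.ext (inv_smul_smul g c.1)⟩
  · obtain ⟨c, hc⟩ := c
    induction c using QuotientGroup.induction_on with
    | H a =>
      rw [MulAction.Quotient.smul_coe, smul_eq_mul, mk_mem_bSet hD, _root_.mul_inv_rev, inv_inv, mul_smul]
      exact (mk_mem_bSet hD a).1 hc
  · obtain ⟨c, hc⟩ := c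
    induction c using QuotientGroup.induction_on with
    | H a =>
      rw [MulAction.Quotient.smul_coe, smul_eq_mul, mk_mem_bSet hD, _root_.mul_inv_rev, mul_smul, inv_smul_smul]
      exact (mk_mem_bSet hD a).1 hc

/-- The double count of an orbit against the translates of D. -/
theorem count_eq {L₀ : Subgroup L} {D : Set V} (hD : ∀ l ∈ L₀, ∀ v ∈ D, l • v ∈ D) (r : V) :
    L₀.index * (D ∩ MulAction.orbit L r).ncard = (MulAction.orbit L r).ncard * Nat.card (bSet L₀ D r) := by
  classical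
  let e : (L ⧸ L₀) × ↥(D ∩ MulAction.orbit L r) ≃ Σ u : MulAction.orbit L r, bSet L₀ D (u : V) :=
    { toFun := fun p => ⟨⟨p.1.out • p.2.1, by
          obtain ⟨g, hg⟩ := p.2.2.2
          exact ⟨p.1.out * g, by rw [← hg]; exact mul_smul _ _ _⟩⟩,
          ⟨p.1, Set.smul_mem_smul_set p.2.2.1⟩⟩
      invFun := fun p => (p.2.1, ⟨p.2.1.out⁻¹ • (p.1 : V), Set.mem_smul_set_iff_inv_smul_mem.1 p.2.2, by
          obtain ⟨g, hg⟩ := p.1.2
          exact ⟨p.2.1.out⁻¹ * g, (mul_smul _ _ _).trans (congrArg (p.2.1.out⁻¹ • ·) hg)⟩⟩)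
      left_inv := fun p => Prod.ext rfl (Subtype.ext (inv_smul_smul _ _))
      right_inv := fun p => by
        obtain ⟨⟨u, hu⟩, ⟨c, hc⟩⟩ := p
        exact Sigma.subtype_ext (Subtype.ext (smul_inv_smul _ _)) rfl }
  haveI : Fintype (MulAction.orbit L r) := Fintype.ofFinite _
  have h := Nat.card_congr e
  rw [Nat.card_prod, Nat.card_sigma, Finset.sum_congr rfl (fun u _ => by
      obtain ⟨g, hg⟩ := u.2
      rw [← hg]; exact card_bSet_const hD r g), Finset.sum_const, Finset.card_univ, smul_eq_mul,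
    ← Nat.card_eq_fintype_card] at h
  rw [← Nat.card_coe_set_eq, ← Nat.card_coe_set_eq]
  exact h

/-- Each translate of D by the stabiliser of r gives a coset. -/
theorem translates_le {L₀ : Subgroup L} {D : Set V} (hD : ∀ l ∈ L₀, ∀ v ∈ D, l • v ∈ D) {r : V} (hr : r ∈ D)
    {P : Set (Set V)} (hP : ∀ E ∈ P, ∃ g : L, g • r = r ∧ g • D = E) :
    Nat.card P ≤ Nat.card (bSet L₀ D r) := by
  choose g hg hgE using hP
  refine Nat.card_le_card_of_injective
    (fun E => (⟨(g E.1 E.2 : L ⧸ L₀), (mk_mem_bSet hD _).2 ?_⟩ : bSet L₀ D r)) ?_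
  · rw [show (g E.1 E.2)⁻¹ • r = r from inv_smul_eq_iff.2 (hg E.1 E.2).symm]
    exact hr
  · intro E E' h
    have h' := QuotientGroup.eq.1 (congrArg Subtype.val h)
    refine Subtype.ext ?_
    have key : ((g E.1 E.2)⁻¹ * g E'.1 E'.2) • D = D := by
      refine Set.ext fun v => ⟨?_, fun hv => ?_⟩
      · rintro ⟨w, hw, rfl⟩; exact hD _ h' w hw
      · exact Set.mem_smul_set_iff_inv_smul_mem.2 (hD _ (L₀.inv_mem h') v hv)
    have h2 := congrArg (fun S : Set V => g E.1 E.2 • S) key
    simp only [smul_smul, mul_inv_cancel_left] at h2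
    exact (hgE E.1 E.2).symm.trans (h2.symm.trans (hgE E'.1 E'.2))

theorem bSet_pos {L₀ : Subgroup L} {D : Set V} (hD : ∀ l ∈ L₀, ∀ v ∈ D, l • v ∈ D) {r : V} (hr : r ∈ D) :
    1 ≤ Nat.card (bSet L₀ D r) := by
  refine le_trans ?_ (translates_le hD hr (P := {D}) fun E hE => ⟨1, one_smul L r, by
    rw [Set.mem_singleton_iff.1 hE, one_smul]⟩)
  simp

end count

end Cfsg.Agent.UMin
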