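/-
Elements of the special unitary group: pseudo-reflections, torus elements and the unipotent radical of the
stabiliser of an isotropic vector, coordinate free.
-/
import Cfsg.Agent.Lib.Classical.UnitarySimple
import Cfsg.Agent.Lib.Transvec.HermOrth

set_option autoImplicit false

namespace Cfsg.Agent.UMin

open Matrix Cfsg.Agent.Transvec Cfsg.Agent.Transvec.Herm Cfsg.Agent.UnitarySimple

variable {ι : Type} [Fintype ι] [DecidableEq ι] {F : Type*} [Field F]

/-- The order of the fixed field. -/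
noncomputable abbrev qn (σ : F ≃+* F) : ℕ := Nat.card (fixedField σ)

theorem mem_sl_iff {g : GL ι F} : g ∈ Geo.specialLinear ι F ↔ (g : Matrix ι ι F).det = 1 := by
  rw [← Matrix.GeneralLinearGroup.val_det_apply, ← Units.val_one, Units.val_inj]
  exact MonoidHom.mem_ker

theorem det_mul' (g h : GL ι F) :
    ((g * h : GL ι F) : Matrix ι ι F).det = (g : Matrix ι ι F).det * (h : Matrix ι ι F).det := by
  rw [Units.val_mul, Matrix.det_mul]

variable {f : (ι → F) → (ι → F) → F}

theorem mem_sug {g : GL ι F} :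
    g ∈ sug f ↔ (∀ u v, f (mv g u) (mv g v) = f u v) ∧ (g : Matrix ι ι F).det = 1 :=
  and_congr Iff.rfl mem_sl_iff

theorem f_mv {g : GL ι F} (hg : g ∈ sug f) (u v : ι → F) : f (mv g u) (mv g v) = f u v := hg.1 u v

/-! ### Rank one changes -/

/-- The map z ↦ z + φ(z) v. -/
noncomputable def rk (v : ι → F) (φ : Module.Dual F (ι → F)) (h : 1 + φ v ≠ 0) : GL ι F :=
  GeneralLinearGroup.mkOfDetNeZero (tvMat v φ) (by rw [det_tvMat]; exact h)

theorem mv_rk {v : ι → F} {φ : Module.Dual F (ι → F)} (h : 1 + φ v ≠ 0) (z : ι → F) :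
    mv (rk v φ h) z = z + φ z • v :=
  tvMat_mulVec v φ z

theorem det_rk {v : ι → F} {φ : Module.Dual F (ι → F)} (h : 1 + φ v ≠ 0) :
    ((rk v φ h : GL ι F) : Matrix ι ι F).det = 1 + φ v :=
  det_tvMat v φ

variable {σ : F ≃+* F} (hf : Geo.IsUnitaryForm σ f)
include hf

open scoped Classical in
/-- The pseudo-reflection at r with multiplier t. -/
noncomputable def pr (r : ι → F) (t : F) : GL ι F :=
  if h : f r r ≠ 0 ∧ t ≠ 0 then rk r (((t - 1) / f r r) • formH hf r) (by
    rw [LinearMap.smul_apply, formH_apply, smul_eq_mul, div_mul_cancel₀ _ h.1, add_sub_cancel]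
    exact h.2) else 1

theorem mv_pr {r : ι → F} (hr : f r r ≠ 0) {t : F} (ht : t ≠ 0) (z : ι → F) :
    mv (pr hf r t) z = z + ((t - 1) / f r r * f z r) • r := by
  rw [pr, dif_pos ⟨hr, ht⟩, mv_rk]
  rfl

theorem det_pr {r : ι → F} (hr : f r r ≠ 0) {t : F} (ht : t ≠ 0) :
    ((pr hf r t : GL ι F) : Matrix ι ι F).det = t := by
  rw [pr, dif_pos ⟨hr, ht⟩, det_rk, LinearMap.smul_apply, formH_apply, smul_eq_mul, div_mul_cancel₀ _ hr,
    add_sub_cancel]

theorem pr_self {r : ι → F} (hr : f r r ≠ 0) {t : F} (ht : t ≠ 0) : mv (pr hf r t) r = t • r := by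
  rw [mv_pr hf hr ht, div_mul_cancel₀ _ hr, sub_smul, one_smul, add_sub_cancel]

theorem pr_fix {r z : ι → F} (hr : f r r ≠ 0) {t : F} (ht : t ≠ 0) (hz : f z r = 0) : mv (pr hf r t) z = z := by
  rw [mv_pr hf hr ht, hz, mul_zero, zero_smul, add_zero]

theorem pr_isom {r : ι → F} (hr : f r r ≠ 0) {t : F} (ht : t * σ t = 1) (u v : ι → F) :
    f (mv (pr hf r t) u) (mv (pr hf r t) v) = f u v := by
  have ht0 : t ≠ 0 := fun h => by simp [h] at ht
  rw [mv_pr hf hr ht0, mv_pr hf hr ht0]
  simp only [hf.add_left, Herm.add_right hf, hf.smul_left, Herm.smul_right hf, map_mul, map_div₀, map_sub, map_one,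
    self_fixed hf r]
  rw [← hf.herm r v]
  field_simp
  linear_combination (f u r * f r v) * ht

open scoped Classical in
/-- The torus element of a hyperbolic pair. -/
noncomputable def tor (w w' : ι → F) (t : F) : GL ι F :=
  if h : f w w = 0 ∧ f w' w' = 0 ∧ f w w' = 1 ∧ t ≠ 0 then
    rk w ((t - 1) • formH hf w') (by
      rw [LinearMap.smul_apply, formH_apply, h.2.2.1, smul_eq_mul, mul_one, add_sub_cancel]
      exact h.2.2.2) *
    rk w' (((σ t)⁻¹ - 1) • formH hf w) (by
      rw [LinearMap.smul_apply, formH_apply, hf.herm w' w, h.2.2.1, map_one, smul_eq_mul, mul_one, add_sub_cancel]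
      exact inv_ne_zero fun h0 => h.2.2.2 ((map_eq_zero_iff σ σ.injective).1 h0))
  else 1

section tor

variable {w w' : ι → F} (hw : f w w = 0) (hw' : f w' w' = 0) (h1 : f w w' = 1) {t : F} (ht : t ≠ 0)
include hw hw' h1 ht

theorem mv_tor (z : ι → F) :
    mv (tor hf w w' t) z = z + ((t - 1) * f z w') • w + (((σ t)⁻¹ - 1) * f z w) • w' := by
  rw [tor, dif_pos ⟨hw, hw', h1, ht⟩, mv_mul, mv_rk, mv_rk]
  simp only [LinearMap.smul_apply, formH_apply, smul_eq_mul, hf.add_left, hf.smul_left, hw', mul_zero, add_zero]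
  abel

theorem det_tor : ((tor hf w w' t : GL ι F) : Matrix ι ι F).det = t * (σ t)⁻¹ := by
  rw [tor, dif_pos ⟨hw, hw', h1, ht⟩, det_mul', det_rk, det_rk]
  simp only [LinearMap.smul_apply, formH_apply, smul_eq_mul, hf.herm w' w, h1, map_one, mul_one, add_sub_cancel]

theorem tor_fst : mv (tor hf w w' t) w = t • w := by
  rw [mv_tor hf hw hw' h1 ht, hw, h1, mul_zero, zero_smul, add_zero, mul_one, sub_smul, one_smul, add_sub_cancel]

theorem tor_snd : mv (tor hf w w' t) w' = (σ t)⁻¹ • w' := by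
  rw [mv_tor hf hw hw' h1 ht, hw', hf.herm w' w, h1, map_one, mul_zero, zero_smul, add_zero, mul_one, sub_smul,
    one_smul, add_sub_cancel]

theorem tor_fix {z : ι → F} (hz : f z w = 0) (hz' : f z w' = 0) : mv (tor hf w w' t) z = z := by
  rw [mv_tor hf hw hw' h1 ht, hz, hz', mul_zero, mul_zero, zero_smul, zero_smul, add_zero, add_zero]

theorem tor_isom (u v : ι → F) : f (mv (tor hf w w' t) u) (mv (tor hf w w' t) v) = f u v := by
  have h2 : f w' w = 1 := by rw [hf.herm w' w, h1, map_one]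
  have ht' : σ t ≠ 0 := fun h => ht ((map_eq_zero_iff σ σ.injective).1 h)
  rw [mv_tor hf hw hw' h1 ht, mv_tor hf hw hw' h1 ht]
  simp only [hf.add_left, Herm.add_right hf, hf.smul_left, Herm.smul_right hf, map_mul, map_sub, map_one,
    map_inv₀, hf.involutive, hw, hw', h1, h2]
  rw [← hf.herm w' v, ← hf.herm w v]
  field_simp
  ring

end tor

/-! ### The unipotent radical -/

open scoped Classical in
/-- The element z ↦ z + f(z,x) v + (l f(z,x) − f(z,v)) x. -/
noncomputable def qel (x v : ι → F) (l : F) : GL ι F :=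
  if h : f x x = 0 ∧ f v x = 0 then
    tv x ((l + f v v) • formH hf x - formH hf v) (by
      simp [formH_apply, h.1, (f_eq_zero_comm hf).1 h.2]) *
    tv v (formH hf x) (by rw [formH_apply]; exact h.2)
  else 1

variable {x : ι → F} (hx : f x x = 0)
include hx

theorem mv_qel {v : ι → F} (hv : f v x = 0) (l : F) (z : ι → F) :
    mv (qel hf x v l) z = z + f z x • v + (l * f z x - f z v) • x := by
  rw [qel, dif_pos ⟨hx, hv⟩, mv_mul, mv_tv, mv_tv]
  simp only [LinearMap.sub_apply, LinearMap.smul_apply, formH_apply, smul_eq_mul, hf.add_left, hf.smul_left, hv]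
  module

theorem qel_isEich {v : ι → F} (hv : f v x = 0) (l : F) : IsEich f (qel hf x v l) x v l :=
  fun z => mv_qel hf hx hv l z

theorem qel_mem {v : ι → F} (hv : f v x = 0) {l : F} (hl : l + σ l + f v v = 0) : qel hf x v l ∈ sug f := by
  obtain ⟨g, hg, hgz⟩ := exists_eichler hf hx hv hl
  rw [show qel hf x v l = g from ext_mv fun z => by rw [mv_qel hf hx hv, hgz]]
  exact hg

theorem qel_mul {v v' : ι → F} (hv : f v x = 0) (hv' : f v' x = 0) (l l' : F) :
    qel hf x v l * qel hf x v' l' = qel hf x (v + v') (l + l' - f v' v) :=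
  isEich_unique hf (isEich_mul hf hx hv hv' (qel_isEich hf hx hv l) (qel_isEich hf hx hv' l'))
    (qel_isEich hf hx (by rw [hf.add_left, hv, hv', add_zero]) _)

theorem qel_zero (l : F) : qel hf x 0 l = htv hf x hx l :=
  isEich_unique hf (qel_isEich hf hx (zero_left hf x) l) (isEich_htv hf hx l)

theorem qel_one : qel hf x 0 0 = 1 := by rw [qel_zero hf hx, htv_zero]

theorem qel_inv {v : ι → F} (hv : f v x = 0) (l : F) : (qel hf x v l)⁻¹ = qel hf x (-v) (-l - f v v) :=
  isEich_unique hf (isEich_inv hf hx hv (qel_isEich hf hx hv l))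
    (qel_isEich hf hx (by rw [neg_left hf, hv, neg_zero]) _)

theorem qel_conj {g : GL ι F} (hg : g ∈ sug f) {v : ι → F} (hv : f v x = 0) (l : F) :
    g * qel hf x v l * g⁻¹ = qel hf (mv g x) (mv g v) l :=
  isEich_unique hf (isEich_conj hf (f_mv hg) (qel_isEich hf hx hv l))
    (qel_isEich hf (by rw [f_mv hg, hx]) (by rw [f_mv hg, hv]) l)

theorem qel_scale {v : ι → F} (hv : f v x = 0) (t l : F) :
    qel hf (t • x) v l = qel hf x (σ t • v) (t * σ t * l) := by
  refine ext_mv fun z => ?_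
  rw [mv_qel hf (by rw [hf.smul_left, Herm.smul_right hf, hx, mul_zero, mul_zero])
      (by rw [Herm.smul_right hf, hv, mul_zero]),
    mv_qel hf hx (by rw [hf.smul_left, hv, mul_zero]), Herm.smul_right hf, Herm.smul_right hf, hf.involutive]
  module

theorem qel_fix {v z : ι → F} (hv : f v x = 0) (l : F) (hzx : f z x = 0) (hzv : f z v = 0) :
    mv (qel hf x v l) z = z := by
  rw [mv_qel hf hx hv, hzx, hzv, mul_zero, sub_zero, zero_smul, zero_smul, add_zero, add_zero]

theorem qel_apex {v : ι → F} (hv : f v x = 0) (l : F) : mv (qel hf x v l) x = x :=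
  qel_fix hf hx hv l hx ((f_eq_zero_comm hf).1 hv)

end Cfsg.Agent.UMin
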