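/-
The data of a subgroup of the special unitary group at an isotropic vector with a chosen partner: parameters
of the transvections, the vectors of the radical, its dual, and the part acting on the middle space.
-/
import Cfsg.Agent.Lib.UnitaryMinIndex.Dual
import Cfsg.Agent.Lib.UnitaryMinIndex.Elem
import Cfsg.Agent.Lib.Classical.Hermitian

set_option autoImplicit false

namespace Cfsg.Agent.UMin

open Matrix Cfsg.Agent.Transvec Cfsg.Agent.Transvec.Herm Cfsg.Agent.UnitarySimple

variable {ι : Type} [Fintype ι] [DecidableEq ι] {F : Type*} [Field F]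

/-! ### The field -/

section field

variable {σ : F ≃+* F}

/-- The elements of trace zero. -/
def anti (σ : F ≃+* F) : AddSubgroup F where
  carrier := {c | σ c = -c}
  zero_mem' := by simp
  add_mem' {a b} ha hb := by
    show σ (a + b) = -(a + b)
    rw [map_add, show σ a = -a from ha, show σ b = -b from hb]; ring
  neg_mem' {a} ha := by
    show σ (-a) = - -a
    rw [map_neg, show σ a = -a from ha]

theorem mem_anti {c : F} : c ∈ anti σ ↔ σ c = -c := Iff.rfl

variable (hne : σ ≠ RingEquiv.refl F) (hinv : ∀ a : F, σ (σ a) = a)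
include hne hinv

theorem ringHom_ne : (σ : F →+* F) ≠ RingHom.id F :=
  fun h => hne (RingEquiv.ext fun a => RingHom.congr_fun h a)

theorem card_anti : Nat.card (anti σ) = qn σ := by
  obtain ⟨t, ht0, ht⟩ := exists_anti hne hinv
  refine (Nat.card_congr
    { toFun := fun a => ⟨t * (a : F), by
        rw [mem_anti, map_mul, ht, show σ (a : F) = a from a.2, neg_mul]⟩
      invFun := fun c => ⟨(c : F) / t, by
        show σ ((c : F) / t) = (c : F) / t
        rw [map_div₀, ht, show σ (c : F) = -c from c.2, neg_div_neg_eq]⟩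
      left_inv := fun a => Subtype.ext (mul_div_cancel_left₀ _ ht0)
      right_inv := fun c => Subtype.ext (mul_div_cancel₀ _ ht0) }).symm

variable [Finite F]

theorem two_le_qn : 2 ≤ qn σ := Finite.one_lt_card

theorem card_F : Nat.card F = qn σ ^ 2 := card_eq_sq hne hinv

theorem card_norm_eq {k : F} (hk : σ k = k) (hk0 : k ≠ 0) : Nat.card {a : F // a * σ a = k} = qn σ + 1 := by
  have h := Hermitian.card_norm_fibre (σ := (σ : F →+* F)) (ringHom_ne hne hinv) hinv hk hk0
  exact h

end field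

variable {σ : F ≃+* F} {f : (ι → F) → (ι → F) → F}

/-- A hyperbolic pair. -/
structure Pair (f : (ι → F) → (ι → F) → F) (x y : ι → F) : Prop where
  xx : f x x = 0
  yy : f y y = 0
  xy : f x y = 1

/-- The elements fixing x and y. -/
def lev (f : (ι → F) → (ι → F) → F) (x y : ι → F) : Subgroup (GL ι F) :=
  sug f ⊓ (MulAction.stabilizer (GL ι F) x ⊓ MulAction.stabilizer (GL ι F) y)

theorem mem_lev {x y : ι → F} {g : GL ι F} : g ∈ lev f x y ↔ g ∈ sug f ∧ mv g x = x ∧ mv g y = y := Iff.rfl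

/-- The stabiliser of x. -/
def vstab (f : (ι → F) → (ι → F) → F) (x : ι → F) : Subgroup (GL ι F) :=
  sug f ⊓ MulAction.stabilizer (GL ι F) x

theorem mem_vstab {x : ι → F} {g : GL ι F} : g ∈ vstab f x ↔ g ∈ sug f ∧ mv g x = x := Iff.rfl

variable (hf : Geo.IsUnitaryForm σ f)
include hf

theorem sig_ne_zero {a : F} (ha : a ≠ 0) : σ a ≠ 0 := (map_ne_zero_iff σ σ.injective).2 ha

/-- The space orthogonal to a pair. -/
abbrev wSp (x y : ι → F) : Submodule F (ι → F) := orth hf (Submodule.span F {x, y})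

variable {x y : ι → F}

theorem mem_wSp {v : ι → F} : v ∈ wSp hf x y ↔ f x v = 0 ∧ f y v = 0 := by
  refine ⟨fun h => ⟨h x (Submodule.subset_span (Set.mem_insert _ _)),
    h y (Submodule.subset_span (Set.mem_insert_of_mem _ rfl))⟩, fun h u hu => ?_⟩
  obtain ⟨a, b, rfl⟩ := Submodule.mem_span_pair.1 hu
  rw [hf.add_left, hf.smul_left, hf.smul_left, h.1, h.2, mul_zero, mul_zero, add_zero]

variable (p : Pair f x y)
include p

theorem Pair.yx : f y x = 1 := by rw [hf.herm, p.xy, map_one]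

theorem Pair.x_ne : x ≠ 0 := fun h => by
  have := p.xy
  rw [h, zero_left hf] at this
  exact zero_ne_one this

theorem Pair.y_ne : y ≠ 0 := fun h => by
  have := p.xy
  rw [h, zero_right hf] at this
  exact zero_ne_one this

theorem Pair.left_x {v : ι → F} (hv : v ∈ wSp hf x y) : f v x = 0 :=
  (f_eq_zero_comm hf).1 ((mem_wSp hf).1 hv).1

theorem Pair.left_y {v : ι → F} (hv : v ∈ wSp hf x y) : f v y = 0 :=
  (f_eq_zero_comm hf).1 ((mem_wSp hf).1 hv).2

theorem Pair.right_x {v : ι → F} (hv : v ∈ wSp hf x y) : f x v = 0 := ((mem_wSp hf).1 hv).1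

theorem Pair.right_y {v : ι → F} (hv : v ∈ wSp hf x y) : f y v = 0 := ((mem_wSp hf).1 hv).2

theorem Pair.nondeg : Nondeg hf (wSp hf x y) := nondeg_orth hf (nondeg_pair hf p.xx p.yy p.xy).1

theorem Pair.finrank {m : ℕ} (hm : Fintype.card ι = m + 2) : Module.finrank F (wSp hf x y) = m := by
  have h := finrank_orth_add hf (nondeg_pair hf p.xx p.yy p.xy).1
  rw [(nondeg_pair hf p.xx p.yy p.xy).2, Module.finrank_pi] at h
  show Module.finrank F ↥(orth hf (Submodule.span F ({x, y} : Set (ι → F)))) = m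
  linarith

/-- The middle component. -/
theorem Pair.proj_mem (z : ι → F) : z - f z y • x - f z x • y ∈ wSp hf x y := by
  rw [mem_wSp hf]
  constructor
  · rw [Herm.sub_right hf, Herm.sub_right hf, Herm.smul_right hf, Herm.smul_right hf, p.xx, p.xy, ← hf.herm x z]
    ring
  · rw [Herm.sub_right hf, Herm.sub_right hf, Herm.smul_right hf, Herm.smul_right hf, p.yy, p.yx hf, ← hf.herm y z]
    ring

/-- Two elements agreeing on the pair and on the middle space are equal. -/
theorem Pair.ext {g h : GL ι F} (hgx : mv g x = mv h x) (hgy : mv g y = mv h y)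
    (hgw : ∀ v ∈ wSp hf x y, mv g v = mv h v) : g = h := by
  refine ext_mv fun z => ?_
  have := hgw _ (p.proj_mem hf z)
  rw [mv_sub, mv_sub, mv_sub, mv_sub, mv_smul, mv_smul, mv_smul, mv_smul, hgx, hgy] at this
  simpa using this

theorem lev_wSp {g : GL ι F} (hg : g ∈ lev f x y) {v : ι → F} (hv : v ∈ wSp hf x y) :
    mv g v ∈ wSp hf x y := by
  obtain ⟨hgs, hgx, hgy⟩ := mem_lev.1 hg
  refine (mem_wSp hf).2 ⟨?_, ?_⟩
  · calc f x (mv g v) = f (mv g x) (mv g v) := by rw [hgx]
      _ = 0 := by rw [f_mv hgs]; exact p.right_x hf hv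
  · calc f y (mv g v) = f (mv g y) (mv g v) := by rw [hgy]
      _ = 0 := by rw [f_mv hgs]; exact p.right_y hf hv

theorem qel_y {v : ι → F} (hv : v ∈ wSp hf x y) (l : F) : mv (qel hf x v l) y = y + v + l • x := by
  rw [mv_qel hf p.xx (p.left_x hf hv), p.yx hf, p.right_y hf hv, one_smul, mul_one, sub_zero]

theorem qel_inj {v v' : ι → F} (hv : v ∈ wSp hf x y) (hv' : v' ∈ wSp hf x y) {l l' : F}
    (h : qel hf x v l = qel hf x v' l') : v = v' ∧ l = l' := by
  have h1 := congrArg (fun g => mv g y) h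
  simp only [qel_y hf p hv, qel_y hf p hv'] at h1
  have h2 := congrArg (fun z => f z y) h1
  simp only [hf.add_left, hf.smul_left, p.yy, p.xy, p.left_y hf hv, p.left_y hf hv', mul_one, zero_add] at h2
  rw [h2] at h1
  exact ⟨by simpa using h1, h2⟩

theorem qel_mem_vstab {v : ι → F} (hv : v ∈ wSp hf x y) {l : F} (hl : l + σ l + f v v = 0) :
    qel hf x v l ∈ vstab f x :=
  mem_vstab.2 ⟨qel_mem hf p.xx (p.left_x hf hv) hl, qel_apex hf p.xx (p.left_x hf hv) l⟩

/-- The conjugate of a radical element by an element of the middle group. -/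
theorem lev_conj {g : GL ι F} (hg : g ∈ lev f x y) {v : ι → F} (hv : v ∈ wSp hf x y) (l : F) :
    g * qel hf x v l * g⁻¹ = qel hf x (mv g v) l := by
  rw [qel_conj hf p.xx (mem_lev.1 hg).1 (p.left_x hf hv), (mem_lev.1 hg).2.1]

/-- Every element fixing x is a radical element times an element of the middle group. -/
theorem exists_decomp {g : GL ι F} (hg : g ∈ vstab f x) :
    ∃ v ∈ wSp hf x y, ∃ l : F, l + σ l + f v v = 0 ∧ (qel hf x v l)⁻¹ * g ∈ lev f x y := by
  obtain ⟨hgs, hgx⟩ := mem_vstab.1 hg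
  set y' := mv g y
  have hy'x : f y' x = 1 := by
    calc f y' x = f (mv g y) (mv g x) := by rw [hgx]
      _ = 1 := by rw [f_mv hgs, p.yx hf]
  have hy'y' : f y' y' = 0 := (f_mv hgs y y).trans p.yy
  set v := y' - f y' y • x - f y' x • y with hv'
  have hv : v ∈ wSp hf x y := p.proj_mem hf y'
  have he : y' = y + v + f y' y • x := by rw [hv', hy'x, one_smul]; abel
  have hl : f y' y + σ (f y' y) + f v v = 0 := by
    have h := hy'y'
    generalize hL : f y' y = L at he ⊢
    rw [he] at h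
    simp only [hf.add_left, Herm.add_right hf, hf.smul_left, Herm.smul_right hf, p.xx, p.yy, p.xy, p.yx hf,
      p.left_x hf hv, p.left_y hf hv, p.right_x hf hv, p.right_y hf hv] at h
    linear_combination h
  refine ⟨v, hv, f y' y, hl, mem_lev.2 ⟨Subgroup.mul_mem _ (Subgroup.inv_mem _
    (qel_mem_vstab hf p hv hl).1) hgs, ?_, ?_⟩⟩
  · refine mv_inj (qel hf x v (f y' y)) ?_
    rw [mv_mul, mv_mv_inv, hgx, qel_apex hf p.xx (p.left_x hf hv)]
  · refine mv_inj (qel hf x v (f y' y)) ?_
    rw [mv_mul, mv_mv_inv, qel_y hf p hv]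
    exact he

theorem qel_lev_inj {v v' : ι → F} (hv : v ∈ wSp hf x y) (hv' : v' ∈ wSp hf x y) {l l' : F} {g g' : GL ι F}
    (hg : g ∈ lev f x y) (hg' : g' ∈ lev f x y) (h : qel hf x v l * g = qel hf x v' l' * g') :
    v = v' ∧ l = l' ∧ g = g' := by
  have h1 := congrArg (fun a => mv a y) h
  simp only [mv_mul, (mem_lev.1 hg).2.2, (mem_lev.1 hg').2.2, qel_y hf p hv, qel_y hf p hv'] at h1
  have h2 := congrArg (fun z => f z y) h1
  simp only [hf.add_left, hf.smul_left, p.yy, p.xy, p.left_y hf hv, p.left_y hf hv', mul_one, zero_add] at h2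
  rw [h2] at h1
  have h3 : v = v' := by simpa using h1
  subst h3 h2
  exact ⟨rfl, rfl, mul_left_cancel h⟩

/-! ### The data of a subgroup -/

omit p in
/-- The parameters of the transvections at x in H. -/
def sPar (H : Subgroup (GL ι F)) (hxx : f x x = 0) : AddSubgroup F where
  carrier := {c | σ c = -c ∧ qel hf x 0 c ∈ H}
  zero_mem' := ⟨by simp, by rw [qel_one hf hxx]; exact H.one_mem⟩
  add_mem' {a b} ha hb := ⟨(anti σ).add_mem ha.1 hb.1, by
    have h := H.mul_mem ha.2 hb.2
    rwa [qel_mul hf hxx (zero_left hf x) (zero_left hf x), add_zero, zero_left hf, sub_zero] at h⟩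
  neg_mem' {a} ha := ⟨(anti σ).neg_mem ha.1, by
    have h := H.inv_mem ha.2
    rwa [qel_inv hf hxx (zero_left hf x), neg_zero, zero_left hf, sub_zero] at h⟩

omit p in
theorem mem_sPar {H : Subgroup (GL ι F)} (hxx : f x x = 0) {c : F} :
    c ∈ sPar hf H hxx ↔ σ c = -c ∧ qel hf x 0 c ∈ H := Iff.rfl

/-- The middle vectors of the radical elements in H. -/
def kPar (H : Subgroup (GL ι F)) : AddSubgroup (ι → F) where
  carrier := {v | v ∈ wSp hf x y ∧ ∃ l, l + σ l + f v v = 0 ∧ qel hf x v l ∈ H}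
  zero_mem' := ⟨(wSp hf x y).zero_mem, 0, by simp [zero_left hf], by rw [qel_one hf p.xx]; exact H.one_mem⟩
  add_mem' := by
    rintro v w ⟨hv, l, hl, hlH⟩ ⟨hw, l', hl', hlH'⟩
    refine ⟨(wSp hf x y).add_mem hv hw, l + l' - f w v, ?_, ?_⟩
    · simp only [map_sub, map_add, ← hf.herm, hf.add_left, Herm.add_right hf]
      linear_combination hl + hl'
    · rw [← qel_mul hf p.xx (p.left_x hf hv) (p.left_x hf hw)]
      exact H.mul_mem hlH hlH'
  neg_mem' := by
    rintro v ⟨hv, l, hl, hlH⟩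
    refine ⟨(wSp hf x y).neg_mem hv, -l - f v v, ?_, ?_⟩
    · simp only [map_sub, map_neg, self_fixed hf, neg_left hf, neg_right hf]
      linear_combination -hl
    · rw [← qel_inv hf p.xx (p.left_x hf hv)]
      exact H.inv_mem hlH

theorem mem_kPar {H : Subgroup (GL ι F)} {v : ι → F} :
    v ∈ kPar hf p H ↔ v ∈ wSp hf x y ∧ ∃ l, l + σ l + f v v = 0 ∧ qel hf x v l ∈ H := Iff.rfl

/-- The elements of the middle group occurring in H up to the radical. -/
def lPar (H : Subgroup (GL ι F)) : Subgroup (lev f x y) where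
  carrier := {g | ∃ v ∈ wSp hf x y, ∃ l, l + σ l + f v v = 0 ∧ qel hf x v l * (g : GL ι F) ∈ H}
  one_mem' := ⟨0, (wSp hf x y).zero_mem, 0, by simp [zero_left hf], by
    rw [qel_one hf p.xx, one_mul]; exact H.one_mem⟩
  mul_mem' := by
    rintro ⟨g, hg⟩ ⟨g', hg'⟩ ⟨v, hv, l, hl, hlH⟩ ⟨v', hv', l', hl', hlH'⟩
    have hgv' := lev_wSp hf p hg hv'
    refine ⟨v + mv g v', (wSp hf x y).add_mem hv hgv', l + l' - f (mv g v') v, ?_, ?_⟩
    · have e := f_mv (mem_lev.1 hg).1 v' v'
      simp only [map_sub, map_add, ← hf.herm, hf.add_left, Herm.add_right hf, e]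
      linear_combination hl + hl'
    · have h := H.mul_mem hlH hlH'
      rw [← qel_mul hf p.xx (p.left_x hf hv) (p.left_x hf hgv'), ← lev_conj hf p hg hv']
      rw [Subgroup.coe_mul]
      rw [show qel hf x v l * (g * qel hf x v' l' * g⁻¹) * (g * g') = qel hf x v l * g * (qel hf x v' l' * g') by
        group]
      exact h
  inv_mem' := by
    rintro ⟨g, hg⟩ ⟨v, hv, l, hl, hlH⟩
    have hgv := lev_wSp hf p ((lev f x y).inv_mem hg) ((wSp hf x y).neg_mem hv)
    refine ⟨mv g⁻¹ (-v), hgv, -l - f v v, ?_, ?_⟩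
    · rw [f_mv (mem_lev.1 ((lev f x y).inv_mem hg)).1]
      simp only [map_sub, map_neg, self_fixed hf, neg_left hf, neg_right hf]
      linear_combination -hl
    · have h := H.inv_mem hlH
      rw [← lev_conj hf p ((lev f x y).inv_mem hg) ((wSp hf x y).neg_mem hv), ← qel_inv hf p.xx (p.left_x hf hv)]
      rw [Subgroup.coe_inv]
      rw [show g⁻¹ * (qel hf x v l)⁻¹ * g⁻¹⁻¹ * g⁻¹ = (qel hf x v l * g)⁻¹ by group]
      exact h

theorem mem_lPar {H : Subgroup (GL ι F)} {g : lev f x y} :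
    g ∈ lPar hf p H ↔ ∃ v ∈ wSp hf x y, ∃ l, l + σ l + f v v = 0 ∧ qel hf x v l * (g : GL ι F) ∈ H := Iff.rfl

theorem mem_lPar_of_mem {H : Subgroup (GL ι F)} {g : lev f x y} (hg : (g : GL ι F) ∈ H) : g ∈ lPar hf p H :=
  ⟨0, (wSp hf x y).zero_mem, 0, by simp [zero_left hf], by rw [qel_one hf p.xx, one_mul]; exact hg⟩

theorem kPar_lPar {H : Subgroup (GL ι F)} {g : lev f x y} (hg : g ∈ lPar hf p H) {v : ι → F}
    (hv : v ∈ kPar hf p H) : mv (g : GL ι F) v ∈ kPar hf p H := by
  obtain ⟨u, hu, l, hl, hlH⟩ := hg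
  obtain ⟨hvW, c, hc, hcH⟩ := hv
  have hgv := lev_wSp hf p g.2 hvW
  refine ⟨hgv, c - f (mv (g : GL ι F) v) u + f u (mv (g : GL ι F) v), ?_, ?_⟩
  · have e := f_mv (mem_lev.1 g.2).1 v v
    simp only [map_add, map_sub, ← hf.herm, e]
    linear_combination hc
  · have h := H.mul_mem (H.mul_mem hlH hcH) (H.inv_mem hlH)
    rw [show qel hf x u l * (g : GL ι F) * qel hf x v c * (qel hf x u l * (g : GL ι F))⁻¹ =
      qel hf x u l * ((g : GL ι F) * qel hf x v c * (g : GL ι F)⁻¹) * (qel hf x u l)⁻¹ by group,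
      lev_conj hf p g.2 hvW, qel_inv hf p.xx (p.left_x hf hu), qel_mul hf p.xx (p.left_x hf hu) (p.left_x hf hgv),
      qel_mul hf p.xx (by rw [hf.add_left, p.left_x hf hu, p.left_x hf hgv, add_zero])
        (by rw [neg_left hf, p.left_x hf hu, neg_zero]), add_neg_cancel_comm] at h
    simp only [neg_left hf, Herm.add_right hf] at h
    convert h using 2
    ring

variable [Finite F]

/-- The middle vectors dual to the radical of H. -/
noncomputable def dPar (H : Subgroup (GL ι F)) : AddSubgroup (ι → F) :=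
  annIn hf (SpMin.psi F) (wSp hf x y) (kPar hf p H)

theorem dPar_sub {H : Subgroup (GL ι F)} {r : ι → F} (hr : r ∈ dPar hf p H) : r ∈ wSp hf x y := hr.1

theorem dPar_lPar {H : Subgroup (GL ι F)} : ∀ g ∈ lPar hf p H, ∀ r ∈ (dPar hf p H : Set (ι → F)),
    g • r ∈ (dPar hf p H : Set (ι → F)) := by
  intro g hg r hr
  refine ⟨lev_wSp hf p g.2 hr.1, fun v hv => ?_⟩
  have hv' := kPar_lPar hf p ((lPar hf p H).inv_mem hg) hv
  show SpMin.psi F (f (mv (g : GL ι F) r) v) = 0
  rw [← mv_mv_inv (g : GL ι F) v, f_mv (mem_lev.1 g.2).1]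
  exact hr.2 _ (by rwa [InvMemClass.coe_inv] at hv')

/-- The index of the middle part of H. -/
noncomputable def aIdx (H : Subgroup (GL ι F)) : ℕ := (lPar hf p H).index

omit p in
/-- The index of the transvection part of H. -/
noncomputable def zIdx (H : Subgroup (GL ι F)) (hxx : f x x = 0) : ℕ :=
  (sPar hf H hxx).relIndex (anti σ)

/-- The size of the dual. -/
noncomputable def dNum (H : Subgroup (GL ι F)) : ℕ := Nat.card (dPar hf p H)

theorem aIdx_pos (H : Subgroup (GL ι F)) : 0 < aIdx hf p H :=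
  Nat.pos_of_ne_zero Subgroup.index_ne_zero_of_finite

theorem dNum_mul (H : Subgroup (GL ι F)) :
    dNum hf p H * Nat.card (kPar hf p H) = Nat.card (wSp hf x y) :=
  card_annIn hf SpMin.psi_ne (p.nondeg hf) fun _ hv => hv.1

theorem card_wSp {m : ℕ} (hm : Fintype.card ι = m + 2) : Nat.card (wSp hf x y) = qn σ ^ (2 * m) := by
  rw [Module.natCard_eq_pow_finrank (K := F), p.finrank hf hm, card_F hf.ne_refl hf.involutive, ← pow_mul]

omit p in
theorem zIdx_mul (H : Subgroup (GL ι F)) (hxx : f x x = 0) :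
    zIdx hf H hxx * Nat.card (sPar hf H hxx) = qn σ := by
  rw [zIdx, ← card_anti hf.ne_refl hf.involutive, AddSubgroup.relIndex,
    ← Nat.card_congr (AddSubgroup.addSubgroupOfEquivOfLe (show sPar hf H hxx ≤ anti σ from fun _ hc => hc.1)).toEquiv,
    mul_comm]
  exact AddSubgroup.card_mul_index _

/-- The radical part of H∩ the stabiliser, counted. -/
theorem card_inf_vstab (H : Subgroup (GL ι F)) :
    Nat.card (H ⊓ vstab f x : Subgroup (GL ι F)) =
      Nat.card (lPar hf p H) * (Nat.card (kPar hf p H) * Nat.card (sPar hf H p.xx)) := by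
  classical
  choose u hu c hc hcH using fun g : lPar hf p H => g.2
  choose l hl hlH using fun v : kPar hf p H => v.2.2
  have elem : ∀ (g : lPar hf p H) (v : kPar hf p H) (s : sPar hf H p.xx),
      qel hf x ((v : ι → F) + u g) (l v + s + c g - f (u g) v) * ((g : lev f x y) : GL ι F) ∈
        (H ⊓ vstab f x : Subgroup (GL ι F)) := by
    intro g v s
    have h1 : qel hf x (v : ι → F) (l v + s) ∈ H := by
      have h := H.mul_mem (hlH v) s.2.2
      rwa [qel_mul hf p.xx (p.left_x hf v.2.1) (zero_left hf x), add_zero, zero_left hf, sub_zero] at h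
    have h2 := H.mul_mem h1 (hcH g)
    rw [← mul_assoc, qel_mul hf p.xx (p.left_x hf v.2.1) (p.left_x hf (hu g))] at h2
    refine ⟨h2, (vstab f x).mul_mem (qel_mem_vstab hf p ((wSp hf x y).add_mem v.2.1 (hu g)) ?_)
      (mem_vstab.2 ⟨(mem_lev.1 (g : lev f x y).2).1, (mem_lev.1 (g : lev f x y).2).2.1⟩)⟩
    simp only [map_add, map_sub, ← hf.herm, hf.add_left, Herm.add_right hf, show σ (s : F) = -(s : F) from s.2.1]
    linear_combination hl v + hc g
  let Φ : lPar hf p H × kPar hf p H × sPar hf H p.xx → (H ⊓ vstab f x : Subgroup (GL ι F)) :=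
    fun t => ⟨_, elem t.1 t.2.1 t.2.2⟩
  rw [← Nat.card_prod, ← Nat.card_prod]
  refine (Nat.card_congr (Equiv.ofBijective Φ ⟨?_, ?_⟩)).symm
  · rintro ⟨g, v, s⟩ ⟨g', v', s'⟩ h
    obtain ⟨h1, h2, h3⟩ := qel_lev_inj hf p ((wSp hf x y).add_mem v.2.1 (hu g))
      ((wSp hf x y).add_mem v'.2.1 (hu g')) (g : lev f x y).2 (g' : lev f x y).2 (congrArg Subtype.val h)
    obtain rfl : g = g' := Subtype.ext (Subtype.ext h3)
    obtain rfl : v = v' := Subtype.ext (add_right_cancel h1)
    obtain rfl : s = s' := Subtype.ext (by simpa using h2)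
    rfl
  · rintro ⟨h, hh, hhv⟩
    obtain ⟨v, hv, k, hk, hg⟩ := exists_decomp hf p hhv
    set g : lev f x y := ⟨_, hg⟩
    have hgH : g ∈ lPar hf p H := ⟨v, hv, k, hk, by
      show qel hf x v k * ((qel hf x v k)⁻¹ * h) ∈ H
      rwa [mul_inv_cancel_left]⟩
    set g₀ : lPar hf p H := ⟨g, hgH⟩
    have hvx := p.left_x hf hv
    have hux := p.left_x hf (hu g₀)
    set e := k - c g₀ + f (u g₀) (v - u g₀) with hedef
    have hq : qel hf x (v - u g₀) e * qel hf x (u g₀) (c g₀) = qel hf x v k := by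
      rw [qel_mul hf p.xx (by rw [Herm.sub_left hf, hvx, hux, sub_zero]) hux, sub_add_cancel]
      congr 1
      rw [hedef]; ring
    have he : qel hf x (v - u g₀) e ∈ H := by
      have h1 := H.mul_mem hh (H.inv_mem (hcH g₀))
      rwa [show h * (qel hf x (u g₀) (c g₀) * ((g₀ : lev f x y) : GL ι F))⁻¹ = qel hf x (v - u g₀) e by
        rw [show ((g₀ : lev f x y) : GL ι F) = (qel hf x v k)⁻¹ * h from rfl, ← hq]
        group] at h1
    have hec : e + σ e + f (v - u g₀) (v - u g₀) = 0 := by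
      simp only [hedef, map_add, map_sub, ← hf.herm, Herm.sub_left hf, Herm.sub_right hf]
      linear_combination hk - hc g₀
    let v₀ : kPar hf p H := ⟨v - u g₀, (wSp hf x y).sub_mem hv (hu g₀), e, hec, he⟩
    have hs : e - l v₀ ∈ sPar hf H p.xx := by
      refine ⟨?_, ?_⟩
      · have h1 := hl v₀
        rw [map_sub]
        linear_combination hec - h1
      · have h1 := H.mul_mem (H.inv_mem (hlH v₀)) he
        have hvx' := p.left_x hf v₀.2.1
        rw [qel_inv hf p.xx hvx', show v - u g₀ = (v₀ : ι → F) from rfl,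
          qel_mul hf p.xx (by rw [neg_left hf, hvx', neg_zero]) hvx', neg_add_cancel, neg_right hf] at h1
        convert h1 using 2
        ring
    refine ⟨(g₀, v₀, ⟨_, hs⟩), Subtype.ext ?_⟩
    show qel hf x (v - u g₀ + u g₀) (l v₀ + (e - l v₀) + c g₀ - f (u g₀) (v - u g₀)) *
      ((qel hf x v k)⁻¹ * h) = h
    rw [sub_add_cancel, show l v₀ + (e - l v₀) + c g₀ - f (u g₀) (v - u g₀) = k by rw [hedef]; ring,
      mul_inv_cancel_left]

theorem sPar_sug : sPar hf (sug f) p.xx = anti σ := by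
  ext c
  exact ⟨fun h => h.1, fun h => ⟨h, qel_mem hf p.xx (zero_left hf x) (by
    rw [show σ c = -c from h, zero_left hf]; ring)⟩⟩

theorem kPar_sug : (kPar hf p (sug f) : Set (ι → F)) = wSp hf x y := by
  ext v
  refine ⟨fun h => h.1, fun h => ?_⟩
  obtain ⟨l, hl⟩ := exists_trace hf.ne_refl hf.involutive (-f v v) (by rw [map_neg, self_fixed hf])
  exact ⟨h, l, by linear_combination hl, qel_mem hf p.xx (p.left_x hf h) (by linear_combination hl)⟩

theorem lPar_sug : lPar hf p (sug f) = ⊤ :=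
  eq_top_iff.2 fun g _ => mem_lPar_of_mem hf p (mem_lev.1 g.2).1

theorem card_vstab : Nat.card (vstab f x) = Nat.card (lev f x y) * (Nat.card (wSp hf x y) * qn σ) := by
  have h := card_inf_vstab hf p (sug f)
  rw [inf_eq_right.2 (show vstab f x ≤ sug f from inf_le_left), sPar_sug hf p, lPar_sug hf p, Subgroup.card_top,
    card_anti hf.ne_refl hf.involutive] at h
  rw [h]
  exact congrArg (fun k => _ * (k * _)) (Nat.card_congr (Equiv.setCongr (kPar_sug hf p)))

/-- The index at the stabiliser of x. -/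
theorem relIndex_vstab (H : Subgroup (GL ι F)) :
    H.relIndex (vstab f x) = aIdx hf p H * zIdx hf H p.xx * dNum hf p H := by
  have hI : H.relIndex (vstab f x) * Nat.card (H ⊓ vstab f x : Subgroup (GL ι F)) = Nat.card (vstab f x) := by
    rw [← Subgroup.inf_relIndex_right, Subgroup.relIndex, mul_comm,
      ← Nat.card_congr (Subgroup.subgroupOfEquivOfLe inf_le_right).toEquiv]
    exact Subgroup.card_mul_index _
  refine Nat.eq_of_mul_eq_mul_right (Nat.card_pos (α := (H ⊓ vstab f x : Subgroup (GL ι F)))) ?_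
  rw [hI, card_vstab hf p, ← dNum_mul hf p H, ← zIdx_mul hf H p.xx,
    card_inf_vstab hf p H, ← Subgroup.card_mul_index (lPar hf p H), aIdx]
  ring

end Cfsg.Agent.UMin
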