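/-
Counts of vectors of given norm in a non-degenerate Hermitian subspace.
-/
import Cfsg.Agent.Lib.UnitaryMinIndex.Data
import Cfsg.Agent.Lib.Classical.UnitaryCount

set_option autoImplicit false

namespace Cfsg.Agent.UMin

open Matrix Cfsg.Agent.Transvec Cfsg.Agent.Transvec.Herm

variable {ι : Type} [Fintype ι] [DecidableEq ι] {F : Type*} [Field F] [Finite F]
variable {σ : F ≃+* F} {f : (ι → F) → (ι → F) → F} (hf : Geo.IsUnitaryForm σ f)
include hf

theorem exists_model {X : Submodule F (ι → F)} (hX : Nondeg hf X) {n : ℕ} (hn : Module.finrank F X = n) :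
    ∃ ψ : (Fin n → F) ≃ₗ[F] X, ∀ a b, f (ψ a : ι → F) (ψ b) = Cfsg.hermForm n F (qn σ) a b := by
  letI : Fintype F := Fintype.ofFinite F
  have hne := ringHom_ne hf.ne_refl hf.involutive
  have hh : Hermitian.IsHerm (σ : F →+* F) (fun u v : X => f (u : ι → F) v) :=
    { ne_id := hne
      invol := hf.involutive
      add_left := fun a b v => hf.add_left _ _ _
      smul_left := fun c a v => hf.smul_left _ _ _
      symm := fun v w => hf.herm _ _
      nondeg := fun v hv => Subtype.ext ((nondeg_iff hf).1 hX v v.2 fun w hw =>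
        (f_eq_zero_comm hf).1 (hv ⟨w, hw⟩)) }
  exact UnitaryCount.exists_isometry hne hf.involutive
    (fun a => apply_eq_pow hf.ne_refl hf.involutive a) hh hn

/-- The non-zero isotropic vectors of a non-degenerate subspace. -/
theorem card_iso_sub {X : Submodule F (ι → F)} (hX : Nondeg hf X) {k : ℕ} (hk : Module.finrank F X = k + 1) :
    (({v | v ∈ X ∧ v ≠ 0 ∧ f v v = 0} : Set (ι → F)).ncard : ℤ) =
      ((qn σ : ℤ) ^ (k + 1) - (-1) ^ (k + 1)) * ((qn σ : ℤ) ^ k + (-1) ^ (k + 1)) := by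
  letI : Fintype F := Fintype.ofFinite F
  obtain ⟨ψ, hψ⟩ := exists_model hf hX hk
  rw [← UnitaryCount.card_iso_ne (ringHom_ne hf.ne_refl hf.involutive) hf.involutive
    (fun a => apply_eq_pow hf.ne_refl hf.involutive a) k (q := qn σ) rfl, ← Nat.card_coe_set_eq]
  refine congrArg Nat.cast (Nat.card_congr
    { toFun := fun v => ⟨ψ.symm ⟨v.1, v.2.1⟩, fun h => v.2.2.1 (by simpa using congrArg Subtype.val (congrArg ψ h)),
        by rw [← hψ, LinearEquiv.apply_symm_apply]; exact v.2.2.2⟩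
      invFun := fun a => ⟨ψ a.1, (ψ a.1).2, fun h => a.2.1 (ψ.injective (Subtype.ext (by simpa using h))),
        (hψ _ _).trans a.2.2⟩
      left_inv := fun v => Subtype.ext (by simp)
      right_inv := fun a => Subtype.ext (by simp) })

/-- The vectors of a given non-zero norm in a non-degenerate subspace. -/
theorem card_norm_sub {X : Submodule F (ι → F)} (hX : Nondeg hf X) {k : ℕ} (hk : Module.finrank F X = k + 1)
    {c : F} (hc : σ c = c) (hc0 : c ≠ 0) :
    (({v | v ∈ X ∧ v ≠ 0 ∧ f v v = c} : Set (ι → F)).ncard : ℤ) =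
      (qn σ : ℤ) ^ k * ((qn σ : ℤ) ^ (k + 1) - (-1) ^ (k + 1)) := by
  letI : Fintype F := Fintype.ofFinite F
  obtain ⟨ψ, hψ⟩ := exists_model hf hX hk
  obtain ⟨b, hb⟩ := exists_norm hf.ne_refl hf.involutive c hc
  have hb0 : b ≠ 0 := fun h => hc0 (by rw [← hb, h, zero_mul])
  have key : ∀ (a : F) (v : ι → F), f (a • v) (a • v) = a * σ a * f v v := fun a v => by
    rw [hf.smul_left, Herm.smul_right hf, mul_assoc]
  have h := HermStd.card_norm_mul (ringHom_ne hf.ne_refl hf.involutive) hf.involutive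
    (fun a => apply_eq_pow hf.ne_refl hf.involutive a) (k + 1) (q := qn σ) rfl
  have hq0 : (qn σ : ℤ) ≠ 0 := by exact_mod_cast (Nat.card_pos (α := fixedField σ)).ne'
  refine mul_left_cancel₀ hq0 ?_
  rw [← Nat.card_coe_set_eq]
  let e : {v : ι → F // v ∈ X ∧ v ≠ 0 ∧ f v v = c} ≃
      {a : Fin (k + 1) → F // Cfsg.hermForm (k + 1) F (qn σ) a a = 1} :=
    { toFun := fun v => (⟨ψ.symm ⟨b⁻¹ • v.1, X.smul_mem _ v.2.1⟩, by
          rw [← hψ, LinearEquiv.apply_symm_apply]
          show f (b⁻¹ • v.1) (b⁻¹ • v.1) = 1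
          rw [key, v.2.2.2, map_inv₀, ← mul_inv, hb, inv_mul_cancel₀ hc0]⟩)
      invFun := fun a => ⟨b • (ψ a.1 : ι → F), X.smul_mem _ (ψ a.1).2, fun h0 => hc0 (by
          rw [← hb, ← mul_one (b * σ b), ← a.2, ← hψ, ← key, h0, zero_left hf]), by
          rw [key, hψ, a.2, mul_one, hb]⟩
      left_inv := fun v => Subtype.ext (by simp [smul_inv_smul₀ hb0])
      right_inv := fun a => Subtype.ext (ψ.injective (Subtype.ext (by simp [inv_smul_smul₀ hb0]))) }
  exact (congrArg (fun N : ℕ => (qn σ : ℤ) * (N : ℤ)) (Nat.card_congr e)).trans (h.trans (by ring))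

end Cfsg.Agent.UMin
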