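/-
The middle group is transitive on the non-zero vectors of given norm of the middle space.
-/
import Cfsg.Agent.Lib.UnitaryMinIndex.Data

set_option autoImplicit false

namespace Cfsg.Agent.UMin

open Matrix Cfsg.Agent.Transvec Cfsg.Agent.Transvec.Herm Cfsg.Agent.UnitarySimple

variable {ι : Type} [Fintype ι] [DecidableEq ι] {F : Type*} [Field F]
variable {σ : F ≃+* F} {f : (ι → F) → (ι → F) → F} (hf : Geo.IsUnitaryForm σ f)
include hf

/-- Two partners of e differ by an element of the radical at e. -/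
theorem exists_partner_shift {e d d' : ι → F} (p : Pair f e d) (p' : Pair f e d') :
    ∃ g ∈ sug f, mv g e = e ∧ mv g d = d' ∧ ∀ z, f z e = 0 → f z d = 0 → f z d' = 0 → mv g z = z := by
  set v := d' - f d' d • e - f d' e • d with hv'
  have hd'e : f d' e = 1 := p'.yx hf
  have hv : v ∈ wSp hf e d := p.proj_mem hf d'
  have he : d' = d + v + f d' d • e := by rw [hv', hd'e, one_smul]; abel
  have hl : f d' d + σ (f d' d) + f v v = 0 := by
    have h := p'.yy
    generalize hL : f d' d = L at he ⊢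
    rw [he] at h
    simp only [hf.add_left, Herm.add_right hf, hf.smul_left, Herm.smul_right hf, p.xx, p.yy, p.xy, p.yx hf,
      p.left_x hf hv, p.left_y hf hv, p.right_x hf hv, p.right_y hf hv] at h
    linear_combination h
  refine ⟨qel hf e v (f d' d), qel_mem hf p.xx (p.left_x hf hv) hl, qel_apex hf p.xx (p.left_x hf hv) _, ?_,
    fun z hze hzd hzd' => qel_fix hf p.xx (p.left_x hf hv) _ hze ?_⟩
  · rw [qel_y hf p hv]; exact he.symm
  · rw [hv', Herm.sub_right hf, Herm.sub_right hf, Herm.smul_right hf, Herm.smul_right hf, hze, hzd, hzd']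
    ring

variable {x y : ι → F} (p : Pair f x y)
include p

theorem mem_lev_of_fix {g : GL ι F} (hg : g ∈ sug f)
    (h : ∀ z, (∀ v ∈ wSp hf x y, f z v = 0) → mv g z = z) : g ∈ lev f x y :=
  mem_lev.2 ⟨hg, h x fun _ hv => p.right_x hf hv, h y fun _ hv => p.right_y hf hv⟩

theorem htv_mem_lev {v : ι → F} (hv : v ∈ wSp hf x y) (hvv : f v v = 0) {c : F} (hc : σ c = -c) :
    htv hf v hvv c ∈ lev f x y :=
  mem_lev_of_fix hf p ⟨htv_mem hf v hvv hc, htv_mem_specialLinear hf v hvv c⟩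
    fun _ hz => htv_fix hf v hvv c (hz v hv)

theorem torPr_mem_lev {e d r : ι → F} (q : Pair f e d) (he : e ∈ wSp hf x y) (hd : d ∈ wSp hf x y)
    (hr : r ∈ wSp hf x y) (hrr : f r r ≠ 0) {t : F} (ht : t ≠ 0) :
    tor hf e d t * pr hf r (σ t / t) ∈ lev f x y := by
  have hst : σ t ≠ 0 := sig_ne_zero hf ht
  have hu : σ t / t * σ (σ t / t) = 1 := by
    rw [map_div₀, hf.involutive]; field_simp
  have hu0 : σ t / t ≠ 0 := div_ne_zero hst ht
  refine mem_lev_of_fix hf p (mem_sug.2 ⟨fun a b => by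
    rw [mv_mul, mv_mul, tor_isom hf q.xx q.yy q.xy ht, pr_isom hf hrr hu], by
    rw [det_mul', det_tor hf q.xx q.yy q.xy ht, det_pr hf hrr hu0]
    field_simp⟩) fun z hz => ?_
  rw [mv_mul, pr_fix hf hrr hu0 (hz r hr), tor_fix hf q.xx q.yy q.xy ht (hz e he) (hz d hd)]

variable [Finite F] (h3 : 3 ≤ Module.finrank F (wSp hf x y))
include h3

omit [Finite F] in
/-- A hyperbolic pair in the middle space leaves an anisotropic vector orthogonal to it. -/
theorem exists_aniso_perp {e d : ι → F} (q : Pair f e d) (he : e ∈ wSp hf x y) (hd : d ∈ wSp hf x y) :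
    ∃ r ∈ wSp hf x y, f r r ≠ 0 ∧ f e r = 0 ∧ f d r = 0 := by
  have hle : Submodule.span F {e, d} ≤ wSp hf x y := Submodule.span_le.2 (by
    rintro v (rfl | rfl) <;> assumption)
  have hn := (nondeg_pair hf q.xx q.yy q.xy).1
  have h := finrank_inf_orth_add hf hn hle
  rw [(nondeg_pair hf q.xx q.yy q.xy).2] at h
  have hne : wSp hf x y ⊓ orth hf (Submodule.span F ({e, d} : Set (ι → F))) ≠ ⊥ := fun h0 => by
    rw [h0, finrank_bot] at h; omega
  obtain ⟨r, hr, hrr⟩ := exists_anisotropic hf (nondeg_inf_orth hf hn (p.nondeg hf) hle) hne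
  exact ⟨r, hr.1, hrr, ((mem_wSp hf).1 hr.2).1, ((mem_wSp hf).1 hr.2).2⟩

/-- The middle group multiplies isotropic vectors by every scalar. -/
theorem exists_lev_scale {u : ι → F} (hu : u ∈ wSp hf x y) (hu0 : u ≠ 0) (huu : f u u = 0) {t : F} (ht : t ≠ 0) :
    ∃ g ∈ lev f x y, mv g u = t • u := by
  obtain ⟨d, hd, hud, hdd⟩ := exists_partner hf (p.nondeg hf) hu hu0 huu
  obtain ⟨r, hr, hrr, hur, -⟩ := exists_aniso_perp hf p h3 ⟨huu, hdd, hud⟩ hu hd
  refine ⟨_, torPr_mem_lev hf p ⟨huu, hdd, hud⟩ hu hd hr hrr ht, ?_⟩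
  rw [mv_mul, pr_fix hf hrr (div_ne_zero (sig_ne_zero hf ht) ht) hur, tor_fst hf huu hdd hud ht]

/-- The middle group is transitive on non-zero isotropic vectors. -/
theorem exists_lev_iso {u w : ι → F} (hu : u ∈ wSp hf x y) (hw : w ∈ wSp hf x y) (hu0 : u ≠ 0) (hw0 : w ≠ 0)
    (huu : f u u = 0) (hww : f w w = 0) : ∃ g ∈ lev f x y, mv g u = w := by
  obtain ⟨t, ht0, ht⟩ := exists_anti hf.ne_refl hf.involutive
  have step : ∀ {u w : ι → F}, u ∈ wSp hf x y → w ∈ wSp hf x y → f u u = 0 → f w w = 0 → f u w ≠ 0 →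
      ∃ g ∈ lev f x y, mv g u = w := by
    intro u w hu hw huu hww huw
    have hu0 : u ≠ 0 := fun h => huw (by rw [h, zero_left hf])
    have hw0 : w ≠ 0 := fun h => huw (by rw [h, zero_right hf])
    set s := σ (t / f u w)
    have hs0 : s ≠ 0 := sig_ne_zero hf (div_ne_zero ht0 huw)
    have hsw : f (s • w) (s • w) = 0 := by rw [hf.smul_left, Herm.smul_right hf, hww, mul_zero, mul_zero]
    have hus : f u (s • w) = t := by rw [Herm.smul_right hf, hf.involutive, div_mul_cancel₀ _ huw]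
    obtain ⟨hv, hc, hm⟩ := htv_map hf huu hsw (hus ▸ ht0) (by rw [hus, ht])
    obtain ⟨g, hg, hgw⟩ := exists_lev_scale hf p h3 ((wSp hf x y).smul_mem s hw) (smul_ne_zero hs0 hw0) hsw
      (inv_ne_zero hs0)
    refine ⟨_, mul_mem hg (htv_mem_lev hf p ((wSp hf x y).sub_mem ((wSp hf x y).smul_mem s hw) hu) hv hc), ?_⟩
    rw [mv_mul, hm, hgw, smul_smul, inv_mul_cancel₀ hs0, one_smul]
  by_cases huw : f u w = 0
  swap
  · exact step hu hw huu hww huw
  by_cases hk : ∃ k : F, w = k • u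
  · obtain ⟨k, rfl⟩ := hk
    exact exists_lev_scale hf p h3 hu hu0 huu fun h => hw0 (by rw [h, zero_smul])
  push Not at hk
  obtain ⟨φ, hφu, hφw⟩ := exists_dual_pair hf hk hu0 1 1
  obtain ⟨d, hd, hdf⟩ := exists_rep hf (p.nondeg hf) φ
  have hud : f u d = 1 := by rw [← hdf u hu, hφu]
  have hwd : f w d = 1 := by rw [← hdf w hw, hφw]
  obtain ⟨b, hb⟩ := exists_trace hf.ne_refl hf.involutive (-f d d) (by rw [map_neg, self_fixed hf])
  have hwu : f w u = 0 := (f_eq_zero_comm hf).1 huw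
  have hdu : f d u = 1 := by rw [hf.herm, hud, map_one]
  set d' := d + b • u with hd'
  have h1 : f u d' = 1 := by rw [hd', Herm.add_right hf, Herm.smul_right hf, huu, mul_zero, add_zero, hud]
  have h2 : f w d' = 1 := by rw [hd', Herm.add_right hf, Herm.smul_right hf, hwu, mul_zero, add_zero, hwd]
  have h3' : f d' d' = 0 := by
    simp only [hd', hf.add_left, Herm.add_right hf, hf.smul_left, Herm.smul_right hf, huu, hud, hdu]
    linear_combination hb
  have hd'm : d' ∈ wSp hf x y := (wSp hf x y).add_mem hd ((wSp hf x y).smul_mem b hu)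
  obtain ⟨g, hg, hgu⟩ := step hu hd'm huu h3' (by rw [h1]; exact one_ne_zero)
  obtain ⟨g', hg', hgd⟩ := step hd'm hw h3' hww (fun h => one_ne_zero (h2 ▸ (f_eq_zero_comm hf).1 h))
  exact ⟨g' * g, mul_mem hg' hg, by rw [mv_mul, hgu, hgd]⟩

/-- The middle group is transitive on vectors of given norm. -/
theorem exists_lev_move {u w : ι → F} (hu : u ∈ wSp hf x y) (hw : w ∈ wSp hf x y) (hu0 : u ≠ 0) (hw0 : w ≠ 0)
    (h : f u u = f w w) : ∃ g ∈ lev f x y, mv g u = w := by
  by_cases huu : f u u = 0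
  · exact exists_lev_iso hf p h3 hu hw hu0 hw0 huu (h ▸ huu)
  obtain ⟨b, hb⟩ := exists_trace hf.ne_refl hf.involutive (f u u) (self_fixed hf u)
  have hb0 : b ≠ 0 := fun h => huu (by rw [← hb, h, map_zero, add_zero])
  obtain ⟨e, he, d, hd, hee, hdd, hed, rfl⟩ := exists_norm_pair hf (p.nondeg hf) (by omega) hu huu hb hb0
  obtain ⟨e', he', d', hd', hee', hdd', hed', rfl⟩ := exists_norm_pair hf (p.nondeg hf) (by omega) hw (h ▸ huu)
    (b := b) (by rw [← h, hb]) hb0
  have ne0 : ∀ {a c : ι → F}, f a c = 1 → a ≠ 0 := fun h0 ha => by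
    rw [ha, zero_left hf] at h0; exact zero_ne_one h0
  obtain ⟨g, hg, hge⟩ := exists_lev_iso hf p h3 he he' (ne0 hed) (ne0 hed') hee hee'
  have hgd : mv g d ∈ wSp hf x y := lev_wSp hf p hg hd
  have hg' := (mem_lev.1 hg).1
  obtain ⟨k, hk, hke, hkd, hkf⟩ := exists_partner_shift hf (e := e') (d := mv g d) (d' := d')
    ⟨hee', by rw [f_mv hg', hdd], by rw [← hge, f_mv hg', hed]⟩ ⟨hee', hdd', hed'⟩
  refine ⟨k * g, mul_mem (mem_lev_of_fix hf p hk fun z hz => hkf z (hz e' he') (hz _ hgd) (hz d' hd')) hg, ?_⟩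
  rw [mv_mul, mv_add, mv_smul, hge, mv_add, mv_smul, hke, hkd]

/-- The orbit of a vector of the middle space is its norm class. -/
theorem orbit_lev {u : ι → F} (hu : u ∈ wSp hf x y) (hu0 : u ≠ 0) :
    MulAction.orbit (lev f x y) u = {v | v ∈ wSp hf x y ∧ v ≠ 0 ∧ f v v = f u u} := by
  ext v
  constructor
  · rintro ⟨g, rfl⟩
    exact ⟨lev_wSp hf p g.2 hu, fun h => hu0 (mv_inj (g : GL ι F) (h.trans (mv_zero _).symm)),
      f_mv (mem_lev.1 g.2).1 u u⟩
  · rintro ⟨hv, hv0, he⟩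
    obtain ⟨g, hg, hgu⟩ := exists_lev_move hf p h3 hu hv hu0 hv0 he.symm
    exact ⟨⟨g, hg⟩, hgu⟩

end Cfsg.Agent.UMin
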