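/-
The norm classes of the middle space against the translates of the dual of the radical of a subgroup.
-/
import Cfsg.Agent.Lib.UnitaryMinIndex.Orbits
import Cfsg.Agent.Lib.UnitaryMinIndex.Counts

set_option autoImplicit false

namespace Cfsg.Agent.UMin

open Matrix Cfsg.Agent.Transvec Cfsg.Agent.Transvec.Herm Cfsg.Agent.UnitarySimple
open scoped Pointwise

variable {ι : Type} [Fintype ι] [DecidableEq ι] {F : Type*} [Field F]
variable {σ : F ≃+* F} {f : (ι → F) → (ι → F) → F}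

/-- The translates of D by the elements of the middle group fixing r. -/
def trSet (f : (ι → F) → (ι → F) → F) (x y : ι → F) (D : Set (ι → F)) (r : ι → F) : Set (Set (ι → F)) :=
  {E | ∃ g : lev f x y, g • r = r ∧ g • D = E}

theorem self_mem_trSet {x y : ι → F} {D : Set (ι → F)} {r : ι → F} : D ∈ trSet f x y D r :=
  ⟨1, one_smul _ r, one_smul _ D⟩

theorem lev_smul {x y : ι → F} (g : lev f x y) (v : ι → F) : g • v = mv (g : GL ι F) v := rfl

theorem mem_trSet {x y : ι → F} {D : Set (ι → F)} {r : ι → F} {g : lev f x y} (hg : mv (g : GL ι F) r = r) :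
    g • D ∈ trSet f x y D r := ⟨g, hg, rfl⟩

theorem mv_mem_smul {x y : ι → F} {D : Set (ι → F)} (g : lev f x y) {v : ι → F} (hv : v ∈ D) :
    mv (g : GL ι F) v ∈ g • D := Set.smul_mem_smul_set hv

variable (hf : Geo.IsUnitaryForm σ f)
include hf

/-- The non-zero vectors of norm c in the middle space. -/
def cls (x y : ι → F) (c : F) : Set (ι → F) := {v | v ∈ wSp hf x y ∧ v ≠ 0 ∧ f v v = c}

theorem mem_cls {x y : ι → F} {c : F} {v : ι → F} :
    v ∈ cls hf x y c ↔ v ∈ wSp hf x y ∧ v ≠ 0 ∧ f v v = c := Iff.rfl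

variable {x y : ι → F} (p : Pair f x y)
include p

theorem orbit_eq_cls [Finite F] {m : ℕ} (hm : Fintype.card ι = m + 2) (h3 : 3 ≤ m) {r : ι → F}
    (hr : r ∈ wSp hf x y) (hr0 : r ≠ 0) : MulAction.orbit (lev f x y) r = cls hf x y (f r r) :=
  orbit_lev hf p (by rw [p.finrank hf hm]; exact h3) hr hr0

variable [Finite F]

/-- The number of translates containing a vector. -/
noncomputable def bNum (H : Subgroup (GL ι F)) (r : ι → F) : ℕ :=
  Nat.card (bSet (lPar hf p H) (dPar hf p H : Set (ι → F)) r)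

variable {m : ℕ} (hm : Fintype.card ι = m + 2) (h3 : 3 ≤ m)
include hm h3

theorem cnt_eq (H : Subgroup (GL ι F)) {r : ι → F} (hr : r ∈ wSp hf x y) (hr0 : r ≠ 0) :
    aIdx hf p H * ((dPar hf p H : Set (ι → F)) ∩ cls hf x y (f r r)).ncard =
      (cls hf x y (f r r)).ncard * bNum hf p H r := by
  rw [← orbit_eq_cls hf p hm h3 hr hr0]
  exact count_eq (dPar_lPar hf p) r

theorem bNum_eq (H : Subgroup (GL ι F)) {r r' : ι → F} (hr : r ∈ wSp hf x y) (hr0 : r ≠ 0)
    (hr' : r' ∈ wSp hf x y) (hr0' : r' ≠ 0) (h : f r r = f r' r') : bNum hf p H r = bNum hf p H r' := by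
  obtain ⟨g, hg⟩ : r' ∈ MulAction.orbit (lev f x y) r := by
    rw [orbit_eq_cls hf p hm h3 hr hr0]; exact ⟨hr', hr0', h.symm⟩
  rw [← hg]
  exact (card_bSet_const (dPar_lPar hf p) r g).symm

omit hm h3 in
theorem tr_le_bNum (H : Subgroup (GL ι F)) {r : ι → F} (hr : r ∈ dPar hf p H) :
    Nat.card (trSet f x y (dPar hf p H) r) ≤ bNum hf p H r :=
  translates_le (dPar_lPar hf p) hr fun _ hE => hE

theorem cnt_le (H : Subgroup (GL ι F)) {r : ι → F} (hr : r ∈ dPar hf p H) (hr0 : r ≠ 0) :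
    (cls hf x y (f r r)).ncard * Nat.card (trSet f x y (dPar hf p H) r) ≤
      aIdx hf p H * ((dPar hf p H : Set (ι → F)) ∩ cls hf x y (f r r)).ncard := by
  rw [cnt_eq hf p hm h3 H (dPar_sub hf p hr) hr0]
  exact Nat.mul_le_mul_left _ (tr_le_bNum hf p H hr)

omit hm h3 in
theorem inter_add_le (H : Subgroup (GL ι F)) {c c' : F} (hc : c ≠ c') :
    ((dPar hf p H : Set (ι → F)) ∩ cls hf x y c).ncard + ((dPar hf p H : Set (ι → F)) ∩ cls hf x y c').ncard ≤
      dNum hf p H - 1 := by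
  rw [← Set.ncard_union_eq (Set.disjoint_left.2 fun v h1 h2 => hc (h1.2.2.2.symm.trans h2.2.2.2))
    (Set.toFinite _) (Set.toFinite _)]
  refine (Set.ncard_le_ncard (t := (dPar hf p H : Set (ι → F)) \ {0}) ?_ (Set.toFinite _)).trans ?_
  · rintro v (h | h) <;> exact ⟨h.1, h.2.2.1⟩
  · rw [Set.ncard_sdiff_singleton_of_mem (zero_mem _)]
    exact le_of_eq (by rw [dNum, ← Nat.card_coe_set_eq]; rfl)

omit hm h3 in
theorem inter_le (H : Subgroup (GL ι F)) (c : F) :
    ((dPar hf p H : Set (ι → F)) ∩ cls hf x y c).ncard ≤ dNum hf p H - 1 := by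
  refine (Set.ncard_le_ncard (t := (dPar hf p H : Set (ι → F)) \ {0}) (fun v h => ⟨h.1, h.2.2.1⟩)
    (Set.toFinite _)).trans ?_
  rw [Set.ncard_sdiff_singleton_of_mem (zero_mem _)]
  exact le_of_eq (by rw [dNum, ← Nat.card_coe_set_eq]; rfl)

omit hm h3 in
theorem dNum_pos (H : Subgroup (GL ι F)) : 0 < dNum hf p H := Nat.card_pos

/-- One class against the dual. -/
theorem cls_le (H : Subgroup (GL ι F)) {r : ι → F} (hr : r ∈ dPar hf p H) (hr0 : r ≠ 0) {k : ℕ}
    (hk : k ≤ Nat.card (trSet f x y (dPar hf p H) r)) :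
    (cls hf x y (f r r)).ncard * k + aIdx hf p H ≤ aIdx hf p H * dNum hf p H := by
  have h1 := (Nat.mul_le_mul_left _ hk).trans (cnt_le hf p hm h3 H hr hr0)
  have h2 := Nat.mul_le_mul_left (aIdx hf p H) (inter_le hf p H (f r r))
  have := dNum_pos hf p H
  rw [Nat.mul_sub, mul_one] at h2
  have h4 : aIdx hf p H ≤ aIdx hf p H * dNum hf p H := Nat.le_mul_of_pos_right _ this
  omega

/-- Two classes against the dual. -/
theorem cls_two_le (H : Subgroup (GL ι F)) {r r' : ι → F} (hr : r ∈ dPar hf p H) (hr0 : r ≠ 0)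
    (hr' : r' ∈ dPar hf p H) (hr0' : r' ≠ 0) (hne : f r r ≠ f r' r') :
    (cls hf x y (f r r)).ncard + (cls hf x y (f r' r')).ncard + aIdx hf p H ≤ aIdx hf p H * dNum hf p H := by
  have one : ∀ {s}, s ∈ dPar hf p H → s ≠ 0 →
      (cls hf x y (f s s)).ncard ≤ aIdx hf p H * ((dPar hf p H : Set (ι → F)) ∩ cls hf x y (f s s)).ncard := by
    intro s hs hs0
    refine le_trans ?_ (cnt_le hf p hm h3 H hs hs0)
    haveI : Nonempty (trSet f x y (dPar hf p H) s) := ⟨⟨_, self_mem_trSet⟩⟩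
    exact Nat.le_mul_of_pos_right _ Nat.card_pos
  have h1 := one hr hr0
  have h1' := one hr' hr0'
  have h2 := Nat.mul_le_mul_left (aIdx hf p H) (inter_add_le hf p H hne)
  have := dNum_pos hf p H
  rw [Nat.mul_sub, mul_one, mul_add] at h2
  have h4 : aIdx hf p H ≤ aIdx hf p H * dNum hf p H := Nat.le_mul_of_pos_right _ this
  omega

/-- Sizes of the classes. -/
theorem card_cls {c : F} (hc : σ c = c) (hc0 : c ≠ 0) :
    ((cls hf x y c).ncard : ℤ) = (qn σ : ℤ) ^ (m - 1) * ((qn σ : ℤ) ^ m - (-1) ^ m) := by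
  have h := card_norm_sub hf (p.nondeg hf) (k := m - 1) (by rw [p.finrank hf hm]; omega) hc hc0
  rw [show m - 1 + 1 = m by omega] at h
  exact h

theorem card_cls_zero :
    ((cls hf x y 0).ncard : ℤ) = ((qn σ : ℤ) ^ m - (-1) ^ m) * ((qn σ : ℤ) ^ (m - 1) + (-1) ^ m) := by
  have h := card_iso_sub hf (p.nondeg hf) (k := m - 1) (by rw [p.finrank hf hm]; omega)
  rw [show m - 1 + 1 = m by omega] at h
  exact h

omit hm h3 in
/-- A translate fixed on a vector met once is the dual itself. -/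
theorem smul_eq_of_one (H : Subgroup (GL ι F)) {r : ι → F} (hb : bNum hf p H r = 1) {g : lev f x y}
    {r' : ι → F} (hr' : r' ∈ dPar hf p H) (hr : r ∈ dPar hf p H) (hg : mv (g : GL ι F) r' = r) :
    g • (dPar hf p H : Set (ι → F)) = dPar hf p H := by
  have hD := dPar_lPar hf p (H := H)
  have h1 : ((1 : lev f x y) : lev f x y ⧸ lPar hf p H) ∈ bSet (lPar hf p H) (dPar hf p H : Set (ι → F)) r :=
    (mk_mem_bSet hD _).2 (by rw [inv_one, one_smul]; exact hr)
  have h2 : (g : lev f x y ⧸ lPar hf p H) ∈ bSet (lPar hf p H) (dPar hf p H : Set (ι → F)) r :=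
    (mk_mem_bSet hD _).2 (by rw [← hg, ← lev_smul, inv_smul_smul]; exact hr')
  have hsub : Subsingleton (bSet (lPar hf p H) (dPar hf p H : Set (ι → F)) r) :=
    (Nat.card_eq_one_iff_unique.1 hb).1
  have h3 := congrArg Subtype.val (hsub.elim ⟨_, h1⟩ ⟨_, h2⟩)
  rw [QuotientGroup.eq, inv_one, one_mul] at h3
  refine Set.ext fun v => ⟨?_, fun hv => ?_⟩
  · rintro ⟨w, hw, rfl⟩; exact hD g h3 w hw
  · exact Set.mem_smul_set_iff_inv_smul_mem.2 (hD _ ((lPar hf p H).inv_mem h3) v hv)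

end Cfsg.Agent.UMin
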