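/-
The arithmetic of the double count in a three-dimensional middle space.
-/
import Mathlib

set_option autoImplicit false

namespace Cfsg.Agent.UMin

theorem pow_succ_not_dvd {p i f : ℕ} (hp : 2 ≤ p) (hif : f < i) (hi : i < 3 * f) :
    ¬ p ^ i + 1 ∣ p ^ (3 * f) + 1 := by
  intro h
  have hs : ∃ s, 3 * f = s + i ∧ 0 < s := ⟨3 * f - i, by omega, by omega⟩
  obtain ⟨s, hs, hs0⟩ := hs
  have h1 : p ^ i + 1 ∣ p ^ s * (p ^ i + 1) := dvd_mul_left _ _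
  rw [hs, pow_add] at h
  have h2 : ((p ^ i + 1 : ℕ) : ℤ) ∣ (p : ℤ) ^ s - 1 := by
    have e1 : ((p ^ i + 1 : ℕ) : ℤ) ∣ ((p ^ s * (p ^ i + 1) : ℕ) : ℤ) := Int.natCast_dvd_natCast.2 h1
    have e2 : ((p ^ i + 1 : ℕ) : ℤ) ∣ ((p ^ s * p ^ i + 1 : ℕ) : ℤ) := Int.natCast_dvd_natCast.2 h
    have e3 := dvd_sub e1 e2
    push_cast at e3 ⊢
    rwa [show (p : ℤ) ^ s * ((p : ℤ) ^ i + 1) - ((p : ℤ) ^ s * (p : ℤ) ^ i + 1) = (p : ℤ) ^ s - 1 by ring] at e3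
  rcases Nat.lt_or_ge s i with hsi | hsi
  · have h3 : (1 : ℤ) < (p : ℤ) ^ s := by
      exact_mod_cast Nat.one_lt_pow (by omega) (by omega : 1 < p)
    have h4 : (p : ℤ) ^ s < (p : ℤ) ^ i := by
      exact_mod_cast Nat.pow_lt_pow_right (by omega : 1 < p) hsi
    have := Int.le_of_dvd (by linarith) h2
    push_cast at this
    linarith
  · obtain ⟨r, rfl⟩ : ∃ r, s = r + i := ⟨s - i, by omega⟩
    have e1 : ((p ^ i + 1 : ℕ) : ℤ) ∣ (p : ℤ) ^ r * ((p ^ i + 1 : ℕ) : ℤ) := dvd_mul_left _ _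
    have e2 := dvd_sub e1 h2
    push_cast at e2
    rw [show (p : ℤ) ^ r * ((p : ℤ) ^ i + 1) - ((p : ℤ) ^ (r + i) - 1) = (p : ℤ) ^ r + 1 by ring] at e2
    have h3 : (0 : ℤ) < (p : ℤ) ^ r + 1 := by positivity
    have h4 : (p : ℤ) ^ r < (p : ℤ) ^ i := by
      exact_mod_cast Nat.pow_lt_pow_right (by omega : 1 < p) (by omega : r < i)
    have := Int.le_of_dvd h3 e2
    linarith

theorem one_add_sq_le {q c k : ℤ} (hq : 2 ≤ q) (hc0 : 0 ≤ c) (hc1 : c ≠ 1) (h : c = 1 + q ^ 2 * k) :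
    1 + q ^ 2 ≤ c := by
  have hq4 : 4 ≤ q ^ 2 := by nlinarith
  rcases lt_trichotomy k 0 with hk | hk | hk
  · have := mul_le_mul_of_nonneg_left (show k ≤ -1 by omega) (show (0 : ℤ) ≤ q ^ 2 by positivity)
    linarith
  · exact absurd (by rw [h, hk, mul_zero, add_zero]) hc1
  · have := mul_le_mul_of_nonneg_left (show 1 ≤ k by omega) (show (0 : ℤ) ≤ q ^ 2 by positivity)
    linarith

theorem cube_lt_four {q : ℤ} (hq : 2 ≤ q) : q ^ 3 < (q ^ 2 - 1) * (1 + q ^ 2) := by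
  have h3 : (8 : ℤ) ≤ q ^ 3 := by
    calc (8 : ℤ) = 2 ^ 3 := by norm_num
      _ ≤ q ^ 3 := pow_le_pow_left₀ (by norm_num) hq 3
  have h4 := mul_le_mul_of_nonneg_left hq (show (0 : ℤ) ≤ q ^ 3 by linarith)
  linarith [show (q ^ 2 - 1) * (1 + q ^ 2) = q ^ 3 * q - 1 by ring]

set_option maxHeartbeats 1000000 in
/-- The three-dimensional count. -/
theorem five_bound {p f e a q d X b₀ B : ℕ} (hp : p.Prime) (hf : 1 ≤ f) (hq : q = p ^ f) (hd : d = p ^ e)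
    (he : 3 * f ≤ e) (he' : e < 6 * f) (ha : 0 < a) (hX : X + b₀ = q ^ 2 * (b₀ + B))
    (hcount : a * (d - 1) = (q ^ 3 + 1) * X) :
    q ^ 6 + q ^ 4 + q + 1 ≤ a * d ∨ (d = q ^ 3 ∧ b₀ = 1) := by
  obtain ⟨i, rfl⟩ : ∃ i, e = 3 * f + i := ⟨e - 3 * f, by omega⟩
  set P := p ^ i with hP
  have hP1 : 1 ≤ P := Nat.one_le_pow _ _ hp.pos
  have hq2 : 2 ≤ q := by
    rw [hq]; exact le_trans hp.two_le (Nat.le_self_pow (by omega) p)
  have hdP : d = q ^ 3 * P := by rw [hd, hq, hP, ← pow_mul, ← pow_add]; ring_nf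
  subst hdP
  have hd1 : 1 ≤ q ^ 3 * P := Nat.one_le_iff_ne_zero.2 (Nat.mul_ne_zero (pow_ne_zero _ (by omega)) (by omega))
  zify [hd1] at hcount
  have hXz : (X : ℤ) + b₀ = (q : ℤ) ^ 2 * (b₀ + B) := by exact_mod_cast hX
  have hq2z : (2 : ℤ) ≤ q := by exact_mod_cast hq2
  have hP1z : (1 : ℤ) ≤ P := by exact_mod_cast hP1
  have haz : (0 : ℤ) < a := by exact_mod_cast ha
  have hbz : (0 : ℤ) ≤ b₀ := Int.natCast_nonneg _
  have hBz : (0 : ℤ) ≤ B := Int.natCast_nonneg _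
  have hXb : ((q : ℤ) ^ 2 - 1) * b₀ ≤ X := by nlinarith
  set j : ℤ := (a : ℤ) * P - X with hj
  have haX : (a : ℤ) + X = j * (q : ℤ) ^ 3 := by rw [hj]; linear_combination -hcount
  have hX0 : (0 : ℤ) ≤ X := Int.natCast_nonneg _
  have hj1 : 1 ≤ j := by
    have hq3 : (0 : ℤ) < (q : ℤ) ^ 3 := by positivity
    nlinarith
  have key : (X : ℤ) * (P + 1) + j = j * P * (q : ℤ) ^ 3 := by
    linear_combination (P : ℤ) * haX + hj
  have had : (a : ℤ) * ((q : ℤ) ^ 3 * P) = (q : ℤ) ^ 3 * (X + j) := by rw [hj]; ring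
  clear_value j
  by_cases hbig : (q : ℤ) ^ 3 + q + 1 ≤ X + j
  · left
    have : ((q : ℤ) ^ 6 + (q : ℤ) ^ 4 + q + 1 : ℤ) ≤ a * ((q : ℤ) ^ 3 * P) := by
      rw [had]
      have h1 := mul_le_mul_of_nonneg_left hbig (show (0 : ℤ) ≤ (q : ℤ) ^ 3 by positivity)
      nlinarith
    exact_mod_cast this
  push Not at hbig
  have hbig' : (X : ℤ) + j ≤ (q : ℤ) ^ 3 + q := by linarith
  have hq4 : (4 : ℤ) * q ≤ (q : ℤ) ^ 3 := by
    have h4 : (4 : ℤ) ≤ (q : ℤ) ^ 2 := by nlinarith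
    nlinarith
  rcases Nat.lt_or_ge P 2 with hP2 | hP2
  · -- d = q³
    have hPe : P = 1 := by omega
    rw [hPe, Nat.cast_one] at key
    rcases le_or_gt 3 j with hj3 | hj3
    · exfalso
      have := mul_le_mul_of_nonneg_right hj3 (show (0 : ℤ) ≤ (q : ℤ) ^ 3 + 1 by positivity)
      linarith
    · interval_cases j
      · -- j = 1
        exfalso
        have hk : (2 : ℤ) * b₀ = 1 + (q : ℤ) ^ 2 * (2 * (b₀ + B) - q) := by linear_combination 2 * hXz - key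
        have h1 := one_add_sq_le hq2z (show (0 : ℤ) ≤ 2 * b₀ by linarith) (by omega) hk
        have h2 := mul_le_mul_of_nonneg_left h1
          (show (0 : ℤ) ≤ (q : ℤ) ^ 2 - 1 by linarith [show (4 : ℤ) ≤ (q : ℤ) ^ 2 by nlinarith])
        linarith [cube_lt_four hq2z]
      · -- j = 2
        right
        refine ⟨by rw [hPe, mul_one], ?_⟩
        by_contra hb
        have hk : (b₀ : ℤ) = 1 + (q : ℤ) ^ 2 * (b₀ + B - q) := by linarith
        have h1 := one_add_sq_le hq2z hbz (fun h => hb (Int.ofNat_inj.1 h)) hk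
        have h2 := mul_le_mul_of_nonneg_left h1
          (show (0 : ℤ) ≤ (q : ℤ) ^ 2 - 1 by linarith [show (4 : ℤ) ≤ (q : ℤ) ^ 2 by nlinarith])
        linarith [cube_lt_four hq2z]
  have hP2z : (2 : ℤ) ≤ P := by exact_mod_cast hP2
  exfalso
  have key2 : ((X : ℤ) + j) * (P + 1) = j * P * ((q : ℤ) ^ 3 + 1) := by linear_combination key
  rcases le_or_gt 2 j with hj2 | hj2
  · have h1 : 4 * ((P : ℤ) + 1) ≤ 3 * (j * P) := by
      have := mul_le_mul_of_nonneg_right hj2 (show (0 : ℤ) ≤ P by linarith)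
      linarith
    have h2 := mul_le_mul_of_nonneg_right h1 (show (0 : ℤ) ≤ (q : ℤ) ^ 3 + 1 by positivity)
    have h3 : 4 * ((q : ℤ) ^ 3 + 1) ≤ 3 * (X + j) := by
      refine le_of_mul_le_mul_right ?_ (show (0 : ℤ) < P + 1 by linarith)
      nlinarith [key2]
    linarith
  have hj0 : j = 1 := by omega
  rw [hj0] at key
  have hk : (b₀ : ℤ) * (P + 1) = 1 + (q : ℤ) ^ 2 * ((b₀ + B) * (P + 1) - P * q) := by
    linear_combination (P + 1 : ℤ) * hXz - key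
  have hb1 : (1 : ℤ) + (q : ℤ) ^ 2 ≤ (b₀ : ℤ) * (P + 1) := by
    refine one_add_sq_le hq2z (by positivity) (fun h => ?_) hk
    rcases Int.eq_one_or_neg_one_of_mul_eq_one' h with ⟨-, h'⟩ | ⟨-, h'⟩ <;> linarith
  have hXP : ((q : ℤ) ^ 2 - 1) * ((b₀ : ℤ) * (P + 1)) ≤ P * (q : ℤ) ^ 3 - 1 := by
    have := mul_le_mul_of_nonneg_right hXb (show (0 : ℤ) ≤ (P : ℤ) + 1 by linarith)
    linarith
  have hqP : (q : ℤ) ≤ P := by
    have h2 := mul_le_mul_of_nonneg_left hb1 (show (0 : ℤ) ≤ (q : ℤ) ^ 2 - 1 by nlinarith)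
    refine le_of_mul_le_mul_right ?_ (show (0 : ℤ) < (q : ℤ) ^ 3 by positivity)
    nlinarith
  rcases hqP.eq_or_lt with hqe | hqlt
  · -- P = q
    rw [← hqe] at hXP hb1
    have h1 : (b₀ : ℤ) * (q + 1) ≤ (q : ℤ) ^ 2 + 1 := by
      refine le_of_mul_le_mul_left ?_ (show (0 : ℤ) < (q : ℤ) ^ 2 - 1 by nlinarith)
      nlinarith
    have h2 : (b₀ : ℤ) * (q + 1) = (q : ℤ) ^ 2 + 1 := by linarith
    have h3 : ((q : ℤ) + 1) ∣ 2 := ⟨(b₀ : ℤ) - q + 1, by linear_combination -h2⟩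
    have := Int.le_of_dvd (by norm_num) h3
    linarith
  · -- P > q
    have hPq : q < P := by exact_mod_cast hqlt
    have hdvd : P + 1 ∣ q ^ 3 + 1 := by
      have : ((P : ℤ) + 1) ∣ ((q : ℤ) ^ 3 + 1) := ⟨(q : ℤ) ^ 3 - X, by linear_combination key⟩
      exact_mod_cast this
    have hfi : f < i := by
      rw [hq, hP] at hPq
      exact (Nat.pow_lt_pow_iff_right hp.one_lt).1 hPq
    exact pow_succ_not_dvd hp.two_le hfi (by omega) (by rwa [hq, hP, ← pow_mul, mul_comm f 3] at hdvd)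

end Cfsg.Agent.UMin
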