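/-
The stabiliser of an isotropic point: the multipliers occurring in a subgroup, indices and orbits of points.
-/
import Cfsg.Agent.Lib.UnitaryMinIndex.Data
import Mathlib.LinearAlgebra.Projectivization.Cardinality

set_option autoImplicit false

namespace Cfsg.Agent.UMin

open Matrix Cfsg.Agent.Transvec Cfsg.Agent.Transvec.Herm Cfsg.Agent.UnitarySimple
open scoped LinearAlgebra.Projectivization

variable {ι : Type} [Fintype ι] [DecidableEq ι] {F : Type*} [Field F]
variable {σ : F ≃+* F} {f : (ι → F) → (ι → F) → F}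

/-- The stabiliser of the line of x. -/
def pline (f : (ι → F) → (ι → F) → F) (x : ι → F) : Subgroup (GL ι F) :=
  sug f ⊓ Geo.subspaceStabilizer (Submodule.span F {x})

theorem mem_pline {x : ι → F} (hx : x ≠ 0) {g : GL ι F} :
    g ∈ pline f x ↔ g ∈ sug f ∧ ∃ t : F, t ≠ 0 ∧ mv g x = t • x := by
  constructor
  · rintro ⟨hg, hs⟩
    obtain ⟨t, ht⟩ := Submodule.mem_span_singleton.1
      (mv_mem_of_mem_stab hs (Submodule.mem_span_singleton_self x))
    refine ⟨hg, t, fun h => hx ?_, ht.symm⟩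
    rw [h, zero_smul] at ht
    exact mv_inj g (ht.symm.trans (mv_zero g).symm)
  · rintro ⟨hg, t, -, ht⟩
    refine ⟨hg, mem_subspaceStabilizer_of_le fun v hv => ?_⟩
    obtain ⟨a, rfl⟩ := Submodule.mem_span_singleton.1 hv
    rw [mv_smul, ht, smul_smul]
    exact Submodule.smul_mem _ _ (Submodule.mem_span_singleton_self x)

theorem vstab_le_pline {x : ι → F} (hx : x ≠ 0) : vstab f x ≤ pline f x := fun _ hg =>
  (mem_pline hx).2 ⟨(mem_vstab.1 hg).1, 1, one_ne_zero, by rw [(mem_vstab.1 hg).2, one_smul]⟩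

/-- The multipliers at x of the elements of H fixing the line of x. -/
def tMul (f : (ι → F) → (ι → F) → F) (H : Subgroup (GL ι F)) (x : ι → F) : Subgroup Fˣ where
  carrier := {t | ∃ h ∈ H, h ∈ sug f ∧ mv h x = (t : F) • x}
  one_mem' := ⟨1, H.one_mem, (sug f).one_mem, by rw [mv_one, Units.val_one, one_smul]⟩
  mul_mem' := by
    rintro a b ⟨g, hg, hg', e⟩ ⟨h, hh, hh', e'⟩
    exact ⟨g * h, H.mul_mem hg hh, (sug f).mul_mem hg' hh', by
      rw [mv_mul, e', mv_smul, e, smul_smul, Units.val_mul, mul_comm]⟩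
  inv_mem' := by
    rintro a ⟨g, hg, hg', e⟩
    refine ⟨g⁻¹, H.inv_mem hg, (sug f).inv_mem hg', mv_inj g ?_⟩
    rw [mv_mv_inv, mv_smul, e, smul_smul, Units.inv_mul, one_smul]

variable (hf : Geo.IsUnitaryForm σ f) {x y : ι → F} (p : Pair f x y)
include hf p

theorem card_inf_pline [Finite F] (H : Subgroup (GL ι F)) :
    Nat.card (H ⊓ pline f x : Subgroup (GL ι F)) =
      Nat.card (tMul f H x) * Nat.card (H ⊓ vstab f x : Subgroup (GL ι F)) := by
  classical
  have hx := p.x_ne hf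
  choose g hg hgs hgx using fun t : tMul f H x => t.2
  let Φ : tMul f H x × (H ⊓ vstab f x : Subgroup (GL ι F)) → (H ⊓ pline f x : Subgroup (GL ι F)) := fun s =>
    ⟨g s.1 * s.2, H.mul_mem (hg s.1) s.2.2.1, (pline f x).mul_mem
      ((mem_pline hx).2 ⟨hgs s.1, _, Units.ne_zero _, hgx s.1⟩) (vstab_le_pline hx s.2.2.2)⟩
  rw [← Nat.card_prod]
  refine (Nat.card_congr (Equiv.ofBijective Φ ⟨?_, ?_⟩)).symm
  · rintro ⟨t, k⟩ ⟨t', k'⟩ h
    have h' : g t * (k : GL ι F) = g t' * k' := congrArg Subtype.val h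
    have h1 := congrArg (fun a => mv a x) h'
    simp only [mv_mul, (mem_vstab.1 k.2.2).2, (mem_vstab.1 k'.2.2).2, hgx] at h1
    obtain rfl : t = t' := Subtype.ext (Units.ext (smul_left_injective F hx h1))
    exact Prod.ext rfl (Subtype.ext (mul_left_cancel h'))
  · rintro ⟨h, hh, hhp⟩
    obtain ⟨hs, t, ht, htx⟩ := (mem_pline hx).1 hhp
    let t' : tMul f H x := ⟨Units.mk0 t ht, h, hh, hs, htx⟩
    refine ⟨(t', ⟨(g t')⁻¹ * h, H.mul_mem (H.inv_mem (hg t')) hh,
      mem_vstab.2 ⟨(sug f).mul_mem ((sug f).inv_mem (hgs t')) hs, mv_inj (g t') ?_⟩⟩), Subtype.ext ?_⟩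
    · rw [mv_mul, mv_mv_inv, htx, hgx]
      rfl
    · exact mul_inv_cancel_left _ _

variable [Finite F]

/-- Every multiplier occurs in the special unitary group. -/
theorem tMul_sug (h3 : 3 ≤ Fintype.card ι) : tMul f (sug f) x = ⊤ := by
  refine eq_top_iff.2 fun t _ => ?_
  have hN : Module.finrank F (ι → F) = Fintype.card ι := Module.finrank_pi F
  obtain ⟨r, hr, hrr⟩ := exists_anisotropic hf (p.nondeg hf) (fun h => by
    have := finrank_orth_add hf (nondeg_pair hf p.xx p.yy p.xy).1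
    rw [(nondeg_pair hf p.xx p.yy p.xy).2, show orth hf (Submodule.span F ({x, y} : Set (ι → F))) = ⊥ from h,
      finrank_bot] at this
    omega)
  have ht : (t : F) ≠ 0 := t.ne_zero
  have hst : σ (t : F) ≠ 0 := sig_ne_zero hf ht
  have hu : σ (t : F) / t * σ (σ (t : F) / t) = 1 := by
    rw [map_div₀, hf.involutive]; field_simp
  have hu0 : σ (t : F) / t ≠ 0 := div_ne_zero hst ht
  have hg : tor hf x y t * pr hf r (σ (t : F) / t) ∈ sug f := mem_sug.2 ⟨fun u v => by
      rw [mv_mul, mv_mul, tor_isom hf p.xx p.yy p.xy ht, pr_isom hf hrr hu], by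
      rw [det_mul', det_tor hf p.xx p.yy p.xy ht, det_pr hf hrr hu0]
      field_simp⟩
  exact ⟨_, hg, hg, by rw [mv_mul, pr_fix hf hrr hu0 (p.right_x hf hr), tor_fst hf p.xx p.yy p.xy ht]⟩

/-- The index at the stabiliser of the point. -/
theorem relIndex_pline (h3 : 3 ≤ Fintype.card ι) (H : Subgroup (GL ι F)) :
    H.relIndex (pline f x) * Nat.card (tMul f H x) =
      (qn σ ^ 2 - 1) * (aIdx hf p H * zIdx hf H p.xx * dNum hf p H) := by
  have key : ∀ K : Subgroup (GL ι F), H.relIndex K * Nat.card (H ⊓ K : Subgroup (GL ι F)) = Nat.card K := by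
    intro K
    rw [← Subgroup.inf_relIndex_right, Subgroup.relIndex, mul_comm,
      ← Nat.card_congr (Subgroup.subgroupOfEquivOfLe inf_le_right).toEquiv]
    exact Subgroup.card_mul_index _
  have hP : Nat.card (pline f x) = (qn σ ^ 2 - 1) * Nat.card (vstab f x) := by
    have h := card_inf_pline hf p (sug f)
    rw [inf_eq_right.2 (show pline f x ≤ sug f from inf_le_left),
      inf_eq_right.2 (show vstab f x ≤ sug f from inf_le_left), tMul_sug hf p h3, Subgroup.card_top,
      Nat.card_units, card_F hf.ne_refl hf.involutive] at h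
    exact h
  rw [← relIndex_vstab hf p H]
  refine Nat.eq_of_mul_eq_mul_right (Nat.card_pos (α := (H ⊓ vstab f x : Subgroup (GL ι F)))) ?_
  rw [mul_assoc, ← card_inf_pline hf p H, key, hP, mul_assoc, key]

omit [Finite F] in
/-- The multipliers act on the transvection parameters through the norm. -/
theorem norm_sPar (H : Subgroup (GL ι F)) {t : Fˣ} (ht : t ∈ tMul f H x) {c : F} (hc : c ∈ sPar hf H p.xx) :
    (t : F) * σ t * c ∈ sPar hf H p.xx := by
  obtain ⟨h, hh, hhs, hx⟩ := ht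
  refine ⟨by rw [map_mul, map_mul, hf.involutive, hc.1]; ring, ?_⟩
  have h1 := H.mul_mem (H.mul_mem hh hc.2) (H.inv_mem hh)
  rwa [qel_conj hf p.xx hhs (zero_left hf x), hx, mv_zero, qel_scale hf p.xx (zero_left hf x), smul_zero] at h1

/-- When not all transvections at x lie in H, the index at the point is at least q·a·d. -/
theorem le_relIndex_of_sPar (h3 : 3 ≤ Fintype.card ι) (H : Subgroup (GL ι F)) (hS : sPar hf H p.xx ≠ anti σ) :
    qn σ * (aIdx hf p H * dNum hf p H) ≤ H.relIndex (pline f x) := by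
  classical
  have : Fintype F := Fintype.ofFinite F
  set q := qn σ with hq
  have hq2 : 2 ≤ q := two_le_qn hf.ne_refl hf.involutive
  set S := sPar hf H p.xx with hSdef
  have hSle : S ≤ anti σ := fun c hc => hc.1
  obtain ⟨c₀, hc₀, hc₀S⟩ : ∃ c ∈ anti σ, c ∉ S := by
    by_contra h
    push Not at h
    exact hS (le_antisymm hSle h)
  set z := zIdx hf H p.xx with hz
  have hzq : z ≤ q := by
    rw [hq, ← zIdx_mul hf H p.xx]
    exact Nat.le_mul_of_pos_right _ Nat.card_pos
  -- the norms of the multipliers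
  let N : tMul f H x → F := fun t => ((t : Fˣ) : F) * σ ((t : Fˣ) : F)
  have hNS : ∀ b ∈ Set.range N, ∀ c ∈ S, b * c ∈ S := by
    rintro _ ⟨t, rfl⟩ c hc
    exact norm_sPar hf p H t.2 hc
  have hN0 : ∀ b ∈ Set.range N, b ≠ 0 ∧ σ b = b := by
    rintro _ ⟨t, rfl⟩
    exact ⟨mul_ne_zero (Units.ne_zero _) (sig_ne_zero hf (Units.ne_zero _)),
      by rw [map_mul, hf.involutive, mul_comm]⟩
  have hanti : ∀ b : Set.range N, (b : F) * c₀ ∈ anti σ := fun b => by
    rw [mem_anti, map_mul, (hN0 b b.2).2, show σ c₀ = -c₀ from hc₀, mul_neg]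
  let Φ : Set.range N → {c : anti σ ⧸ S.addSubgroupOf (anti σ) // c ≠ 0} := fun b =>
    ⟨QuotientAddGroup.mk (⟨(b : F) * c₀, hanti b⟩ : anti σ), fun h => by
      rw [QuotientAddGroup.eq_zero_iff, AddSubgroup.mem_addSubgroupOf] at h
      obtain ⟨t, ht⟩ := b.2
      simp only [← ht] at h
      exact absurd h (by
        intro h'
        apply hc₀S
        have := hNS _ ⟨t⁻¹, rfl⟩ _ h'
        simp only [N, InvMemClass.coe_inv, Units.val_inv_eq_inv_val, map_inv₀] at this
        rwa [show ((t : Fˣ) : F)⁻¹ * (σ ((t : Fˣ) : F))⁻¹ * (((t : Fˣ) : F) * σ ((t : Fˣ) : F) * c₀) = c₀ by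
          field_simp [Units.ne_zero, sig_ne_zero hf (Units.ne_zero (t : Fˣ))]] at this)⟩
  have hΦ : Function.Injective Φ := by
    rintro ⟨b, hb⟩ ⟨b', hb'⟩ h
    have h' := congrArg Subtype.val h
    simp only [Φ] at h'
    rw [QuotientAddGroup.eq, AddSubgroup.mem_addSubgroupOf, AddSubgroup.coe_add, AddSubgroup.coe_neg] at h'
    by_contra hne
    have hk : b' - b ≠ 0 := fun h0 => hne (Subtype.ext (sub_eq_zero.1 h0).symm)
    have hmap : ∀ c ∈ S, (b' - b) * c ∈ S := fun c hc => by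
      rw [sub_mul]; exact S.sub_mem (hNS _ hb' c hc) (hNS _ hb c hc)
    have hsurj : Function.Surjective fun c : S => (⟨(b' - b) * c, hmap c c.2⟩ : S) :=
      Finite.surjective_of_injective fun c d hcd =>
        Subtype.ext (mul_left_cancel₀ hk (congrArg Subtype.val hcd))
    obtain ⟨⟨c, hc⟩, hcd⟩ := hsurj ⟨-(b * c₀) + b' * c₀, h'⟩
    have h2 : (b' - b) * c = -(b * c₀) + b' * c₀ := congrArg Subtype.val hcd
    exact hc₀S (mul_left_cancel₀ hk (show (b' - b) * c = (b' - b) * c₀ by rw [h2]; ring) ▸ hc)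
  have hNT : Nat.card (Set.range N) ≤ z - 1 := by
    refine (Nat.card_le_card_of_injective Φ hΦ).trans ?_
    refine le_of_eq ?_
    show Nat.card ↥(({0} : Set (anti σ ⧸ S.addSubgroupOf (anti σ)))ᶜ) = z - 1
    rw [Nat.card_coe_set_eq, Set.ncard_compl, Set.ncard_singleton]
    rfl
  have hT : Nat.card (tMul f H x) ≤ (q + 1) * Nat.card (Set.range N) := by
    haveI : Fintype (Set.range N) := Fintype.ofFinite _
    rw [← Nat.card_congr (Equiv.sigmaFiberEquiv (fun t => (⟨N t, t, rfl⟩ : Set.range N))), Nat.card_sigma]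
    refine (Finset.sum_le_card_nsmul _ _ (q + 1) fun b _ => ?_).trans_eq ?_
    · rw [hq, ← card_norm_eq hf.ne_refl hf.involutive (hN0 b b.2).2 (hN0 b b.2).1]
      exact Nat.card_le_card_of_injective
        (fun t => ⟨((t.1 : Fˣ) : F), congrArg Subtype.val t.2⟩)
        fun t t' h => Subtype.ext (Subtype.ext (Units.ext (congrArg Subtype.val h)))
    · rw [Finset.card_univ, ← Nat.card_eq_fintype_card, smul_eq_mul, mul_comm]
  have h := relIndex_pline hf p h3 H
  refine Nat.le_of_mul_le_mul_right ?_ (Nat.card_pos (α := tMul f H x))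
  rw [h]
  obtain ⟨q', hq'⟩ : ∃ q', q = q' + 1 := ⟨q - 1, by omega⟩
  have hz1 : 1 ≤ z := Nat.pos_of_ne_zero AddSubgroup.index_ne_zero_of_finite
  calc q * (aIdx hf p H * dNum hf p H) * Nat.card (tMul f H x)
      ≤ q * (aIdx hf p H * dNum hf p H) * ((q + 1) * (z - 1)) :=
        Nat.mul_le_mul_left _ (hT.trans (Nat.mul_le_mul_left _ hNT))
    _ = (q + 1) * (q * (z - 1)) * (aIdx hf p H * dNum hf p H) := by ring
    _ ≤ (q + 1) * ((q - 1) * z) * (aIdx hf p H * dNum hf p H) := by
        refine Nat.mul_le_mul_right _ (Nat.mul_le_mul_left _ ?_)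
        rw [Nat.mul_sub, mul_one, Nat.sub_mul, one_mul]
        omega
    _ = _ := by
        rw [show q ^ 2 - 1 = (q + 1) * (q - 1) by simpa using Nat.sq_sub_sq q 1]
        ring

end Cfsg.Agent.UMin
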