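/-
The orbits of a subgroup on isotropic points and the comparison of indices.
-/
import Cfsg.Agent.Lib.UnitaryMinIndex.Point

set_option autoImplicit false

namespace Cfsg.Agent.UMin

open Matrix Cfsg.Agent.Transvec Cfsg.Agent.Transvec.Herm Cfsg.Agent.UnitarySimple
open scoped LinearAlgebra.Projectivization

variable {ι : Type} [Fintype ι] [DecidableEq ι] {F : Type*} [Field F]
variable {σ : F ≃+* F} {f : (ι → F) → (ι → F) → F}

/-- The isotropic points. -/
def isoPts (f : (ι → F) → (ι → F) → F) : Set (ℙ F (ι → F)) := {P | f P.rep P.rep = 0}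

/-- The image of the point of x. -/
def ptImage {x : ι → F} (hx : x ≠ 0) (g : GL ι F) : ℙ F (ι → F) :=
  Projectivization.mk F (mv g x) fun h => hx (mv_inj g (h.trans (mv_zero g).symm))

/-- The points in the orbit of the point of x. -/
def ptOrbit {x : ι → F} (hx : x ≠ 0) (H : Subgroup (GL ι F)) : Set (ℙ F (ι → F)) :=
  Set.range fun h : H => ptImage hx (h : GL ι F)

theorem ptImage_eq_iff {x : ι → F} (hx : x ≠ 0) {a b : GL ι F} :
    ptImage hx a = ptImage hx b ↔ ∃ t : F, t ≠ 0 ∧ mv (a⁻¹ * b) x = t • x := by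
  rw [ptImage, ptImage, Projectivization.mk_eq_mk_iff']
  constructor
  · rintro ⟨t, ht⟩
    have ht0 : t ≠ 0 := fun h => hx (mv_inj a (by rw [← ht, h, zero_smul, mv_zero]))
    refine ⟨t⁻¹, inv_ne_zero ht0, ?_⟩
    rw [mv_mul, show mv b x = t⁻¹ • mv a x by rw [← ht, smul_smul, inv_mul_cancel₀ ht0, one_smul], mv_smul,
      mv_inv_mv]
  · rintro ⟨t, ht, h⟩
    refine ⟨t⁻¹, ?_⟩
    rw [mv_mul] at h
    have h' := congrArg (mv a) h
    rw [mv_mv_inv, mv_smul] at h'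
    rw [h', smul_smul, inv_mul_cancel₀ ht, one_smul]

theorem card_ptOrbit {x : ι → F} (hx : x ≠ 0) {H : Subgroup (GL ι F)} (hH : H ≤ sug f) :
    Nat.card (ptOrbit hx H) = (pline f x).relIndex H := by
  refine SpMin.card_range_eq_index _ _ fun a b => ?_
  rw [ptImage_eq_iff hx, Subgroup.mem_subgroupOf, mem_pline hx]
  exact ⟨fun h => ⟨hH (a⁻¹ * b).2, h⟩, fun h => h.2⟩

theorem self_mem_ptOrbit {x : ι → F} (hx : x ≠ 0) (H : Subgroup (GL ι F)) :
    Projectivization.mk F x hx ∈ ptOrbit hx H :=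
  ⟨1, by simp only [ptImage, OneMemClass.coe_one, mv_one]⟩

theorem same_orbit {x y : ι → F} (hx : x ≠ 0) (hy : y ≠ 0) {H : Subgroup (GL ι F)} {P : ℙ F (ι → F)}
    (h1 : P ∈ ptOrbit hx H) (h2 : P ∈ ptOrbit hy H) : ∃ h ∈ H, ∃ t : F, t ≠ 0 ∧ mv h x = t • y := by
  obtain ⟨a, ha⟩ := h1
  obtain ⟨b, hb⟩ := h2
  have := ha.trans hb.symm
  simp only [ptImage, Projectivization.mk_eq_mk_iff'] at this
  obtain ⟨t, ht⟩ := this
  have ht0 : t ≠ 0 := fun h => hx (mv_inj _ (by rw [← ht, h, zero_smul, mv_zero]))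
  refine ⟨(b : GL ι F)⁻¹ * a, H.mul_mem (H.inv_mem b.2) a.2, t, ht0, ?_⟩
  rw [mv_mul, ← ht, mv_smul, mv_inv_mv]

variable [Finite F] (hf : Geo.IsUnitaryForm σ f)
include hf

omit [Finite F] in
theorem mk_mem_isoPts {x : ι → F} (hx : x ≠ 0) (hxx : f x x = 0) :
    Projectivization.mk F x hx ∈ isoPts f := mk_mem_pts hf hx hxx

theorem exists_sug_map (h4 : 4 ≤ Fintype.card ι) {u w : ι → F} (hu0 : u ≠ 0) (hw0 : w ≠ 0) (huu : f u u = 0)
    (hww : f w w = 0) : ∃ g ∈ sug f, mv g u = w := by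
  obtain ⟨g, hg, h, -⟩ := exists_move hf (nondeg_top hf) (by rw [finrank_top, Module.finrank_pi]; exact h4)
    (K := sug f) (fun v _ hv c hc => ⟨htv_mem hf v hv hc, htv_mem_specialLinear hf v hv c⟩)
    Submodule.mem_top Submodule.mem_top hu0 hw0 huu hww
  exact ⟨g, hg, h⟩

omit [Finite F] in
theorem ptOrbit_subset {x : ι → F} (hx : x ≠ 0) (hxx : f x x = 0) {H : Subgroup (GL ι F)} (hH : H ≤ sug f) :
    ptOrbit hx H ⊆ isoPts f := by
  rintro _ ⟨h, rfl⟩
  exact mk_mem_isoPts hf _ (by rw [f_mv (hH h.2), hxx])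

theorem ptOrbit_sug (h4 : 4 ≤ Fintype.card ι) {x : ι → F} (hx : x ≠ 0) (hxx : f x x = 0) :
    ptOrbit hx (sug f) = isoPts f := by
  refine Set.Subset.antisymm (ptOrbit_subset hf hx hxx le_rfl) fun P hP => ?_
  obtain ⟨g, hg, h⟩ := exists_sug_map hf h4 hx P.rep_nonzero hxx hP
  exact ⟨⟨g, hg⟩, by simp only [ptImage, h, P.mk_rep]⟩

/-- The comparison of the indices at a point and in the whole group. -/
theorem omega_mul (h4 : 4 ≤ Fintype.card ι) {x : ι → F} (hx : x ≠ 0) (hxx : f x x = 0)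
    {H : Subgroup (GL ι F)} (hH : H ≤ sug f) :
    H.relIndex (pline f x) * Nat.card (isoPts f) = Nat.card (ptOrbit hx H) * H.relIndex (sug f) := by
  rw [← ptOrbit_sug hf h4 hx hxx, card_ptOrbit hx hH, card_ptOrbit hx le_rfl, ← Subgroup.inf_relIndex_right H,
    Subgroup.relIndex_mul_relIndex (H ⊓ pline f x) (pline f x) (sug f) inf_le_right inf_le_left,
    ← Subgroup.relIndex_mul_relIndex _ _ _ inf_le_left hH, Subgroup.inf_relIndex_left]

omit [Finite F] in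
theorem isoPts_nonempty {x : ι → F} (hx : x ≠ 0) (hxx : f x x = 0) : Nonempty (isoPts f) :=
  ⟨⟨_, mk_mem_isoPts hf hx hxx⟩⟩

theorem omega_le (h4 : 4 ≤ Fintype.card ι) {x : ι → F} (hx : x ≠ 0) (hxx : f x x = 0)
    {H : Subgroup (GL ι F)} (hH : H ≤ sug f) : H.relIndex (pline f x) ≤ H.relIndex (sug f) := by
  haveI := isoPts_nonempty hf hx hxx
  refine Nat.le_of_mul_le_mul_right (c := Nat.card (isoPts f)) ?_ Nat.card_pos
  rw [omega_mul hf h4 hx hxx hH, mul_comm (H.relIndex (sug f))]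
  exact Nat.mul_le_mul_right _ (Nat.card_mono (Set.toFinite _) (ptOrbit_subset hf hx hxx hH))

theorem omega_add (h4 : 4 ≤ Fintype.card ι) {x y : ι → F} (hx : x ≠ 0) (hy : y ≠ 0) (hxx : f x x = 0)
    (hyy : f y y = 0) {H : Subgroup (GL ι F)} (hH : H ≤ sug f)
    (hne : ¬ ∃ h ∈ H, ∃ t : F, t ≠ 0 ∧ mv h x = t • y) :
    H.relIndex (pline f x) + H.relIndex (pline f y) ≤ H.relIndex (sug f) := by
  haveI := isoPts_nonempty hf hx hxx
  refine Nat.le_of_mul_le_mul_right (c := Nat.card (isoPts f)) ?_ Nat.card_pos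
  rw [add_mul, omega_mul hf h4 hx hxx hH, omega_mul hf h4 hy hyy hH, ← add_mul, mul_comm (H.relIndex (sug f))]
  refine Nat.mul_le_mul_right _ ?_
  rw [Nat.card_coe_set_eq, Nat.card_coe_set_eq, Nat.card_coe_set_eq, ← Set.ncard_union_eq
    (Set.disjoint_left.2 fun P h1 h2 => hne (same_orbit hx hy h1 h2)) (Set.toFinite _) (Set.toFinite _)]
  exact Set.ncard_le_ncard (Set.union_subset (ptOrbit_subset hf hx hxx hH) (ptOrbit_subset hf hy hyy hH))
    (Set.toFinite _)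

omit [Finite F] in
theorem smul_iso {x : ι → F} (hxx : f x x = 0) (a : F) : f (a • x) (a • x) = 0 := by
  rw [hf.smul_left, Herm.smul_right hf, hxx, mul_zero, mul_zero]

/-- Isotropic vectors against isotropic points. -/
theorem card_isoPts_mul : Nat.card (isoPts f) * (qn σ ^ 2 - 1) =
    Nat.card {v : ι → F // v ≠ 0 ∧ f v v = 0} := by
  rw [← card_F hf.ne_refl hf.involutive, ← Nat.card_units, ← Nat.card_prod]
  refine Nat.card_congr (Equiv.ofBijective
    (fun z : isoPts f × Fˣ => (⟨(z.2 : F) • z.1.1.rep, smul_ne_zero z.2.ne_zero z.1.1.rep_nonzero,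
      smul_iso hf z.1.2 _⟩ : {v : ι → F // v ≠ 0 ∧ f v v = 0})) ⟨?_, ?_⟩)
  · rintro ⟨P, a⟩ ⟨P', b⟩ h
    have h' : (a : F) • P.1.rep = (b : F) • P'.1.rep := congrArg Subtype.val h
    have hp : P.1 = P'.1 := by
      rw [← P.1.mk_rep, ← P'.1.mk_rep, Projectivization.mk_eq_mk_iff']
      exact ⟨(a : F)⁻¹ * b, by rw [mul_smul, ← h', smul_smul, inv_mul_cancel₀ a.ne_zero, one_smul]⟩
    obtain rfl := Subtype.ext hp
    exact Prod.ext rfl (Units.ext (smul_left_injective _ P.1.rep_nonzero h'))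
  · rintro ⟨v, hv, hvv⟩
    obtain ⟨a, ha⟩ := Projectivization.exists_smul_eq_mk_rep F v hv
    refine ⟨(⟨Projectivization.mk F v hv, mk_mem_isoPts hf hv hvv⟩, a⁻¹), Subtype.ext ?_⟩
    show ((a⁻¹ : Fˣ) : F) • (Projectivization.mk F v hv).rep = v
    rw [← ha, Units.smul_def, smul_smul, Units.inv_mul, one_smul]

end Cfsg.Agent.UMin
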