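/-
An additive group of isotropic vectors of the middle space that is not contained in one line has a member whose
stabiliser moves it to more than q places.
-/
import Cfsg.Agent.Lib.UnitaryMinIndex.Classes

set_option autoImplicit false

namespace Cfsg.Agent.UMin

open Matrix Cfsg.Agent.Transvec Cfsg.Agent.Transvec.Herm Cfsg.Agent.UnitarySimple
open scoped Pointwise

/-- A map into a small set with small fibres has a small source. -/
theorem card_le_of_fibres {α β : Type*} [Finite α] [Finite β] (Φ : α → β) {k N : ℕ} (hk : Nat.card β ≤ k)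
    (hN : ∀ a₀, Nat.card {a // Φ a = Φ a₀} ≤ N) : Nat.card α ≤ k * N := by
  classical
  haveI := Fintype.ofFinite β
  rw [← Nat.card_congr (Equiv.sigmaFiberEquiv Φ), Nat.card_sigma]
  refine le_trans (Finset.sum_le_card_nsmul _ _ N fun b _ => ?_) ?_
  · rcases isEmpty_or_nonempty {a // Φ a = b} with h | ⟨⟨a₀, ha₀⟩⟩
    · simp
    · exact ha₀ ▸ hN a₀
  · rw [Finset.card_univ, ← Nat.card_eq_fintype_card, smul_eq_mul]
    exact Nat.mul_le_mul_right _ hk

theorem mul_smul_mem {L V : Type*} [Group L] [MulAction L V] {D : Set V} {g g' : L} (h : g • D = g' • D) {d : V}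
    (hd : d ∈ D) : (g⁻¹ * g') • d ∈ D := by
  have h1 : g' • d ∈ g • D := h ▸ Set.smul_mem_smul_set hd
  rw [Set.mem_smul_set_iff_inv_smul_mem, ← mul_smul] at h1
  exact h1

variable {ι : Type} [Fintype ι] [DecidableEq ι] {F : Type*} [Field F]
variable {σ : F ≃+* F} {f : (ι → F) → (ι → F) → F} (hf : Geo.IsUnitaryForm σ f)
include hf

theorem closure_isotropic {s : Set (ι → F)} (hs : ∀ v ∈ s, f v v = 0) (hst : ∀ v ∈ s, ∀ w ∈ s, f v w + f w v = 0) :
    ∀ v ∈ AddSubgroup.closure s, f v v = 0 := by
  have h1 : ∀ v ∈ AddSubgroup.closure s, ∀ w ∈ s, f v w + f w v = 0 := by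
    intro v hv w hw
    induction hv using AddSubgroup.closure_induction with
    | mem a ha => exact hst a ha w hw
    | zero => rw [zero_left hf, zero_right hf, add_zero]
    | add a b _ _ ha hb => rw [hf.add_left, Herm.add_right hf]; linear_combination ha + hb
    | neg a _ ha => rw [neg_left hf, neg_right hf]; linear_combination -ha
  have h2 : ∀ v ∈ AddSubgroup.closure s, ∀ w ∈ AddSubgroup.closure s, f v w + f w v = 0 := by
    intro v hv w hw
    induction hw using AddSubgroup.closure_induction with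
    | mem a ha => exact h1 v hv a ha
    | zero => rw [zero_left hf, zero_right hf, add_zero]
    | add a b _ _ ha hb => rw [hf.add_left, Herm.add_right hf]; linear_combination ha + hb
    | neg a _ ha => rw [neg_left hf, neg_right hf]; linear_combination -ha
  intro v hv
  induction hv using AddSubgroup.closure_induction with
  | mem a ha => exact hs a ha
  | zero => rw [zero_left hf]
  | add a b ha' hb' ha hb =>
    rw [hf.add_left, Herm.add_right hf, Herm.add_right hf, ha, hb]
    linear_combination h2 a ha' b hb'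
  | neg a _ ha => rw [neg_left hf, neg_right hf, ha, neg_zero, neg_zero]

variable {x y : ι → F} (p : Pair f x y)
include p

theorem eichler_mem_lev {e v : ι → F} (he : e ∈ wSp hf x y) (hv : v ∈ wSp hf x y) (hee : f e e = 0)
    (hve : f v e = 0) {l : F} (hl : l + σ l + f v v = 0) : qel hf e v l ∈ lev f x y :=
  mem_lev_of_fix hf p (qel_mem hf hee hve hl) fun _ hz => qel_fix hf hee hve l (hz e he) (hz v hv)

variable [Finite F] {m : ℕ} (hm : Fintype.card ι = m + 2) (h3 : 3 ≤ m)
include hm h3

/-- With few translates, a singular additive group is orthogonal to w. -/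
theorem perp_of_singular {D : AddSubgroup (ι → F)} (hD : ∀ v ∈ D, v ∈ wSp hf x y) (hs : ∀ v ∈ D, f v v = 0)
    {w : ι → F} (hw : w ∈ D) (hk : Nat.card (trSet f x y (D : Set (ι → F)) w) ≤ qn σ) :
    ∀ d ∈ D, f d w = 0 := by
  classical
  intro d hd
  by_contra hc
  set c := f d w with hcdef
  set X := wSp hf x y
  have hww := hs w hw
  have hdd := hs d hd
  have q2 : Pair f w (c⁻¹ • d) := ⟨hww, by rw [hf.smul_left, Herm.smul_right hf, hdd, mul_zero, mul_zero], by
    rw [Herm.smul_right hf, hf.herm w d, ← hcdef, ← map_mul, inv_mul_cancel₀ hc, map_one]⟩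
  have hle : Submodule.span F {w, c⁻¹ • d} ≤ X := Submodule.span_le.2 (by
    rintro v (rfl | rfl)
    · exact hD _ hw
    · exact X.smul_mem _ (hD _ hd))
  have hn := (nondeg_pair hf q2.xx q2.yy q2.xy).1
  have hdim := finrank_inf_orth_add hf hn hle
  rw [(nondeg_pair hf q2.xx q2.yy q2.xy).2, p.finrank hf hm] at hdim
  set W' := X ⊓ orth hf (Submodule.span F ({w, c⁻¹ • d} : Set (ι → F))) with hW'
  have hW'n : Nondeg hf W' := nondeg_inf_orth hf hn (p.nondeg hf) hle
  have hvw : ∀ v : W', f (v : ι → F) w = 0 := fun v => q2.left_x hf v.2.2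
  have hdv : ∀ v : W', f d (v : ι → F) = 0 := fun v => by
    have h := q2.right_y hf v.2.2
    rw [hf.smul_left] at h
    exact (mul_eq_zero.1 h).resolve_left (inv_ne_zero hc)
  choose l hl using fun v : W' =>
    exists_trace hf.ne_refl hf.involutive (-f (v : ι → F) v) (by rw [map_neg, self_fixed hf])
  let g : W' → lev f x y := fun v => ⟨qel hf w (v : ι → F) (l v),
    eichler_mem_lev hf p (hD w hw) v.2.1 hww (hvw v) (by linear_combination hl v)⟩
  let Φ : W' → trSet f x y (D : Set (ι → F)) w := fun v =>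
    ⟨g v • (D : Set (ι → F)), mem_trSet (qel_apex hf hww (hvw v) _)⟩
  have hdiff : ∀ a v : W', Φ v = Φ a → f ((v : ι → F) - a) ((v : ι → F) - a) = 0 := by
    intro a v h
    have h1 := mul_smul_mem (congrArg Subtype.val h).symm hd
    rw [lev_smul] at h1
    have hcoe : (((g a)⁻¹ * g v : lev f x y) : GL ι F) =
        qel hf w (-(a : ι → F) + v) (-l a - f (a : ι → F) a + l v - f (v : ι → F) (-(a : ι → F))) := by
      rw [Subgroup.coe_mul, Subgroup.coe_inv]
      show (qel hf w (a : ι → F) (l a))⁻¹ * qel hf w (v : ι → F) (l v) = _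
      rw [qel_inv hf hww (hvw a), qel_mul hf hww (by rw [neg_left hf, hvw, neg_zero]) (hvw v)]
    generalize -l a - f (a : ι → F) a + l v - f (v : ι → F) (-(a : ι → F)) = L at hcoe
    rw [hcoe, mv_qel hf hww (by rw [hf.add_left, neg_left hf, hvw, hvw, neg_zero, add_zero]), ← hcdef,
      Herm.add_right hf, neg_right hf, hdv, hdv, neg_zero, add_zero, sub_zero, add_assoc] at h1
    have h2 := hs _ ((D.add_mem_cancel_left hd).1 h1)
    have e1 : f w (-(a : ι → F) + v) = 0 := (f_eq_zero_comm hf).1
      (by rw [hf.add_left, neg_left hf, hvw, hvw, neg_zero, add_zero])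
    rw [sub_eq_neg_add]
    generalize -(a : ι → F) + v = z at h2 e1 ⊢
    simp only [hf.add_left, Herm.add_right hf, hf.smul_left, Herm.smul_right hf, hww, e1,
      (f_eq_zero_comm hf).1 e1, mul_zero, add_zero] at h2
    simpa [hc] using h2
  obtain ⟨j, hj⟩ : ∃ j, Module.finrank F W' = j + 1 := ⟨Module.finrank F W' - 1, by omega⟩
  have hq2 : 2 ≤ qn σ := two_le_qn hf.ne_refl hf.involutive
  have hcard : Nat.card W' = qn σ ^ (2 * (j + 1)) := by
    rw [Module.natCard_eq_pow_finrank (K := F), hj, card_F hf.ne_refl hf.involutive, ← pow_mul]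
  rcases Nat.eq_zero_or_pos j with hj0 | hj0
  · -- the fibres are single
    obtain ⟨r, hr, hrr⟩ := exists_anisotropic hf hW'n (fun h0 => by rw [h0, finrank_bot] at hj; omega)
    have hline : Submodule.span F {r} = W' := Submodule.eq_of_le_of_finrank_eq
      ((Submodule.span_singleton_le_iff_mem _ _).2 hr) (by rw [finrank_span_single hf hrr, hj, hj0])
    have h := card_le_of_fibres Φ hk (N := 1) fun a => by
      haveI : Subsingleton {v // Φ v = Φ a} := by
        refine ⟨fun u v => Subtype.ext (Subtype.ext ?_)⟩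
        have h0 := hdiff v.1 u.1 (u.2.trans v.2.symm)
        obtain ⟨k, hk'⟩ := Submodule.mem_span_singleton.1
          (hline.symm ▸ W'.sub_mem u.1.2 v.1.2 : (u.1 : ι → F) - v.1 ∈ Submodule.span F {r})
        rw [← hk', hf.smul_left, Herm.smul_right hf, ← mul_assoc, mul_eq_zero] at h0
        rcases mul_eq_zero.1 (h0.resolve_right hrr) with h0 | h0
        · exact sub_eq_zero.1 (by rw [← hk', h0, zero_smul])
        · exact sub_eq_zero.1 (by rw [← hk', (map_eq_zero_iff σ σ.injective).1 h0, zero_smul])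
      exact Finite.card_le_one_iff_subsingleton.2 inferInstance
    rw [hcard, hj0, mul_one, zero_add, mul_one, pow_two] at h
    nlinarith
  · have h := card_le_of_fibres Φ hk (N := qn σ ^ (j + 1)) fun a => by
      let s : Set (ι → F) := Set.range fun v : {v // Φ v = Φ a} => ((v.1 : ι → F) - a)
      have hsK : ∀ v ∈ AddSubgroup.closure s, v ∈ W' := fun v hv => by
        refine (AddSubgroup.closure_le (K := W'.toAddSubgroup)).2 ?_ hv
        rintro _ ⟨u, rfl⟩
        exact W'.sub_mem u.1.2 a.2
      have hiso := closure_isotropic hf (s := s) (by rintro _ ⟨u, rfl⟩; exact hdiff a u.1 u.2) (by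
        rintro _ ⟨u, rfl⟩ _ ⟨u', rfl⟩
        have h0 := hdiff u'.1 u.1 (u.2.trans u'.2.symm)
        have hA := hdiff a u.1 u.2
        have hB := hdiff a u'.1 u'.2
        rw [show (u.1 : ι → F) - u'.1 = ((u.1 : ι → F) - a) - ((u'.1 : ι → F) - a) by abel] at h0
        show f ((u.1 : ι → F) - a) ((u'.1 : ι → F) - a) + f ((u'.1 : ι → F) - a) ((u.1 : ι → F) - a) = 0
        generalize (u.1 : ι → F) - a = A at hA h0 ⊢
        generalize (u'.1 : ι → F) - a = B at hB h0 ⊢
        rw [Herm.sub_left hf, Herm.sub_right hf, Herm.sub_right hf, hA, hB] at h0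
        linear_combination -h0)
      refine le_trans ?_ ((Nat.pow_le_pow_iff_left two_ne_zero).1
        (le_trans (card_sq_le_of_singular hf hW'n hsK hiso) (le_of_eq (by rw [hcard, mul_comm, pow_mul]))))
      exact Nat.card_le_card_of_injective (fun v => (⟨_, AddSubgroup.subset_closure ⟨v, rfl⟩⟩ :
        AddSubgroup.closure s)) fun u v he =>
          Subtype.ext (Subtype.ext (sub_left_injective (congrArg Subtype.val he)))
    rw [hcard, ← pow_succ'] at h
    exact absurd ((Nat.pow_le_pow_iff_right hq2).1 h) (by omega)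

omit hm h3 in
/-- A totally isotropic additive group reaching outside the line of w has many translates. -/
theorem big_of_not_line {D : AddSubgroup (ι → F)} (hD : ∀ v ∈ D, v ∈ wSp hf x y)
    (hperp : ∀ u ∈ D, ∀ v ∈ D, f u v = 0) {w d : ι → F} (hw : w ∈ D) (hw0 : w ≠ 0) (hd : d ∈ D)
    (hdw : d ∉ Submodule.span F {w}) : qn σ + 1 ≤ Nat.card (trSet f x y (D : Set (ι → F)) w) := by
  classical
  set X := wSp hf x y
  obtain ⟨φ, hφw, hφd⟩ := exists_dual_pair hf (u := w) (u' := d) (fun k hk =>
    hdw (by rw [hk]; exact Submodule.smul_mem _ k (Submodule.mem_span_singleton_self w))) hw0 0 1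
  obtain ⟨e₀, he₀, hef⟩ := exists_rep hf (p.nondeg hf) φ
  have hwe₀ : f w e₀ = 0 := by rw [← hef w (hD w hw), hφw]
  have hde₀ : f d e₀ = 1 := by rw [← hef d (hD d hd), hφd]
  have he₀d : f e₀ d = 1 := by rw [hf.herm, hde₀, map_one]
  obtain ⟨b, hb⟩ := exists_trace hf.ne_refl hf.involutive (-f e₀ e₀) (by rw [map_neg, self_fixed hf])
  set e := e₀ + b • d with he'
  have he : e ∈ X := X.add_mem he₀ (X.smul_mem b (hD d hd))
  have hwe : f w e = 0 := by
    rw [he', Herm.add_right hf, Herm.smul_right hf, hperp w hw d hd, hwe₀, mul_zero, add_zero]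
  have hde : f d e = 1 := by
    rw [he', Herm.add_right hf, Herm.smul_right hf, hperp d hd d hd, hde₀, mul_zero, add_zero]
  have hee : f e e = 0 := by
    simp only [he', hf.add_left, Herm.add_right hf, hf.smul_left, Herm.smul_right hf, hperp d hd d hd, hde₀, he₀d]
    linear_combination hb
  obtain ⟨t, ht0, ht⟩ := exists_anti hf.ne_refl hf.involutive
  have hke : f (σ t • e) (σ t • e) = 0 := by rw [hf.smul_left, Herm.smul_right hf, hee, mul_zero, mul_zero]
  have hdk : f d (σ t • e) = t := by rw [Herm.smul_right hf, hf.involutive, hde, mul_one]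
  obtain ⟨hv, hc, hmv⟩ := htv_map hf (hperp d hd d hd) hke (by rw [hdk]; exact ht0) (by rw [hdk, ht])
  let h : lev f x y := ⟨_, htv_mem_lev hf p (X.sub_mem (X.smul_mem _ he) (hD d hd)) hv hc⟩
  have hh : mv (h : GL ι F) w = w := htv_fix hf _ hv _
    (by rw [Herm.sub_right hf, Herm.smul_right hf, hwe, hperp w hw d hd, mul_zero, sub_zero])
  let τ : anti σ → lev f x y := fun η => ⟨htv hf e hee η, htv_mem_lev hf p he hee η.2⟩
  let Φ : Option (anti σ) → trSet f x y (D : Set (ι → F)) w := fun o =>
    o.elim ⟨h • (D : Set (ι → F)), mem_trSet hh⟩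
      fun η => ⟨τ η • (D : Set (ι → F)), mem_trSet (htv_fix hf e hee _ hwe)⟩
  have hnone : ∀ η, Φ none ≠ Φ (some η) := fun η he' => by
    have h1 : σ t • e ∈ τ η • (D : Set (ι → F)) := by
      rw [← show h • (D : Set (ι → F)) = τ η • (D : Set (ι → F)) from congrArg Subtype.val he', ← hmv]
      exact mv_mem_smul h hd
    rw [Set.mem_smul_set_iff_inv_smul_mem, show (τ η)⁻¹ • (σ t • e) = σ t • e from
      inv_smul_eq_iff.2 (by rw [lev_smul]; exact (htv_fix hf e hee _
        (by rw [hf.smul_left, hee, mul_zero])).symm)] at h1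
    exact ht0 (by rw [← hdk, hperp d hd _ h1])
  have hinj : Function.Injective Φ := by
    rintro (_ | η) (_ | η') he'
    · rfl
    · exact absurd he' (hnone η')
    · exact absurd he'.symm (hnone η)
    · refine congrArg some (Subtype.ext ?_)
      have h1 := mul_smul_mem (congrArg Subtype.val he') hd
      rw [lev_smul] at h1
      have hcoe : (((τ η)⁻¹ * τ η' : lev f x y) : GL ι F) = htv hf e hee (-(η : F) + η') := by
        rw [Subgroup.coe_mul, Subgroup.coe_inv, ← htv_add hf e hee]
        congr 1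
        exact inv_eq_of_mul_eq_one_right (by
          show htv hf e hee η * htv hf e hee (-(η : F)) = 1
          rw [htv_add, add_neg_cancel, htv_zero])
      rw [hcoe, mv_htv, hde, mul_one] at h1
      have h2 := hperp d hd _ ((D.add_mem_cancel_left hd).1 h1)
      rw [Herm.smul_right hf, hde, mul_one, map_eq_zero_iff σ σ.injective] at h2
      linear_combination -h2
  have := Nat.card_le_card_of_injective Φ hinj
  rwa [Finite.card_option, card_anti hf.ne_refl hf.involutive] at this

/-- A singular additive group lies in a line or has a member with many translates. -/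
theorem singular_dichotomy {D : AddSubgroup (ι → F)} (hD : ∀ v ∈ D, v ∈ wSp hf x y) (hs : ∀ v ∈ D, f v v = 0)
    {w : ι → F} (hw : w ∈ D) (hw0 : w ≠ 0) :
    (∀ d ∈ D, d ∈ Submodule.span F {w}) ∨
      ∃ r ∈ D, r ≠ 0 ∧ qn σ + 1 ≤ Nat.card (trSet f x y (D : Set (ι → F)) r) := by
  by_cases hall : ∀ r ∈ D, r ≠ 0 → Nat.card (trSet f x y (D : Set (ι → F)) r) ≤ qn σ
  · have hperp : ∀ u ∈ D, ∀ v ∈ D, f u v = 0 := fun u hu v hv => by
      rcases eq_or_ne v 0 with rfl | hv0
      · exact zero_right hf u
      · exact perp_of_singular hf p hm h3 hD hs hv (hall v hv hv0) u hu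
    by_contra hcon
    push Not at hcon
    obtain ⟨⟨d, hd, hdw⟩, hsmall⟩ := hcon
    exact absurd (big_of_not_line hf p hD hperp hw hw0 hd hdw) (not_le.2 (hsmall w hw hw0))
  · push Not at hall
    obtain ⟨r, hr, hr0, h⟩ := hall
    exact Or.inr ⟨r, hr, hr0, h⟩

end Cfsg.Agent.UMin
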