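/-
An additive group of the middle space with few translates under the stabiliser of one of its anisotropic members
is invariant under the transvections there, hence large.
-/
import Cfsg.Agent.Lib.UnitaryMinIndex.Singular

set_option autoImplicit false

namespace Cfsg.Agent.UMin

open Matrix Cfsg.Agent.Transvec Cfsg.Agent.Transvec.Herm Cfsg.Agent.UnitarySimple
open scoped Pointwise

variable {ι : Type} [Fintype ι] [DecidableEq ι] {F : Type*} [Field F]
variable {σ : F ≃+* F} {f : (ι → F) → (ι → F) → F} (hf : Geo.IsUnitaryForm σ f)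
include hf

/-- Commutators of radical elements are transvections. -/
theorem comm_sPar {x y : ι → F} (p : Pair f x y) {H : Subgroup (GL ι F)} {u v : ι → F}
    (hu : u ∈ kPar hf p H) (hv : v ∈ kPar hf p H) : f u v - f v u ∈ sPar hf H p.xx := by
  obtain ⟨huW, l, hl, hlH⟩ := hu
  obtain ⟨hvW, l', hl', hlH'⟩ := hv
  have hux := p.left_x hf huW
  have hvx := p.left_x hf hvW
  refine ⟨by rw [map_sub, ← hf.herm v u, ← hf.herm u v, neg_sub], ?_⟩
  have h := H.mul_mem (H.mul_mem hlH hlH') (H.inv_mem (H.mul_mem hlH' hlH))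
  rw [qel_mul hf p.xx hux hvx, qel_mul hf p.xx hvx hux, add_comm v u,
    qel_inv hf p.xx (by rw [hf.add_left, hux, hvx, add_zero]),
    qel_mul hf p.xx (by rw [hf.add_left, hux, hvx, add_zero])
      (by rw [neg_left hf, hf.add_left, hux, hvx, add_zero, neg_zero]), add_neg_cancel, neg_left hf] at h
  convert h using 2
  ring

/-- D absorbs the transvections at the isotropic vectors orthogonal to r. -/
def Inv (x y : ι → F) (D : AddSubgroup (ι → F)) (r : ι → F) : Prop :=
  ∀ e ∈ wSp hf x y, f e e = 0 → f e r = 0 → ∀ η : F, σ η = -η → ∀ d ∈ D, (η * f d e) • e ∈ D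

variable {x y : ι → F} (p : Pair f x y)
include p

/-- A single translate gives invariance. -/
theorem inv_of_one [Finite F] {D : AddSubgroup (ι → F)} {r : ι → F}
    (hk : Nat.card (trSet f x y (D : Set (ι → F)) r) ≤ 1) : Inv hf x y D r := by
  intro e he hee her η hη d hd
  let g : lev f x y := ⟨_, htv_mem_lev hf p he hee hη⟩
  have hg : g • (D : Set (ι → F)) = D := congrArg Subtype.val ((Finite.card_le_one_iff_subsingleton.1 hk).elim
    ⟨g • (D : Set (ι → F)), mem_trSet (htv_fix hf e hee η ((f_eq_zero_comm hf).1 her))⟩ ⟨D, self_mem_trSet⟩)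
  have h := mv_mem_smul g hd
  rw [hg, show mv (g : GL ι F) d = d + (η * f d e) • e from mv_htv hf e hee η d] at h
  exact (D.add_mem_cancel_left hd).1 h

variable {m : ℕ} (hm : Fintype.card ι = m + 2)
include hm

/-- The part of the middle space orthogonal to r. -/
theorem perp_props {r : ι → F} (hr : r ∈ wSp hf x y) (hrr : f r r ≠ 0) :
    Nondeg hf (wSp hf x y ⊓ orth hf (Submodule.span F {r})) ∧
      Module.finrank F ↥(wSp hf x y ⊓ orth hf (Submodule.span F {r})) + 1 = m := by
  have hle : Submodule.span F {r} ≤ wSp hf x y := (Submodule.span_singleton_le_iff_mem _ _).2 hr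
  have hn := nondeg_span_single hf hrr
  have h := finrank_inf_orth_add hf hn hle
  rw [finrank_span_single hf hrr, p.finrank hf hm] at h
  exact ⟨nondeg_inf_orth hf hn (p.nondeg hf) hle, by omega⟩

omit hm in
theorem mem_perp_iff {r v : ι → F} :
    v ∈ wSp hf x y ⊓ orth hf (Submodule.span F {r}) ↔ v ∈ wSp hf x y ∧ f r v = 0 :=
  ⟨fun h => ⟨h.1, orth_span_single_mem hf |>.1 h.2⟩, fun h => ⟨h.1, orth_span_single_mem hf |>.2 h.2⟩⟩

variable [Finite F]

/-- Few translates give invariance when the middle space has dimension at least four. -/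
theorem inv_of_small (h4 : 4 ≤ m) {D : AddSubgroup (ι → F)} {r : ι → F} (hr : r ∈ wSp hf x y) (hrr : f r r ≠ 0)
    (hk : Nat.card (trSet f x y (D : Set (ι → F)) r) ≤ qn σ) : Inv hf x y D r := by
  classical
  intro e he hee her η hη d hd
  by_contra hcon
  set X := wSp hf x y
  have he0 : e ≠ 0 := fun h => hcon (by rw [h, smul_zero]; exact D.zero_mem)
  obtain ⟨hUn, hUd⟩ := perp_props hf p hm hr hrr
  set U := X ⊓ orth hf (Submodule.span F {r})
  have heU : e ∈ U := (mem_perp_iff hf p).2 ⟨he, (f_eq_zero_comm hf).1 her⟩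
  obtain ⟨e', he', hee', he'e'⟩ := exists_partner hf hUn heU he0 hee
  have q2 : Pair f e e' := ⟨hee, he'e', hee'⟩
  have hn := (nondeg_pair hf hee he'e' hee').1
  have hle : Submodule.span F {e, e'} ≤ U := Submodule.span_le.2 (by rintro v (rfl | rfl) <;> assumption)
  have hdim := finrank_inf_orth_add hf hn hle
  rw [(nondeg_pair hf hee he'e' hee').2] at hdim
  set U₂ := U ⊓ orth hf (Submodule.span F ({e, e'} : Set (ι → F))) with hU₂
  have hU₂n : Nondeg hf U₂ := nondeg_inf_orth hf hn hUn hle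
  obtain ⟨k, hk2⟩ : ∃ k, Module.finrank F U₂ = k + 1 := ⟨Module.finrank F U₂ - 1, by omega⟩
  let P : Subgroup (GL ι F) := sug f ⊓ MulAction.stabilizer (GL ι F) (D : Set (ι → F))
  let S := sPar hf P hee
  let K : AddSubgroup (ι → F) := kPar hf q2 P ⊓ U₂.toAddSubgroup
  have hS : S ≠ anti σ := fun h => by
    have h1 : η ∈ S := h ▸ hη
    have h2 : (qel hf e 0 η) • (D : Set (ι → F)) = D := MulAction.mem_stabilizer_iff.1 h1.2.2
    have h3 : mv (qel hf e 0 η) d ∈ (D : Set (ι → F)) := h2 ▸ Set.smul_mem_smul_set hd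
    rw [qel_zero hf hee, mv_htv] at h3
    exact hcon ((D.add_mem_cancel_left hd).1 h3)
  obtain ⟨c, hc, hcS⟩ : ∃ c ∈ anti σ, c ∉ S := by
    by_contra h
    push Not at h
    exact hS (le_antisymm (fun _ hc => hc.1) h)
  have hS2 : 2 * Nat.card S ≤ qn σ := by
    rw [← zIdx_mul hf P hee]
    refine Nat.mul_le_mul_right _ ?_
    have h1 : zIdx hf P hee ≠ 1 := fun h => hcS (AddSubgroup.relIndex_eq_one.1 h hc)
    have h0 : zIdx hf P hee ≠ 0 := AddSubgroup.index_ne_zero_of_finite
    omega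
  have hK : Nat.card K ≤ qn σ ^ (k + 1) := by
    obtain ⟨φ, hφS, hφc⟩ := exists_sep S hcS
    obtain ⟨b, hb⟩ := exists_trace hf.ne_refl hf.involutive (1 : F) (map_one σ)
    have h := card_sq_le hf (g := φ.comp (AddMonoidHom.id F - σ.toAddMonoidHom)) (fun h => hφc (by
      have h1 : φ (c * b - σ (c * b)) = 0 := DFunLike.congr_fun h (c * b)
      rwa [map_mul σ, show σ c = -c from hc, show c * b - -c * σ b = c * (b + σ b) by ring, hb, mul_one] at h1))
      hU₂n (K := K) (fun v hv => hv.2) (fun u hu v hv => hφS _ (by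
        show f u v - σ (f u v) ∈ S
        rw [← hf.herm v u]
        exact comm_sPar hf q2 hu.1 hv.1))
    refine (Nat.pow_le_pow_iff_left two_ne_zero).1 (h.trans (le_of_eq ?_))
    rw [Module.natCard_eq_pow_finrank (K := F), hk2, card_F hf.ne_refl hf.involutive, ← pow_mul, ← pow_mul,
      mul_comm]
  choose l hl using fun v : U₂ =>
    exists_trace hf.ne_refl hf.involutive (-f (v : ι → F) v) (by rw [map_neg, self_fixed hf])
  have hve : ∀ v : U₂, f (v : ι → F) e = 0 := fun v => q2.left_x hf v.2.2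
  have hrv : ∀ v : U₂, f r (v : ι → F) = 0 := fun v => ((mem_perp_iff hf p).1 v.2.1).2
  let gg : U₂ × anti σ → lev f x y := fun a => ⟨qel hf e (a.1 : ι → F) (l a.1 + a.2),
    eichler_mem_lev hf p he a.1.2.1.1 hee (hve a.1) (by
      rw [map_add, show σ (a.2 : F) = -(a.2 : F) from a.2.2]
      linear_combination hl a.1)⟩
  let Φ : U₂ × anti σ → trSet f x y (D : Set (ι → F)) r := fun a =>
    ⟨gg a • (D : Set (ι → F)), mem_trSet (qel_fix hf hee (hve a.1) _ ((f_eq_zero_comm hf).1 her) (hrv a.1))⟩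
  choose lK hlK hlKP using fun v : K => v.2.1.2
  have hfib : ∀ a₀, Nat.card {a // Φ a = Φ a₀} ≤ Nat.card K * Nat.card S := by
    rintro ⟨a, ηa⟩
    rw [← Nat.card_prod]
    let L : U₂ × anti σ → F := fun z =>
      -(l a + (ηa : F)) - f (a : ι → F) a + (l z.1 + z.2) - f (z.1 : ι → F) (-(a : ι → F))
    have hmem : ∀ z : {z // Φ z = Φ (a, ηa)}, (z.1.1 : ι → F) - a ∈ K ∧
        qel hf e ((z.1.1 : ι → F) - a) (L z.1) ∈ P := by
      rintro ⟨z, hz⟩
      have h1 : ((gg (a, ηa))⁻¹ * gg z) • (D : Set (ι → F)) = D := by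
        rw [mul_smul, show gg z • (D : Set (ι → F)) = gg (a, ηa) • (D : Set (ι → F)) from congrArg Subtype.val hz,
          inv_smul_smul]
      have hcoe : (((gg (a, ηa))⁻¹ * gg z : lev f x y) : GL ι F) = qel hf e ((z.1 : ι → F) - a) (L z) := by
        rw [Subgroup.coe_mul, Subgroup.coe_inv]
        show (qel hf e (a : ι → F) (l a + ηa))⁻¹ * qel hf e (z.1 : ι → F) (l z.1 + z.2) = _
        rw [qel_inv hf hee (hve a), qel_mul hf hee (by rw [neg_left hf, hve, neg_zero]) (hve z.1), neg_add_eq_sub]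
      have hP : qel hf e ((z.1 : ι → F) - a) (L z) ∈ P := by
        rw [← hcoe]
        exact ⟨((gg (a, ηa))⁻¹ * gg z).2.1, MulAction.mem_stabilizer_iff.2 h1⟩
      refine ⟨⟨⟨(orth hf _).sub_mem z.1.2.2 a.2.2, L z, ?_, hP⟩, U₂.sub_mem z.1.2 a.2⟩, hP⟩
      simp only [L, map_add, map_sub, map_neg, self_fixed hf, Herm.sub_left hf, Herm.sub_right hf, neg_right hf,
        show σ (ηa : F) = -(ηa : F) from ηa.2, show σ (z.2 : F) = -(z.2 : F) from z.2.2, ← hf.herm]
      linear_combination hl z.1 - hl a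
    have hS' : ∀ z : {z // Φ z = Φ (a, ηa)}, L z.1 - lK ⟨_, (hmem z).1⟩ ∈ S := by
      intro z
      set u : K := ⟨_, (hmem z).1⟩
      have hux : f (u : ι → F) e = 0 := q2.left_x hf u.2.1.1
      have h1 := P.mul_mem (P.inv_mem (hlKP u)) (hmem z).2
      rw [qel_inv hf hee hux, show (z.1.1 : ι → F) - a = (u : ι → F) from rfl,
        qel_mul hf hee (by rw [neg_left hf, hux, neg_zero]) hux, neg_add_cancel, neg_right hf,
        show -lK u - f (u : ι → F) u + L z.1 - -f (u : ι → F) u = L z.1 - lK u by ring] at h1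
      refine ⟨?_, h1⟩
      have h2 := qel_mem hf hee hux (hlK u)
      have hLu : L z.1 + σ (L z.1) + f (u : ι → F) u = 0 := by
        show L z.1 + σ (L z.1) + f ((z.1.1 : ι → F) - a) ((z.1.1 : ι → F) - a) = 0
        simp only [L, map_add, map_sub, map_neg, self_fixed hf, Herm.sub_left hf, Herm.sub_right hf, neg_right hf,
          show σ (ηa : F) = -(ηa : F) from ηa.2, show σ (z.1.2 : F) = -(z.1.2 : F) from z.1.2.2, ← hf.herm]
        linear_combination hl z.1.1 - hl a
      rw [map_sub]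
      linear_combination hLu - hlK u
    refine Nat.card_le_card_of_injective
      (fun z => ((⟨_, (hmem z).1⟩ : K), (⟨_, hS' z⟩ : S))) ?_
    intro z z' h
    obtain ⟨h1, h2⟩ := Prod.mk.inj h
    have h11 : z.1.1 = z'.1.1 := Subtype.ext (sub_left_injective (congrArg Subtype.val h1))
    have h22 : L z.1 - lK ⟨_, (hmem z).1⟩ = L z'.1 - lK ⟨_, (hmem z').1⟩ := congrArg Subtype.val h2
    rw [h1, sub_left_inj] at h22
    simp only [L, h11] at h22
    exact Subtype.ext (Prod.ext h11 (Subtype.ext (by linear_combination h22)))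
  have h := card_le_of_fibres Φ hk hfib
  have hU₂c : Nat.card U₂ = qn σ ^ (k + 1) * qn σ ^ (k + 1) := by
    rw [Module.natCard_eq_pow_finrank (K := F), hk2, card_F hf.ne_refl hf.involutive, ← pow_mul, ← pow_add]
    congr 1
    omega
  rw [Nat.card_prod, hU₂c, card_anti hf.ne_refl hf.involutive] at h
  set Q := qn σ ^ (k + 1)
  have hq2 : 2 ≤ qn σ := two_le_qn hf.ne_refl hf.involutive
  have hQ : qn σ ≤ Q := Nat.le_self_pow (by omega) _
  have h1 : Q * Q ≤ Q * Nat.card S := by
    refine Nat.le_of_mul_le_mul_right ?_ (show 0 < qn σ by omega)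
    calc Q * Q * qn σ ≤ qn σ * (Nat.card K * Nat.card S) := h
      _ ≤ qn σ * (Q * Nat.card S) := Nat.mul_le_mul_left _ (Nat.mul_le_mul_right _ hK)
      _ = _ := mul_comm _ _
  have := Nat.le_of_mul_le_mul_left h1 (by omega)
  omega

/-- Invariance produces an isotropic member. -/
theorem exists_iso_mem (h3 : 3 ≤ m) {D : AddSubgroup (ι → F)} (hD : ∀ v ∈ D, v ∈ wSp hf x y) {r : ι → F}
    (hr : r ∈ wSp hf x y) (hrr : f r r ≠ 0) (hinv : Inv hf x y D r) {d : ι → F} (hd : d ∈ D)
    (hdr : d ∉ Submodule.span F {r}) :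
    ∃ e ∈ wSp hf x y, f e e = 0 ∧ f e r = 0 ∧ e ≠ 0 ∧ ∃ a : F, a ≠ 0 ∧ a • e ∈ D := by
  obtain ⟨hUn, hUd⟩ := perp_props hf p hm hr hrr
  set d' := d - (f d r / f r r) • r with hd'
  have hd'U : d' ∈ wSp hf x y ⊓ orth hf (Submodule.span F {r}) := (mem_perp_iff hf p).2
    ⟨(wSp hf x y).sub_mem (hD d hd) ((wSp hf x y).smul_mem _ hr), (f_eq_zero_comm hf).1 (by
      rw [hd', Herm.sub_left hf, hf.smul_left, div_mul_cancel₀ _ hrr, sub_self])⟩
  have hd'0 : d' ≠ 0 := fun h => hdr (by
    rw [sub_eq_zero.1 h]; exact Submodule.smul_mem _ _ (Submodule.mem_span_singleton_self r))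
  obtain ⟨e, he, hee, hed⟩ := exists_isotropic_not_orth hf hUn (by omega) hd'U hd'0
  obtain ⟨heW, hre⟩ := (mem_perp_iff hf p).1 he
  obtain ⟨t, ht0, ht⟩ := exists_anti hf.ne_refl hf.involutive
  refine ⟨e, heW, hee, (f_eq_zero_comm hf).1 hre, fun h => hed (by rw [h, zero_left hf]),
    t * f d e, mul_ne_zero ht0 fun h => hed ((f_eq_zero_comm hf).1 ?_),
    hinv e heW hee ((f_eq_zero_comm hf).1 hre) t ht d hd⟩
  rw [hd', Herm.sub_left hf, hf.smul_left, h, hre, mul_zero, sub_zero]

/-- Invariance in dimension at least four fills the part orthogonal to r. -/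
theorem perp_subset (h4 : 4 ≤ m) {D : AddSubgroup (ι → F)} (hD : ∀ v ∈ D, v ∈ wSp hf x y) {r : ι → F}
    (hr : r ∈ wSp hf x y) (hrr : f r r ≠ 0) (hinv : Inv hf x y D r) {d₀ : ι → F} (hd₀ : d₀ ∈ D)
    (hdr : d₀ ∉ Submodule.span F {r}) : ∀ z ∈ wSp hf x y, f r z = 0 → z ∈ D := by
  obtain ⟨u, huW, huu, hur, hu0, a, ha, hau⟩ := exists_iso_mem hf p hm (by omega) hD hr hrr hinv hd₀ hdr
  obtain ⟨hUn, hUd⟩ := perp_props hf p hm hr hrr
  set U := wSp hf x y ⊓ orth hf (Submodule.span F {r})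
  have huU : u ∈ U := (mem_perp_iff hf p).2 ⟨huW, (f_eq_zero_comm hf).1 hur⟩
  obtain ⟨d, hd, hud, hdd⟩ := exists_partner hf hUn huU hu0 huu
  have q2 : Pair f u d := ⟨huu, hdd, hud⟩
  have hdu : f d u = 1 := q2.yx hf
  have hle : Submodule.span F {u, d} ≤ U := Submodule.span_le.2 (by rintro v (rfl | rfl) <;> assumption)
  have hn := (nondeg_pair hf huu hdd hud).1
  have hdim := finrank_inf_orth_add hf hn hle
  rw [(nondeg_pair hf huu hdd hud).2] at hdim
  obtain ⟨t, ht0, ht⟩ := exists_anti hf.ne_refl hf.involutive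
  have step : ∀ {w v : ι → F} {c : F}, c • w ∈ D → v ∈ U → f v v = 0 → ∀ k : F, σ k = k →
      (t * k * c * f w v) • v ∈ D := by
    intro w v c hw hv hvv k hk
    obtain ⟨hvW, hrv⟩ := (mem_perp_iff hf p).1 hv
    have h := hinv v hvW hvv ((f_eq_zero_comm hf).1 hrv) (t * k) (by rw [map_mul, ht, hk, neg_mul]) _ hw
    rwa [hf.smul_left, ← mul_assoc] at h
  -- the whole line of u
  have hsub : ∀ {v : ι → F}, v ∈ U → v - (f v d • u + f v u • d) ∈ U ⊓ orth hf (Submodule.span F {u, d}) := by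
    intro v hv
    refine ⟨U.sub_mem hv (U.add_mem (U.smul_mem _ huU) (U.smul_mem _ hd)), ?_⟩
    rw [← sub_sub]
    exact q2.proj_mem hf v
  obtain ⟨v, hv, hvv⟩ := exists_anisotropic hf (nondeg_inf_orth hf hn hUn hle)
    (fun h0 => by rw [h0, finrank_bot] at hdim; omega)
  have hline : ∀ z : F, z • u ∈ D := by
    intro z
    obtain ⟨β, hβ⟩ := exists_trace hf.ne_refl hf.involutive (-f v v) (by rw [map_neg, self_fixed hf])
    set b := u + β • d + v with hb
    have hbU : b ∈ U := U.add_mem (U.add_mem huU (U.smul_mem _ hd)) hv.1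
    have huv : f u v = 0 := q2.right_x hf hv.2
    have hdv : f d v = 0 := q2.right_y hf hv.2
    have hvu : f v u = 0 := q2.left_x hf hv.2
    have hvd : f v d = 0 := q2.left_y hf hv.2
    have hbb : f b b = 0 := by
      simp only [hb, hf.add_left, Herm.add_right hf, hf.smul_left, Herm.smul_right hf, huu, hdd, hud, hdu, huv,
        hdv, hvu, hvd]
      linear_combination hβ
    have hdb : f d b = 1 := by
      rw [hb, Herm.add_right hf, Herm.add_right hf, Herm.smul_right hf, hdu, hdd, hdv, mul_zero, add_zero, add_zero]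
    have hbu : f b u = β := by
      rw [hb, hf.add_left, hf.add_left, hf.smul_left, huu, hdu, hvu, mul_one, zero_add, add_zero]
    set w := t * β with hwdef
    have hw : w - σ w ≠ 0 := by
      rw [hwdef, map_mul, ht, show t * β - -t * σ β = t * (β + σ β) by ring, hβ]
      exact mul_ne_zero ht0 (neg_ne_zero.2 hvv)
    set z' := z / (t * t * a) with hz'
    set k₂ := (z' - σ z') / (w - σ w) with hk₂
    have hk₂f : σ k₂ = k₂ := by
      rw [hk₂, map_div₀, map_sub, map_sub, hf.involutive, hf.involutive, ← neg_sub z', ← neg_sub w,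
        neg_div_neg_eq]
    have hk₁f : σ (z' - k₂ * w) = z' - k₂ * w := by
      rw [map_sub, map_mul, hk₂f]
      have hh : k₂ * (w - σ w) = z' - σ z' := div_mul_cancel₀ _ hw
      linear_combination hh
    have h1 := step (step hau hd hdd 1 (map_one σ)) huU huu _ hk₁f
    have h2 := step (step (step hau hd hdd 1 (map_one σ)) hbU hbb 1 (map_one σ)) huU huu k₂ hk₂f
    simp only [hud, hdu, hdb, hbu, mul_one] at h1 h2
    have h := D.add_mem h1 h2
    rw [← add_smul] at h
    convert h using 2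
    have hta : t * t * a ≠ 0 := mul_ne_zero (mul_ne_zero ht0 ht0) ha
    calc z = z' * (t * t * a) := (div_mul_cancel₀ _ hta).symm
      _ = _ := by rw [hwdef]; ring
  -- isotropic vectors not orthogonal to u
  have hnon : ∀ v ∈ U, f v v = 0 → f u v ≠ 0 → ∀ z : F, z • v ∈ D := by
    intro v hv hvv huv z
    have h := step (hline (z / (t * f u v))) hv hvv 1 (map_one σ)
    convert h using 2
    field_simp
  intro z hz hrz
  have hzU : z ∈ U := (mem_perp_iff hf p).2 ⟨hz, hrz⟩
  set z₀ := z - (f z d • u + f z u • d) with hz₀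
  have hz₀m : z₀ ∈ U ⊓ orth hf (Submodule.span F {u, d}) := hsub hzU
  have hz₀D : z₀ ∈ D := by
    obtain ⟨β, hβ, hβ0⟩ : ∃ β, β + σ β = -f z₀ z₀ ∧ β ≠ 0 := by
      by_cases h0 : f z₀ z₀ = 0
      · exact ⟨t, by rw [ht, h0, neg_zero, add_neg_cancel], ht0⟩
      · obtain ⟨β, hβ⟩ := exists_trace hf.ne_refl hf.involutive (-f z₀ z₀) (by rw [map_neg, self_fixed hf])
        exact ⟨β, hβ, fun h => h0 (by simpa [h] using hβ.symm)⟩
    set b := u + β • d + z₀ with hb
    have huz : f u z₀ = 0 := q2.right_x hf hz₀m.2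
    have hbU : b ∈ U := U.add_mem (U.add_mem huU (U.smul_mem _ hd)) hz₀m.1
    have hbb : f b b = 0 := by
      simp only [hb, hf.add_left, Herm.add_right hf, hf.smul_left, Herm.smul_right hf, huu, hdd, hud, hdu, huz,
        q2.right_y hf hz₀m.2, q2.left_x hf hz₀m.2, q2.left_y hf hz₀m.2]
      linear_combination hβ
    have hub : f u b ≠ 0 := by
      rw [hb, Herm.add_right hf, Herm.add_right hf, Herm.smul_right hf, huu, hud, huz, zero_add, mul_one, add_zero]
      exact sig_ne_zero hf hβ0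
    have h := D.sub_mem (D.sub_mem (hnon b hbU hbb hub 1) (hline 1))
      (hnon d hd hdd (by rw [hud]; exact one_ne_zero) β)
    rw [one_smul, one_smul, hb] at h
    simpa [add_sub_cancel_left, add_assoc] using h
  have h := D.add_mem hz₀D (D.add_mem (hline (f z d)) (hnon d hd hdd (by rw [hud]; exact one_ne_zero) (f z u)))
  rwa [hz₀, sub_add_cancel] at h

/-- An additive group with few translates at all its anisotropic members is a line or everything. -/
theorem aniso_full (h4 : 4 ≤ m) {D : AddSubgroup (ι → F)} (hD : ∀ v ∈ D, v ∈ wSp hf x y)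
    (hall : ∀ r ∈ D, f r r ≠ 0 → Nat.card (trSet f x y (D : Set (ι → F)) r) ≤ qn σ)
    {r d : ι → F} (hr : r ∈ D) (hrr : f r r ≠ 0) (hd : d ∈ D) (hdr : d ∉ Submodule.span F {r}) :
    ∀ z ∈ wSp hf x y, z ∈ D := by
  have hrW := hD r hr
  have hU := perp_subset hf p hm h4 hD hrW hrr (inv_of_small hf p hm h4 hrW hrr (hall r hr hrr)) hd hdr
  obtain ⟨hUn, hUd⟩ := perp_props hf p hm hrW hrr
  obtain ⟨r', hr', hr'r'⟩ := exists_anisotropic hf hUn (fun h0 => by rw [h0, finrank_bot] at hUd; omega)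
  obtain ⟨hr'W, hrr'⟩ := (mem_perp_iff hf p).1 hr'
  have hr'D := hU r' hr'W hrr'
  have hU' := perp_subset hf p hm h4 hD hr'W hr'r' (inv_of_small hf p hm h4 hr'W hr'r' (hall r' hr'D hr'r')) hr
    fun h => by
      obtain ⟨k, hk⟩ := Submodule.mem_span_singleton.1 h
      rw [← hk, hf.smul_left, mul_eq_zero] at hrr'
      rw [← hk, hrr'.resolve_right hr'r', zero_smul, zero_left hf] at hrr
      exact hrr rfl
  intro z hz
  have h1 : z - (f z r / f r r) • r ∈ D := hU _ ((wSp hf x y).sub_mem hz ((wSp hf x y).smul_mem _ hrW))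
    ((f_eq_zero_comm hf).1 (by rw [Herm.sub_left hf, hf.smul_left, div_mul_cancel₀ _ hrr, sub_self]))
  have h2 : (f z r / f r r) • r ∈ D := hU' _ ((wSp hf x y).smul_mem _ hrW)
    (by rw [Herm.smul_right hf, (f_eq_zero_comm hf).1 hrr', mul_zero])
  have := D.add_mem h1 h2
  rwa [sub_add_cancel] at this

end Cfsg.Agent.UMin
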