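/-
No subgroup covers the middle group at every point while meeting every radical trivially.
-/
import Cfsg.Agent.Lib.UnitaryMinIndex.Rigid

set_option autoImplicit false

namespace Cfsg.Agent.UMin

open Matrix Cfsg.Agent.Transvec Cfsg.Agent.Transvec.Herm Cfsg.Agent.UnitarySimple
open scoped Pointwise

variable {ι : Type} [Fintype ι] [DecidableEq ι] {F : Type*} [Field F] [Finite F]
variable {σ : F ≃+* F} {f : (ι → F) → (ι → F) → F} (hf : Geo.IsUnitaryForm σ f)
include hf

/-- H covers the middle group at every pair and meets every radical trivially. -/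
structure Semi (H : Subgroup (GL ι F)) : Prop where
  trans : ∀ (x : ι → F), x ≠ 0 → f x x = 0 → ∀ c : F, σ c = -c → qel hf x 0 c ∈ H → c = 0
  kern : ∀ {x y : ι → F} (p : Pair f x y), ∀ v ∈ kPar hf p H, v = 0
  lift : ∀ {x y : ι → F} (p : Pair f x y) (g : lev f x y), g ∈ lPar hf p H

omit [Finite F] in
theorem qel_scale_zero {x : ι → F} (hx : f x x = 0) (t c : F) :
    qel hf (t • x) 0 c = qel hf x 0 (t * σ t * c) := by
  rw [qel_scale hf hx (zero_left hf x), smul_zero]

omit [Finite F] in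
theorem qel_comm_zero {x u : ι → F} (hx : f x x = 0) (hu : f u u = 0) (hxu : f x u = 0) (a b : F) :
    qel hf x 0 a * qel hf u 0 b = qel hf u 0 b * qel hf x 0 a := by
  have hux := (f_eq_zero_comm hf).1 hxu
  refine ext_mv fun z => ?_
  rw [mv_mul, mv_mul, qel_zero hf hx, qel_zero hf hu, mv_htv, mv_htv, mv_htv, mv_htv]
  simp only [hf.add_left, hf.smul_left, hxu, hux, mul_zero, add_zero]
  abel

section pair

variable {x y : ι → F} (p : Pair f x y) {H : Subgroup (GL ι F)}
include p

/-- The pair v, c lifts g into H. -/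
def Lift (H : Subgroup (GL ι F)) (g : GL ι F) (v : ι → F) (c : F) : Prop :=
  v ∈ wSp hf x y ∧ c + σ c + f v v = 0 ∧ qel hf x v c * g ∈ H

omit [Finite F] p in
theorem Lift.mem {g : GL ι F} {v : ι → F} {c : F} (h : Lift hf (x := x) (y := y) H g v c) :
    qel hf x v c * g ∈ H := h.2.2

omit [Finite F] in
theorem lift_unique (hs : Semi hf H) {g : GL ι F} {v v' : ι → F} {c c' : F}
    (h : Lift hf (x := x) (y := y) H g v c) (h' : Lift hf (x := x) (y := y) H g v' c') : v = v' ∧ c = c' := by
  obtain ⟨hv, hc, hH⟩ := h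
  obtain ⟨hv', hc', hH'⟩ := h'
  have hvx := p.left_x hf hv
  have h1 := H.mul_mem hH' (H.inv_mem hH)
  rw [show qel hf x v' c' * g * (qel hf x v c * g)⁻¹ = qel hf x v' c' * (qel hf x v c)⁻¹ by group,
    qel_inv hf p.xx hvx, qel_mul hf p.xx (p.left_x hf hv') (by rw [neg_left hf, hvx, neg_zero]),
    ← sub_eq_add_neg, neg_left hf, sub_neg_eq_add] at h1
  have hk : v' - v ∈ kPar hf p H := by
    refine ⟨(wSp hf x y).sub_mem hv' hv, _, ?_, h1⟩
    simp only [map_add, map_sub, map_neg, self_fixed hf, Herm.sub_left hf, Herm.sub_right hf, ← hf.herm]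
    linear_combination hc' - hc
  have hvv : v' = v := sub_eq_zero.1 (hs.kern p _ hk)
  subst hvv
  refine ⟨rfl, ?_⟩
  rw [sub_self, show c' + (-c - f v' v') + f v' v' = c' - c by ring] at h1
  have h2 := hs.trans x (p.x_ne hf) p.xx _ (by rw [map_sub]; linear_combination hc' - hc) h1
  linear_combination -h2

omit [Finite F] in
theorem lift_mul {g g' : GL ι F} (hg : g ∈ lev f x y) {v v' : ι → F} {c c' : F}
    (h : Lift hf (x := x) (y := y) H g v c) (h' : Lift hf (x := x) (y := y) H g' v' c') :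
    Lift hf (x := x) (y := y) H (g * g') (v + mv g v') (c + c' - f (mv g v') v) := by
  obtain ⟨hv, hc, hH⟩ := h
  obtain ⟨hv', hc', hH'⟩ := h'
  have hgv' := lev_wSp hf p hg hv'
  refine ⟨(wSp hf x y).add_mem hv hgv', ?_, ?_⟩
  · have e := f_mv (mem_lev.1 hg).1 v' v'
    simp only [map_sub, map_add, ← hf.herm, hf.add_left, Herm.add_right hf, e]
    linear_combination hc + hc'
  · rw [← qel_mul hf p.xx (p.left_x hf hv) (p.left_x hf hgv'), ← lev_conj hf p hg hv']
    rw [show qel hf x v c * (g * qel hf x v' c' * g⁻¹) * (g * g') = qel hf x v c * g * (qel hf x v' c' * g') by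
      group]
    exact H.mul_mem hH hH'

omit [Finite F] in
/-- A lift of an element commuting with a transvection of the middle space. -/
theorem lift_commute (hs : Semi hf H) {w : ι → F} (hw : w ∈ wSp hf x y) (hww : f w w = 0) {η : F}
    (hη : σ η = -η) {v : ι → F} {c : F} (h : Lift hf (x := x) (y := y) H (htv hf w hww η) v c) {g : GL ι F}
    (hg : g ∈ lev f x y) (hcomm : g * htv hf w hww η = htv hf w hww η * g) {u : ι → F} {k : F}
    (hu : Lift hf (x := x) (y := y) H g u k) : mv g v - v = (η * f u w) • w := by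
  have h1 := lift_mul hf p hg hu h
  have h2 := lift_mul hf p (htv_mem_lev hf p hw hww hη) h hu
  rw [← hcomm] at h2
  have h3 := (lift_unique hf p hs h1 h2).1
  rw [mv_htv] at h3
  calc mv g v - v = (u + mv g v) - u - v := by abel
    _ = (η * f u w) • w := by rw [h3]; abel

omit [Finite F] in
theorem exists_lift (hs : Semi hf H) {g : GL ι F} (hg : g ∈ lev f x y) :
    ∃ v c, Lift hf (x := x) (y := y) H g v c := by
  obtain ⟨v, hv, c, hc, hH⟩ := hs.lift p ⟨g, hg⟩
  exact ⟨v, c, hv, hc, hH⟩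

omit [Finite F] in
/-- The transvection at a shift of w, composed with one at x. -/
theorem shift_eq {w : ι → F} (hw : w ∈ wSp hf x y) (hww : f w w = 0) {η : F} (hη : σ η = -η) (κ c : F) :
    qel hf x 0 (c - η * (κ * σ κ)) * qel hf (w + σ κ • x) 0 η = qel hf x ((κ * η) • w) c * htv hf w hww η := by
  have hwx := p.left_x hf hw
  have hxw := p.right_x hf hw
  have huu : f (w + σ κ • x) (w + σ κ • x) = 0 := by
    simp only [hf.add_left, Herm.add_right hf, hf.smul_left, Herm.smul_right hf, hww, hwx, hxw, p.xx, mul_zero,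
      add_zero]
  refine ext_mv fun z => ?_
  rw [mv_mul, mv_mul, qel_zero hf p.xx, qel_zero hf huu, mv_htv, mv_htv,
    mv_qel hf p.xx (by rw [hf.smul_left, hwx, mul_zero]), mv_htv]
  simp only [hf.add_left, Herm.add_right hf, hf.smul_left, Herm.smul_right hf, map_mul, hf.involutive, hη, hww,
    hwx, p.xx, mul_zero, add_zero]
  module

/-- Every transvection of the middle space, shifted, is linked to one at x. -/
theorem exists_shift (hs : Semi hf H) {m : ℕ} (hm : Fintype.card ι = m + 2) (h3 : 3 ≤ m) {w : ι → F}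
    (hw : w ∈ wSp hf x y) (hw0 : w ≠ 0) (hww : f w w = 0) :
    ∃ e : F, ∀ η : F, σ η = -η → ∃ c, σ c = -c ∧ qel hf x 0 c * qel hf (w + e • x) 0 η ∈ H := by
  classical
  set X := wSp hf x y
  obtain ⟨w', hw', hww', hw'w'⟩ := exists_partner hf (p.nondeg hf) hw hw0 hww
  have q2 : Pair f w w' := ⟨hww, hw'w', hww'⟩
  have hle : Submodule.span F {w, w'} ≤ X := Submodule.span_le.2 (by rintro v (rfl | rfl) <;> assumption)
  have hn := (nondeg_pair hf q2.xx q2.yy q2.xy).1
  have hdim := finrank_inf_orth_add hf hn hle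
  rw [(nondeg_pair hf q2.xx q2.yy q2.xy).2, p.finrank hf hm] at hdim
  set V := X ⊓ orth hf (Submodule.span F ({w, w'} : Set (ι → F))) with hV
  have hVn : Nondeg hf V := nondeg_inf_orth hf hn (p.nondeg hf) hle
  have hV0 : V ≠ ⊥ := fun h0 => by rw [h0, finrank_bot] at hdim; omega
  -- a norm one scalar with square different from one
  obtain ⟨μ, hμ, hμ2⟩ : ∃ μ : F, μ * σ μ = 1 ∧ μ * μ ≠ 1 := by
    by_contra h
    push Not at h
    have hcard : Nat.card {a : F // a * σ a = 1} = qn σ + 1 :=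
      card_norm_eq hf.ne_refl hf.involutive (map_one σ) one_ne_zero
    have hsub : {a : F | a * σ a = 1} ⊆ {1, -1} := fun a ha => by
      have h1 := h a ha
      have : (a - 1) * (a + 1) = 0 := by linear_combination h1
      rcases mul_eq_zero.1 this with h2 | h2
      · exact Or.inl (sub_eq_zero.1 h2)
      · exact Or.inr (add_eq_zero_iff_eq_neg.1 h2)
    have h2 := Set.ncard_le_ncard hsub (Set.toFinite _)
    rw [← Nat.card_coe_set_eq] at h2
    have h3' := h2.trans (Set.ncard_insert_le _ _)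
    rw [Set.ncard_singleton] at h3'
    have := two_le_qn hf.ne_refl hf.involutive
    change Nat.card {a : F // a * σ a = 1} ≤ 2 at h3'
    omega
  have hμ0 : μ ≠ 0 := fun h => by simp [h] at hμ
  have hμ1 : μ ≠ 1 := fun h => hμ2 (by rw [h, one_mul])
  have hσμ : σ μ = μ⁻¹ := eq_inv_of_mul_eq_one_right hμ
  obtain ⟨r₀, hr₀, hr₀r⟩ := exists_anisotropic hf hVn hV0
  have hu0 : σ μ / μ ≠ 0 := div_ne_zero (sig_ne_zero hf hμ0) hμ0
  have hu1 : σ μ / μ ≠ 1 := fun h => hμ2 (by
    rw [div_eq_one_iff_eq hμ0] at h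
    calc μ * μ = μ * σ μ := by rw [h]
      _ = 1 := hμ)
  have tor_comm : ∀ r ∈ V, f r r ≠ 0 → ∀ η : F,
      tor hf w w' μ * pr hf r (σ μ / μ) * htv hf w hww η =
        htv hf w hww η * (tor hf w w' μ * pr hf r (σ μ / μ)) := by
    intro r hr hrr η
    have hgs := (mem_lev.1 (torPr_mem_lev hf p q2 hw hw' hr.1 hrr hμ0)).1
    have hgw : mv (tor hf w w' μ * pr hf r (σ μ / μ)) w = μ • w := by
      rw [mv_mul, pr_fix hf hrr hu0 (q2.right_x hf hr.2), tor_fst hf hww hw'w' hww' hμ0]
    have h := qel_conj hf hww hgs (zero_left hf w) η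
    rw [hgw, mv_zero, qel_scale_zero hf hww, hμ, one_mul, qel_zero hf hww] at h
    calc _ = tor hf w w' μ * pr hf r (σ μ / μ) * htv hf w hww η * (tor hf w w' μ * pr hf r (σ μ / μ))⁻¹ *
          (tor hf w w' μ * pr hf r (σ μ / μ)) := by group
      _ = _ := by rw [h]
  obtain ⟨u₀, k₀, hu⟩ := exists_lift hf p hs (torPr_mem_lev hf p q2 hw hw' hr₀.1 hr₀r hμ0)
  set κ := f u₀ w / (μ - 1) with hκ
  refine ⟨σ κ, fun η hη => ?_⟩
  obtain ⟨v, c, hvc⟩ := exists_lift hf p hs (htv_mem_lev hf p hw hww hη)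
  have hvX := hvc.1
  -- v is orthogonal to w
  have hvw : f v w = 0 := by
    obtain ⟨l, hl⟩ := exists_trace hf.ne_refl hf.involutive (-f r₀ r₀) (by rw [map_neg, self_fixed hf])
    have hr₀w : f r₀ w = 0 := q2.left_x hf hr₀.2
    have hg := eichler_mem_lev hf p hw hr₀.1 hww hr₀w (l := l) (by linear_combination hl)
    have hgc : qel hf w r₀ l * htv hf w hww η = htv hf w hww η * qel hf w r₀ l := by
      rw [← qel_zero hf hww, qel_mul hf hww hr₀w (zero_left hf w), qel_mul hf hww (zero_left hf w) hr₀w,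
        add_zero, zero_add, zero_left hf, zero_right hf, add_comm l η]
    obtain ⟨u, k, hu'⟩ := exists_lift hf p hs hg
    have h := congrArg (fun z => f z r₀) (lift_commute hf p hs hw hww hη hvc hg hgc hu')
    simp only [mv_qel hf hww hr₀w, Herm.sub_left hf, hf.add_left, hf.smul_left, q2.right_x hf hr₀.2, mul_zero,
      add_zero] at h
    rw [add_sub_cancel_left] at h
    exact (mul_eq_zero.1 h).resolve_right hr₀r
  -- v is orthogonal to the anisotropic vectors orthogonal to the pair
  have hvr : ∀ r ∈ V, f r r ≠ 0 → f v r = 0 := by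
    intro r hr hrr
    have hg := torPr_mem_lev hf p q2 hw hw' hr.1 hrr hμ0
    obtain ⟨u, k, hu'⟩ := exists_lift hf p hs hg
    have h := congrArg (fun z => f z r) (lift_commute hf p hs hw hww hη hvc hg (tor_comm r hr hrr η) hu')
    simp only [Herm.sub_left hf, hf.smul_left, q2.right_x hf hr.2, mul_zero] at h
    set g := tor hf w w' μ * pr hf r (σ μ / μ)
    have hgr : mv g r = (σ μ / μ) • r := by
      show mv (tor hf w w' μ * pr hf r (σ μ / μ)) r = _
      rw [mv_mul, pr_self hf hrr hu0, mv_smul, tor_fix hf hww hw'w' hww' hμ0 (q2.left_x hf hr.2)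
        (q2.left_y hf hr.2)]
    have h1 := f_mv (mem_lev.1 hg).1 v r
    rw [hgr, Herm.smul_right hf, sub_eq_zero.1 h] at h1
    by_contra hne
    refine hu1 (σ.injective ?_)
    rw [map_one]
    exact mul_right_cancel₀ hne (by rw [h1, one_mul])
  -- so v is a multiple of w
  obtain ⟨α, hα⟩ : ∃ α, v = α • w := by
    set z := v - f v w' • w - f v w • w' with hz
    have hzV : z ∈ V := ⟨X.sub_mem (X.sub_mem hvX (X.smul_mem _ hw)) (X.smul_mem _ hw'), q2.proj_mem hf v⟩
    refine ⟨f v w', ?_⟩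
    by_contra hne
    have hz0 : z ≠ 0 := fun h => hne (by
      rw [hz, hvw, zero_smul, sub_zero] at h; exact sub_eq_zero.1 h)
    have horth : ∀ r ∈ V, f r r ≠ 0 → f z r = 0 := fun r hr hrr => by
      rw [hz, Herm.sub_left hf, Herm.sub_left hf, hf.smul_left, hf.smul_left, hvr r hr hrr, q2.right_x hf hr.2,
        q2.right_y hf hr.2, mul_zero, mul_zero, sub_zero, sub_zero]
    by_cases hzz : f z z = 0
    · obtain ⟨d, hd, hzd, hdd⟩ := exists_partner hf hVn hzV hz0 hzz
      obtain ⟨b, hb⟩ := exists_trace hf.ne_refl hf.involutive (1 : F) (map_one σ)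
      have hdz : f d z = 1 := by rw [hf.herm, hzd, map_one]
      have hr : f (z + b • d) (z + b • d) = 1 := by
        simp only [hf.add_left, Herm.add_right hf, hf.smul_left, Herm.smul_right hf, hzz, hdd, hzd, hdz]
        linear_combination hb
      have h := horth _ (V.add_mem hzV (V.smul_mem b hd)) (by rw [hr]; exact one_ne_zero)
      rw [Herm.add_right hf, Herm.smul_right hf, hzz, hzd, zero_add, mul_one, map_eq_zero_iff σ σ.injective] at h
      rw [h, map_zero, add_zero] at hb
      exact zero_ne_one hb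
    · exact hzz (horth z hzV hzz)
  -- the multiple is linear in η
  have hακ : α = κ * η := by
    have h := lift_commute hf p hs hw hww hη hvc (torPr_mem_lev hf p q2 hw hw' hr₀.1 hr₀r hμ0)
      (tor_comm r₀ hr₀ hr₀r η) hu
    rw [hα, mv_smul, mv_mul, pr_fix hf hr₀r hu0 (q2.right_x hf hr₀.2), tor_fst hf hww hw'w' hww' hμ0, smul_smul,
      ← sub_smul] at h
    have h1 : α * μ - α = η * f u₀ w := smul_left_injective F hw0 h
    rw [hκ, div_mul_eq_mul_div, eq_div_iff (sub_ne_zero.2 hμ1)]
    linear_combination h1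
  refine ⟨c - η * (κ * σ κ), ?_, ?_⟩
  · have hc := hvc.2.1
    rw [hα, hf.smul_left, Herm.smul_right hf, hww, mul_zero, mul_zero, add_zero] at hc
    rw [map_sub, map_mul, map_mul, hη, hf.involutive]
    linear_combination hc
  · rw [shift_eq hf p hw hww hη, ← hακ, ← hα]
    exact hvc.2.2

omit [Finite F] in
/-- A shift is determined by its member of H. -/
theorem shift_unique (hs : Semi hf H) {w : ι → F} (hw : w ∈ wSp hf x y) (hw0 : w ≠ 0) (hww : f w w = 0)
    {b : F} (hb : σ b = -b) (hb0 : b ≠ 0) {e e' c c' : F} (hc : σ c = -c) (hc' : σ c' = -c')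
    (h : qel hf x 0 c * qel hf (w + e • x) 0 b ∈ H) (h' : qel hf x 0 c' * qel hf (w + e' • x) 0 b ∈ H) :
    e = e' ∧ c = c' := by
  have key : ∀ e₁ c₁ : F, qel hf x 0 c₁ * qel hf (w + e₁ • x) 0 b =
      qel hf x ((σ e₁ * b) • w) (c₁ + b * (σ e₁ * e₁)) * htv hf w hww b := fun e₁ c₁ => by
    have h1 := shift_eq hf p hw hww hb (σ e₁) (c₁ + b * (σ e₁ * e₁))
    rw [hf.involutive, add_sub_cancel_right] at h1
    exact h1
  have hcond : ∀ e₁ c₁ : F, σ c₁ = -c₁ → Lift hf (x := x) (y := y) H (htv hf w hww b) ((σ e₁ * b) • w)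
      (c₁ + b * (σ e₁ * e₁)) ∨ ¬ qel hf x 0 c₁ * qel hf (w + e₁ • x) 0 b ∈ H := fun e₁ c₁ h1 => by
    by_cases hm : qel hf x 0 c₁ * qel hf (w + e₁ • x) 0 b ∈ H
    · refine Or.inl ⟨(wSp hf x y).smul_mem _ hw, ?_, key e₁ c₁ ▸ hm⟩
      rw [hf.smul_left, Herm.smul_right hf, hww, map_add, map_mul, map_mul, hf.involutive, h1, hb]
      ring
    · exact Or.inr hm
  obtain ⟨h1, h2⟩ := lift_unique hf p hs ((hcond e c hc).resolve_right (not_not.2 h))
    ((hcond e' c' hc').resolve_right (not_not.2 h'))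
  obtain rfl : e = e' := σ.injective (mul_right_cancel₀ hb0 (smul_left_injective F hw0 h1))
  exact ⟨rfl, add_right_cancel h2⟩

end pair

theorem exists_pair_and_iso {m : ℕ} (hm : Fintype.card ι = m + 2) (h3 : 3 ≤ m) :
    ∃ (x y w : ι → F) (_ : Pair f x y), w ∈ wSp hf x y ∧ w ≠ 0 ∧ f w w = 0 := by
  obtain ⟨x, -, hx0, hxx⟩ := exists_isotropic hf (nondeg_top hf)
    (by rw [finrank_top, Module.finrank_pi]; omega)
  obtain ⟨y, -, hxy, hyy⟩ := exists_partner hf (nondeg_top hf) Submodule.mem_top hx0 hxx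
  have p : Pair f x y := ⟨hxx, hyy, hxy⟩
  obtain ⟨w, hw, hw0, hww⟩ := exists_isotropic hf (p.nondeg hf) (by rw [p.finrank hf hm]; omega)
  exact ⟨x, y, w, p, hw, hw0, hww⟩

/-- The impossibility for fields larger than four elements. -/
theorem semi_false_of_three {m : ℕ} (hm : Fintype.card ι = m + 2) (h3 : 3 ≤ m) (hq : 3 ≤ qn σ)
    {H : Subgroup (GL ι F)} (hs : Semi hf H) : False := by
  classical
  obtain ⟨x, y, w, p, hw, hw0, hww⟩ := exists_pair_and_iso hf hm h3
  obtain ⟨e, he⟩ := exists_shift hf p hs hm h3 hw hw0 hww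
  choose cc hcc hccH using he
  obtain ⟨a, ha, ha0, ha1⟩ : ∃ a : F, σ a = a ∧ a ≠ 0 ∧ a ≠ 1 := by
    by_contra h
    push Not at h
    have hsub : ((fixedField σ : Set F)) ⊆ {0, 1} := fun a ha => by
      by_cases h0 : a = 0
      · exact Or.inl h0
      · exact Or.inr (h a ha h0)
    have h2 := (Set.ncard_le_ncard hsub (Set.toFinite _)).trans (Set.ncard_insert_le _ _)
    rw [Set.ncard_singleton, ← Nat.card_coe_set_eq] at h2
    change qn σ ≤ 2 at h2
    omega
  obtain ⟨t, ht⟩ := exists_norm hf.ne_refl hf.involutive a ha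
  have ht0 : t ≠ 0 := fun h => ha0 (by rw [← ht, h, zero_mul])
  obtain ⟨η, hη0, hη⟩ := exists_anti hf.ne_refl hf.involutive
  have hwx := p.left_x hf hw
  have hanti : ∀ b : F, σ b = b → σ (b * η) = -(b * η) := fun b hb => by rw [map_mul, hb, hη, mul_neg]
  -- an element of H moving w to t w
  obtain ⟨g, hg, hgw⟩ := exists_lev_scale hf p (by rw [p.finrank hf hm]; exact h3) hw hw0 hww ht0
  obtain ⟨v, k, hv, hk, hH⟩ := exists_lift hf p hs hg
  set h := qel hf x v k * g
  have hhs : h ∈ sug f := (sug f).mul_mem (qel_mem hf p.xx (p.left_x hf hv) hk) (mem_lev.1 hg).1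
  have hvx := p.left_x hf hv
  have hhx : mv h x = x := by
    show mv (qel hf x v k * g) x = x
    rw [mv_mul, (mem_lev.1 hg).2.1, qel_apex hf p.xx hvx]
  set e' := e - t * f w v
  have hhu : mv h (w + e • x) = t • (w + (t⁻¹ * e') • x) := by
    show mv (qel hf x v k * g) (w + e • x) = _
    rw [mv_mul, mv_add, mv_smul, hgw, (mem_lev.1 hg).2.1, mv_add, mv_smul, mv_smul, qel_apex hf p.xx hvx,
      mv_qel hf p.xx hvx, hwx]
    simp only [smul_add, smul_smul, mul_inv_cancel_left₀ ht0]
    module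
  have huu : f (w + e • x) (w + e • x) = 0 := by
    simp only [hf.add_left, Herm.add_right hf, hf.smul_left, Herm.smul_right hf, hww, hwx, p.right_x hf hw, p.xx,
      mul_zero, add_zero]
  have huu' : f (w + (t⁻¹ * e') • x) (w + (t⁻¹ * e') • x) = 0 := by
    simp only [hf.add_left, Herm.add_right hf, hf.smul_left, Herm.smul_right hf, hww, hwx, p.right_x hf hw, p.xx,
      mul_zero, add_zero]
  have hconj : qel hf x 0 (cc η hη) * qel hf (w + (t⁻¹ * e') • x) 0 (a * η) ∈ H := by
    have h1 := H.mul_mem (H.mul_mem hH (hccH η hη)) (H.inv_mem hH)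
    rw [show h * (qel hf x 0 (cc η hη) * qel hf (w + e • x) 0 η) * h⁻¹ =
      (h * qel hf x 0 (cc η hη) * h⁻¹) * (h * qel hf (w + e • x) 0 η * h⁻¹) by group,
      qel_conj hf p.xx hhs (zero_left hf x), qel_conj hf huu hhs (zero_left hf _), mv_zero, hhx, hhu,
      qel_scale_zero hf huu', ht] at h1
    exact h1
  obtain ⟨he'', hcc'⟩ := shift_unique hf p hs hw hw0 hww (hanti a ha) (mul_ne_zero ha0 hη0) (hcc η hη)
    (hcc _ (hanti a ha)) hconj (hccH _ (hanti a ha))
  -- the difference
  have h1 := H.mul_mem (hccH _ (hanti a ha)) (H.inv_mem (hccH η hη))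
  rw [← hcc', show qel hf x 0 (cc η hη) * qel hf (w + e • x) 0 (a * η) *
      (qel hf x 0 (cc η hη) * qel hf (w + e • x) 0 η)⁻¹ =
      qel hf x 0 (cc η hη) * (qel hf (w + e • x) 0 (a * η) * (qel hf (w + e • x) 0 η)⁻¹) *
        (qel hf x 0 (cc η hη))⁻¹ by group, qel_inv hf huu (zero_left hf _), neg_zero, zero_left hf,
    qel_mul hf huu (zero_left hf _) (zero_left hf _), zero_left hf, add_zero, sub_zero, sub_zero] at h1
  rw [qel_comm_zero hf p.xx huu (by
      rw [Herm.add_right hf, Herm.smul_right hf, p.right_x hf hw, p.xx, mul_zero, add_zero]),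
    mul_inv_cancel_right] at h1
  refine mul_ne_zero (sub_ne_zero.2 ha1) hη0 ?_
  have h2 := hs.trans _ (fun h0 => hw0 (by
    have h3 := congrArg (fun z => f z y) h0
    simp only [hf.add_left, hf.smul_left, p.left_y hf hw, p.xy, mul_one, zero_add, zero_left hf] at h3
    rwa [h3, zero_smul, add_zero] at h0)) huu _ (by
      rw [map_add, map_neg, map_mul, ha, hη]; ring) h1
  linear_combination h2

/-- The impossibility for the field with four elements. -/
theorem semi_false_of_two {m : ℕ} (hm : Fintype.card ι = m + 2) (h3 : 3 ≤ m) (hq : qn σ = 2)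
    {H : Subgroup (GL ι F)} (hs : Semi hf H) : False := by
  classical
  letI : Fintype F := Fintype.ofFinite F
  obtain ⟨x, y, w, p, hw, hw0, hww⟩ := exists_pair_and_iso hf hm h3
  have hF4 : Fintype.card F = 4 := by rw [← Nat.card_eq_fintype_card, card_F hf.ne_refl hf.involutive, hq]; rfl
  have hfix : ∀ a : F, σ a = a → a ≠ 0 → a = 1 := by
    intro a ha ha0
    by_contra ha1
    have hsub : ({0, 1, a} : Set F) ⊆ (fixedField σ : Set F) := by
      rintro b (rfl | rfl | rfl)
      · exact map_zero σ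
      · exact map_one σ
      · exact ha
    have h := Set.ncard_le_ncard hsub (Set.toFinite _)
    rw [Set.ncard_insert_of_notMem (by simp [Ne.symm ha0]), Set.ncard_pair (Ne.symm ha1),
      ← Nat.card_coe_set_eq] at h
    change 2 + 1 ≤ qn σ at h
    omega
  have h2 : (2 : F) = 0 := by
    by_contra h2
    have h1 := hfix 2 (map_ofNat σ 2) h2
    exact one_ne_zero (show (1 : F) = 0 by linear_combination h1)
  have hneg : ∀ a : F, -a = a := fun a => by linear_combination -a * h2
  have hanti1 : σ (1 : F) = -(1 : F) := by rw [map_one, hneg]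
  have hanti : ∀ c : F, σ c = -c → c = 0 ∨ c = 1 := fun c hc => by
    by_cases h0 : c = 0
    · exact Or.inl h0
    · exact Or.inr (hfix c (by rw [hc, hneg]) h0)
  -- linked vectors
  let L : (ι → F) → (ι → F) → Prop := fun z u => qel hf z 0 1 * qel hf u 0 1 ∈ H
  have hscale : ∀ {u : ι → F}, f u u = 0 → ∀ {k : F}, k ≠ 0 → qel hf (k • u) 0 1 = qel hf u 0 1 := by
    intro u hu k hk
    rw [qel_scale_zero hf hu, mul_one, hfix (k * σ k) (by rw [map_mul, hf.involutive, mul_comm])
      (mul_ne_zero hk (sig_ne_zero hf hk))]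
  have hlink : ∀ {z u : ι → F}, z ≠ 0 → f z z = 0 → f u u = 0 → f z u = 0 → u ∉ Submodule.span F {z} →
      ∃! e : F, L z (u + e • z) := by
    intro z u hz hzz huu hzu hu
    obtain ⟨z', -, hzz', hz'z'⟩ := exists_partner hf (nondeg_top hf) Submodule.mem_top hz hzz
    have q2 : Pair f z z' := ⟨hzz, hz'z', hzz'⟩
    have huz : f u z = 0 := (f_eq_zero_comm hf).1 hzu
    set u₀ := u - f u z' • z with hu₀
    have hu₀m : u₀ ∈ wSp hf z z' := by
      have h := q2.proj_mem hf u
      rwa [huz, zero_smul, sub_zero] at h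
    have hu₀0 : u₀ ≠ 0 := fun h => hu (by
      rw [sub_eq_zero.1 h]; exact Submodule.smul_mem _ _ (Submodule.mem_span_singleton_self z))
    have hu₀u : f u₀ u₀ = 0 := by
      simp only [hu₀, Herm.sub_left hf, Herm.sub_right hf, hf.smul_left, Herm.smul_right hf, huu, hzu, huz, hzz]
      ring
    have hconv : ∀ e : F, u + e • z = u₀ + (f u z' + e) • z := fun e => by rw [hu₀]; module
    obtain ⟨e, he⟩ := exists_shift hf q2 hs hm h3 hu₀m hu₀0 hu₀u
    obtain ⟨c, hc, hcH⟩ := he 1 hanti1
    have hux : f (u₀ + e • z) (u₀ + e • z) = 0 := by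
      simp only [hf.add_left, Herm.add_right hf, hf.smul_left, Herm.smul_right hf, hu₀u, q2.left_x hf hu₀m,
        q2.right_x hf hu₀m, hzz, mul_zero, add_zero]
    rcases hanti c hc with rfl | rfl
    · exfalso
      rw [qel_one hf hzz, one_mul] at hcH
      refine one_ne_zero (hs.trans _ (fun h0 => hu₀0 ?_) hux 1 hanti1 hcH)
      have h3 := congrArg (fun v => f v z') h0
      simp only [hf.add_left, hf.smul_left, q2.left_y hf hu₀m, q2.xy, mul_one, zero_add, zero_left hf] at h3
      rwa [h3, zero_smul, add_zero] at h0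
    · refine ⟨e - f u z', ?_, fun e' he' => ?_⟩
      · show L z _
        rw [hconv, add_sub_cancel]
        exact hcH
      · have he'' : L z (u₀ + (f u z' + e') • z) := by rw [← hconv]; exact he'
        rw [← (shift_unique hf q2 hs hu₀m hu₀0 hu₀u hanti1 one_ne_zero hanti1 hanti1 he'' hcH).1]
        ring
  -- the five points of the line through x and w
  let rp : Option F → ι → F := fun o => o.elim x fun e => w + e • x
  have hxw := p.right_x hf hw
  have hwx := p.left_x hf hw
  have hperp : ∀ o o', f (rp o) (rp o') = 0 := by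
    rintro (_ | e) (_ | e') <;>
      simp [rp, hf.add_left, Herm.add_right hf, hf.smul_left, Herm.smul_right hf, p.xx, hww, hxw, hwx]
  obtain ⟨w', hw', hww', -⟩ := exists_partner hf (p.nondeg hf) hw hw0 hww
  have hxw' : f x w' = 0 := p.right_x hf hw'
  have hwne : ∀ (a : F) (o : Option F), ∀ o', a • rp o = rp o' → o = o' := by
    intro a o o' h
    have h1 := congrArg (fun v => f v w') h
    have h2' := congrArg (fun v => f v y) h
    rcases o with _ | e <;> rcases o' with _ | e' <;>
      simp only [rp, Option.elim, hf.add_left, hf.smul_left, hww', hxw', p.xy, p.left_y hf hw, mul_zero, mul_one,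
        add_zero, zero_add] at h1 h2'
    · rfl
    · exact absurd h1 zero_ne_one
    · rw [h1, zero_mul] at h2'; exact absurd h2' zero_ne_one
    · rw [h1, one_mul] at h2'; rw [h2']
  have hne0 : ∀ o, rp o ≠ 0 := fun o h0 => by
    rcases o with _ | e
    · exact p.x_ne hf h0
    · have h1 := congrArg (fun v => f v w') h0
      simp only [rp, Option.elim, hf.add_left, hf.smul_left, hww', hxw', mul_zero, add_zero, zero_left hf] at h1
      exact one_ne_zero h1
  have hnspan : ∀ o o', o ≠ o' → rp o' ∉ Submodule.span F {rp o} := fun o o' hne h => by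
    obtain ⟨a, ha⟩ := Submodule.mem_span_singleton.1 h
    exact hne (hwne a o o' ha)
  have hclass : ∀ α β : F, α • x + β • w ≠ 0 → ∃ (o : Option F) (k : F), k ≠ 0 ∧ α • x + β • w = k • rp o := by
    intro α β h
    by_cases hβ : β = 0
    · refine ⟨none, α, fun hα => h (by rw [hα, hβ, zero_smul, zero_smul, add_zero]), ?_⟩
      rw [hβ, zero_smul, add_zero]; rfl
    · refine ⟨some (α / β), β, hβ, ?_⟩
      show _ = β • (w + (α / β) • x)
      rw [smul_add, smul_smul, mul_div_cancel₀ _ hβ, add_comm]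
  have hcoord : ∀ o, ∃ α β : F, rp o = α • x + β • w := by
    rintro (_ | e)
    · exact ⟨1, 0, by simp [rp]⟩
    · exact ⟨e, 1, by simp [rp, add_comm]⟩
  have hex : ∀ o, ∃ o', o' ≠ o ∧ L (rp o) (rp o') := by
    intro o
    obtain ⟨o₁, ho₁⟩ : ∃ o₁, o₁ ≠ o := exists_ne o
    obtain ⟨e, he, -⟩ := hlink (hne0 o) (hperp o o) (hperp o₁ o₁) (hperp o o₁) (hnspan o o₁ (Ne.symm ho₁))
    obtain ⟨α, β, hab⟩ := hcoord o
    obtain ⟨α₁, β₁, hab₁⟩ := hcoord o₁
    have hu : rp o₁ + e • rp o = (α₁ + e * α) • x + (β₁ + e * β) • w := by rw [hab, hab₁]; module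
    have hne : rp o₁ + e • rp o ≠ 0 := fun h0 => hnspan o o₁ (Ne.symm ho₁) (by
      rw [eq_neg_of_add_eq_zero_left h0]
      exact Submodule.neg_mem _ (Submodule.smul_mem _ _ (Submodule.mem_span_singleton_self _)))
    obtain ⟨o', k, hk, ho'⟩ := hclass _ _ (hu ▸ hne)
    refine ⟨o', fun h => hnspan o o₁ (Ne.symm ho₁) ?_, ?_⟩
    · rw [h, ← hu] at ho'
      rw [show rp o₁ = k • rp o - e • rp o by rw [← ho']; abel]
      exact Submodule.sub_mem _ (Submodule.smul_mem _ _ (Submodule.mem_span_singleton_self _))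
        (Submodule.smul_mem _ _ (Submodule.mem_span_singleton_self _))
    · have h1 : L (rp o) (rp o₁ + e • rp o) := he
      rw [hu, ho'] at h1
      show _ ∈ H
      rw [← hscale (hperp o' o') hk]
      exact h1
  have huniq : ∀ o o₁ o₂, o₁ ≠ o → o₂ ≠ o → L (rp o) (rp o₁) → L (rp o) (rp o₂) → o₁ = o₂ := by
    intro o o₁ o₂ h₁ h₂' hl₁ hl₂
    obtain ⟨e, -, hu⟩ := hlink (hne0 o) (hperp o o) (hperp o₁ o₁) (hperp o o₁) (hnspan o o₁ (Ne.symm h₁))
    obtain ⟨a, b, hab⟩ : ∃ a b : F, rp o₂ = a • rp o + b • rp o₁ := by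
      rcases o with _ | c <;> rcases o₁ with _ | d
      · exact absurd rfl h₁
      · rcases o₂ with _ | e₂
        · exact absurd rfl h₂'
        · exact ⟨e₂ - d, 1, by simp only [rp, Option.elim]; module⟩
      · rcases o₂ with _ | e₂
        · exact ⟨0, 1, by simp only [rp, Option.elim]; module⟩
        · exact ⟨1, e₂ - c, by simp only [rp, Option.elim]; module⟩
      · have hcd : d - c ≠ 0 := sub_ne_zero.2 fun h => h₁ (by rw [h])
        rcases o₂ with _ | e₂
        · refine ⟨-(d - c)⁻¹, (d - c)⁻¹, ?_⟩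
          simp only [rp, Option.elim]
          rw [show -(d - c)⁻¹ • (w + c • x) + (d - c)⁻¹ • (w + d • x) = ((d - c)⁻¹ * (d - c)) • x by module,
            inv_mul_cancel₀ hcd, one_smul]
        · refine ⟨(d - e₂) / (d - c), (e₂ - c) / (d - c), ?_⟩
          simp only [rp, Option.elim]
          rw [show ((d - e₂) / (d - c)) • (w + c • x) + ((e₂ - c) / (d - c)) • (w + d • x) =
            (((d - e₂) + (e₂ - c)) / (d - c)) • w + (((d - e₂) * c + (e₂ - c) * d) / (d - c)) • x by module,
            show (d - e₂) + (e₂ - c) = d - c by ring, show (d - e₂) * c + (e₂ - c) * d = e₂ * (d - c) by ring,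
            div_self hcd, mul_div_cancel_right₀ _ hcd, one_smul]
    have hb : b ≠ 0 := fun h => hnspan o o₂ (Ne.symm h₂') (by
      rw [hab, h, zero_smul, add_zero]; exact Submodule.smul_mem _ _ (Submodule.mem_span_singleton_self _))
    have hiso : f (rp o₁ + (a / b) • rp o) (rp o₁ + (a / b) • rp o) = 0 := by
      simp only [hf.add_left, Herm.add_right hf, hf.smul_left, Herm.smul_right hf, hperp, mul_zero, add_zero]
    have hL2 : L (rp o) (rp o₁ + (a / b) • rp o) := by
      show _ ∈ H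
      rw [← hscale hiso hb, smul_add, smul_smul, mul_div_cancel₀ _ hb, add_comm, ← hab]
      exact hl₂
    have h0 : L (rp o) (rp o₁ + (0 : F) • rp o) := by rw [zero_smul, add_zero]; exact hl₁
    have hab0 := (hu _ h0).trans (hu _ hL2).symm
    have ha0 : a = 0 := by
      rcases div_eq_zero_iff.1 hab0.symm with h | h
      · exact h
      · exact absurd h hb
    rw [ha0, zero_smul, zero_add] at hab
    exact hwne b o₁ o₂ hab.symm
  choose π hπ hπL using hex
  have hinv : ∀ o, π (π o) = o := fun o => huniq (π o) _ o (hπ _) (Ne.symm (hπ o)) (hπL _) (by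
    show _ ∈ H
    rw [← qel_comm_zero hf (hperp o o) (hperp (π o) (π o)) (hperp _ _)]
    exact hπL o)
  have h5 : ((Fintype.card (Option F) : ℕ) : ZMod 2) = 0 := by
    rw [Fintype.card, Finset.card_eq_sum_ones, Nat.cast_sum]
    exact Finset.sum_involution (fun o _ => π o) (fun _ _ => by decide) (fun o _ _ => hπ o)
      (fun _ _ => Finset.mem_univ _) fun o _ => hinv o
  rw [Fintype.card_option, hF4] at h5
  exact absurd h5 (by decide)

theorem semi_false {m : ℕ} (hm : Fintype.card ι = m + 2) (h3 : 3 ≤ m) {H : Subgroup (GL ι F)}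
    (hs : Semi hf H) : False := by
  rcases Nat.lt_or_ge (qn σ) 3 with hq | hq
  · exact semi_false_of_two hf hm h3 (by have := two_le_qn hf.ne_refl hf.involutive; omega) hs
  · exact semi_false_of_three hf hm h3 hq hs

end Cfsg.Agent.UMin
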