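/-
Inequalities between the sizes of the norm classes and the number of isotropic points.
-/
import Mathlib

set_option autoImplicit false

namespace Cfsg.Agent.UMin

/-- The number of vectors of given non-zero norm in dimension m. -/
def aNorm (q : ℤ) (m : ℕ) : ℤ := q ^ (m - 1) * (q ^ m - (-1) ^ m)

/-- The number of non-zero isotropic vectors in dimension m. -/
def iNorm (q : ℤ) (m : ℕ) : ℤ := (q ^ m - (-1) ^ m) * (q ^ (m - 1) + (-1) ^ m)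

theorem num_setup {q : ℤ} {m : ℕ} (hq : 2 ≤ q) (h3 : 3 ≤ m) : ∃ Q e : ℤ, q ^ 2 ≤ Q ∧
    ((e = 1 ∧ q ^ 3 ≤ Q) ∨ e = -1) ∧
    q ^ (m - 1) = Q ∧ q ^ m = q * Q ∧ (-1) ^ m = e ∧ iNorm q (m + 2) = (q ^ 3 * Q - e) * (q ^ 2 * Q + e) ∧
    q ^ (2 * m) = q ^ 2 * Q ^ 2 := by
  refine ⟨q ^ (m - 1), (-1) ^ m, pow_le_pow_right₀ (by linarith) (by omega), ?_, rfl, ?_, rfl, ?_, ?_⟩
  · rcases Nat.even_or_odd m with he | he
    · refine Or.inl ⟨he.neg_one_pow, pow_le_pow_right₀ (by linarith) ?_⟩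
      obtain ⟨k, rfl⟩ := he
      omega
    · exact Or.inr he.neg_one_pow
  · rw [← pow_succ', show m - 1 + 1 = m by omega]
  · rw [iNorm, show m + 2 - 1 = (m - 1) + 2 by omega, pow_add (-1 : ℤ) m 2, neg_one_sq, mul_one,
      show q ^ (m + 2) = q ^ 3 * q ^ (m - 1) by rw [← pow_add]; congr 1; omega,
      show q ^ (m - 1 + 2) = q ^ 2 * q ^ (m - 1) by rw [← pow_add]; congr 1; omega]
  · rw [← pow_mul, ← pow_add]; congr 1; omega

theorem iNorm_identity {q : ℤ} {m : ℕ} (hq : 2 ≤ q) (h3 : 3 ≤ m) :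
    iNorm q (m + 2) = (q ^ 2 - 1) * (q * q ^ (2 * m) + 1) + q ^ 2 * iNorm q m := by
  obtain ⟨Q, e, -, he, h1, h2, h0, h4, h5⟩ := num_setup hq h3
  rw [h4, h5, iNorm, h1, h2, h0]
  rcases he with ⟨rfl, -⟩ | rfl <;> ring

theorem norm_pos {q : ℤ} {m : ℕ} (hq : 2 ≤ q) (h3 : 3 ≤ m) : 0 < aNorm q m ∧ 0 < iNorm q m := by
  obtain ⟨Q, e, hQ, he, h1, h2, h0, -, -⟩ := num_setup hq h3
  have hQ4 : 4 ≤ Q := by nlinarith
  rw [aNorm, iNorm, h1, h2, h0]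
  rcases he with ⟨rfl, -⟩ | rfl <;> constructor <;> refine mul_pos ?_ ?_ <;> nlinarith

theorem double_full {q : ℤ} {m : ℕ} (hq : 2 ≤ q) (h3 : 3 ≤ m) :
    iNorm q (m + 2) ≤ (2 * q * q ^ (2 * m)) * (q ^ 2 - 1) := by
  obtain ⟨Q, e, hQ, he, -, -, -, h4, h5⟩ := num_setup hq h3
  rw [h4, h5]
  have hq4 : 4 ≤ q ^ 2 := by nlinarith
  have hQ0 : 0 ≤ Q := by linarith
  have h1 : 1 ≤ Q * (q ^ 2 - 2) := by nlinarith
  have h3' : 0 ≤ q ^ 3 := pow_nonneg (by linarith) 3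
  have h2 := mul_le_mul_of_nonneg_left h1 (mul_nonneg h3' hQ0)
  have h6 : 0 ≤ q ^ 2 * Q := mul_nonneg (by linarith) hQ0
  have h7 : 0 ≤ q ^ 3 * Q := mul_nonneg h3' hQ0
  have h8 : q ^ 2 * Q ≤ q ^ 3 * Q :=
    mul_le_mul_of_nonneg_right (pow_le_pow_right₀ (by linarith) (by norm_num)) hQ0
  rcases he with ⟨rfl, -⟩ | rfl <;> linarith

theorem many_norm {q : ℤ} {m : ℕ} (hq : 2 ≤ q) (h3 : 3 ≤ m) :
    iNorm q (m + 2) ≤ q * ((q + 1) * aNorm q m) * (q ^ 2 - 1) := by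
  obtain ⟨Q, e, hQ, he, h1, h2, h0, h4, -⟩ := num_setup hq h3
  rw [h4, aNorm, h1, h2, h0]
  have hq4 : 4 ≤ q ^ 2 := by nlinarith
  have hQ0 : 0 ≤ Q := by linarith
  have hk : 0 ≤ q ^ 2 - q - 1 := by nlinarith
  rcases he with ⟨rfl, hQ3⟩ | rfl
  · have e5 : q ^ 4 + 2 * q ^ 3 - 2 * q ^ 2 - q ≤ q ^ 2 * (q ^ 2 - q - 1) * q ^ 3 := by
      rcases eq_or_lt_of_le hq with rfl | hq3
      · norm_num
      · have h5 : 5 ≤ q ^ 2 - q - 1 := by nlinarith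
        have h6 := mul_le_mul_of_nonneg_left h5 (show 0 ≤ q ^ 5 from pow_nonneg (by linarith) 5)
        have h7 : q ^ 4 ≤ q ^ 5 := pow_le_pow_right₀ (by linarith) (by norm_num)
        have h8 : q ^ 3 ≤ q ^ 4 := pow_le_pow_right₀ (by linarith) (by norm_num)
        have h9 : 0 ≤ q ^ 5 := pow_nonneg (by linarith) 5
        linarith
    have h6 := mul_le_mul_of_nonneg_right e5 hQ0
    have h7 := mul_le_mul_of_nonneg_left hQ3
      (mul_nonneg (mul_nonneg (pow_nonneg (show (0 : ℤ) ≤ q by linarith) 2) hk) hQ0)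
    linarith
  · have h5 : 0 ≤ q ^ 2 * (q ^ 2 - q - 1) * Q * Q :=
      mul_nonneg (mul_nonneg (mul_nonneg (by linarith) hk) hQ0) hQ0
    have hc : 0 ≤ q ^ 4 + 2 * q ^ 3 - 2 * q ^ 2 - q := by nlinarith
    have h6 := mul_nonneg hc hQ0
    linarith

theorem many_iso {q : ℤ} {m : ℕ} (hq : 2 ≤ q) (h3 : 3 ≤ m) {a T : ℤ} (ha : 0 ≤ a)
    (h1T : (q + 1) * iNorm q m + a ≤ T) (hT : T ≤ a * q ^ m) :
    iNorm q (m + 2) ≤ q * T * (q ^ 2 - 1) := by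
  obtain ⟨Q, e, hQ, he, h1, h2, h0, h4, -⟩ := num_setup hq h3
  rw [iNorm, h1, h2, h0] at h1T
  rw [h2] at hT
  rw [h4]
  have hq4 : 4 ≤ q ^ 2 := by nlinarith
  have hQ4 : 4 ≤ Q := by linarith
  have hqQ : 8 ≤ q * Q := by nlinarith
  have haQ : Q - 1 ≤ a := by
    refine le_of_mul_le_mul_right ?_ (show 0 < q * Q by linarith)
    have hlow : (q * Q) * (Q - 1) ≤ (q + 1) * ((q * Q - e) * (Q + e)) := by
      rw [← mul_assoc (q + 1)]
      refine mul_le_mul ?_ ?_ (by linarith) ?_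
      all_goals rcases he with ⟨rfl, -⟩ | rfl <;> nlinarith
    linarith
  have hT' := mul_le_mul_of_nonneg_right
    (mul_le_mul_of_nonneg_left (le_trans (add_le_add le_rfl haQ) h1T) (show 0 ≤ q by linarith))
    (show 0 ≤ q ^ 2 - 1 by linarith)
  refine le_trans ?_ hT'
  have hQ0 : 0 ≤ Q := by linarith
  have hk : 0 ≤ q ^ 2 - q - 1 := by nlinarith
  have h5 := mul_le_mul_of_nonneg_left hQ
    (mul_nonneg (mul_nonneg (pow_nonneg (show (0 : ℤ) ≤ q by linarith) 2) hk) hQ0)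
  have hmain : 0 ≤ q ^ 6 - 2 * q ^ 5 - q ^ 4 + 4 * q ^ 3 - q ^ 2 - 2 * q ∧
      q * (q ^ 2 - 1) * (q + 2) - 1 ≤ q ^ 2 * (q ^ 6 - 2 * q ^ 5 - q ^ 4 + 4 * q ^ 3 - q ^ 2 - 2 * q) := by
    rcases eq_or_lt_of_le hq with rfl | hq3
    · norm_num
    · have h8 : q ^ 4 ≤ q ^ 6 - 2 * q ^ 5 - q ^ 4 := by
        have := mul_le_mul_of_nonneg_left (show 2 ≤ q ^ 2 - 2 * q - 1 by nlinarith)
          (show 0 ≤ q ^ 4 from pow_nonneg (by linarith) 4)
        linarith [pow_nonneg (show (0 : ℤ) ≤ q by linarith) 4]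
      have h9 : q ^ 2 + 2 * q ≤ 4 * q ^ 3 := by nlinarith
      refine ⟨by linarith [pow_nonneg (show (0 : ℤ) ≤ q by linarith) 4], ?_⟩
      have h10 := mul_le_mul_of_nonneg_left
        (show q ^ 4 ≤ q ^ 6 - 2 * q ^ 5 - q ^ 4 + 4 * q ^ 3 - q ^ 2 - 2 * q by linarith)
        (show (0 : ℤ) ≤ q ^ 2 by linarith)
      have h11 : q * (q ^ 2 - 1) * (q + 2) ≤ q ^ 2 * q ^ 4 := by
        have h12 : q + 2 ≤ q ^ 2 := by nlinarith
        have h13 : q ^ 2 - 1 ≤ q ^ 3 := by nlinarith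
        calc q * (q ^ 2 - 1) * (q + 2) ≤ q * q ^ 3 * q ^ 2 :=
              mul_le_mul (mul_le_mul_of_nonneg_left h13 (by linarith)) h12 (by linarith)
                (mul_nonneg (by linarith) (pow_nonneg (by linarith) 3))
          _ = q ^ 2 * q ^ 4 := by ring
      linarith
  have h6 := mul_le_mul_of_nonneg_left hQ hmain.1
  have hc2 : 0 ≤ (q - 1) * (q * (q + 1) * (q ^ 2 - 1) - q ^ 2) := by
    refine mul_nonneg (by linarith) ?_
    nlinarith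
  have h7 := mul_nonneg hc2 hQ0
  rcases he with ⟨rfl, -⟩ | rfl <;> linarith

theorem centre_numeric {q : ℤ} {m : ℕ} (hq : 2 ≤ q) (h3 : 3 ≤ m) {T : ℤ}
    (h : 2 * aNorm q m ≤ T ∨ aNorm q m + iNorm q m ≤ T ∨ 2 * iNorm q m ≤ T ∨ q ^ 2 * iNorm q m ≤ (q ^ 2 - 1) * T ∨
      4 * aNorm q m ≤ 3 * T) :
    q ^ 2 * iNorm q m ≤ (q ^ 2 - 1) * T ∨ (q = 2 ∧ Even m ∧ 4 * aNorm q m ≤ 3 * T) := by
  obtain ⟨Q, e, hQ, he, h1, h2, h0, -, -⟩ := num_setup hq h3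
  have hQ4 : 4 ≤ Q := by nlinarith
  have hq1 : 0 ≤ q ^ 2 - 1 := by nlinarith
  have hq4 : 4 ≤ q ^ 2 := by nlinarith
  rw [aNorm, iNorm, h1, h2, h0] at h ⊢
  replace he : e = 1 ∨ e = -1 := he.imp And.left id
  have hG : 0 < q * Q - e := by rcases he with rfl | rfl <;> nlinarith
  have main : ∀ c : ℤ, c * (q * Q - e) ≤ T → q ^ 2 * (Q + e) ≤ (q ^ 2 - 1) * c →
      q ^ 2 * ((q * Q - e) * (Q + e)) ≤ (q ^ 2 - 1) * T := fun c hc hc' =>
    calc q ^ 2 * ((q * Q - e) * (Q + e)) = q ^ 2 * (Q + e) * (q * Q - e) := by ring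
      _ ≤ (q ^ 2 - 1) * c * (q * Q - e) := mul_le_mul_of_nonneg_right hc' hG.le
      _ ≤ _ := by rw [mul_assoc]; exact mul_le_mul_of_nonneg_left hc hq1
  rcases h with h | h | h | h | h
  · refine Or.inl (main (2 * Q) (by linarith) ?_)
    rcases he with rfl | rfl <;> nlinarith
  · refine Or.inl (main (2 * Q + e) (by linarith) ?_)
    rcases he with rfl | rfl <;> nlinarith
  · refine Or.inl (main (2 * (Q + e)) (by linarith) ?_)
    rcases he with rfl | rfl <;> nlinarith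
  · exact Or.inl h
  · rcases he with rfl | rfl
    · by_cases hq2 : q = 2
      · exact Or.inr ⟨hq2, (neg_one_pow_eq_one_iff_even (by norm_num)).1 h0, h⟩
      left
      have hq3 : 3 ≤ q := by omega
      have h9 : 9 ≤ q ^ 2 := by nlinarith
      have hc : 3 * q ^ 2 * (Q + 1) ≤ (q ^ 2 - 1) * (4 * Q) := by
        have := mul_le_mul_of_nonneg_left hQ (show (0 : ℤ) ≤ q ^ 2 - 4 by linarith)
        nlinarith
      have h5 := mul_le_mul_of_nonneg_left h hq1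
      have h6 := mul_le_mul_of_nonneg_right hc hG.le
      linarith
    · left
      have hc : 3 * q ^ 2 * (Q - 1) ≤ (q ^ 2 - 1) * (4 * Q) := by nlinarith
      have h5 := mul_le_mul_of_nonneg_left h hq1
      have h6 := mul_le_mul_of_nonneg_right hc hG.le
      linarith

end Cfsg.Agent.UMin
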