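/-
The dual of the radical as a union of norm classes, and its size when not all transvections at the point are
present.
-/
import Cfsg.Agent.Lib.UnitaryMinIndex.Rigid
import Cfsg.Agent.Lib.UnitaryMinIndex.Numeric

set_option autoImplicit false

namespace Cfsg.Agent.UMin

open Matrix Cfsg.Agent.Transvec Cfsg.Agent.Transvec.Herm Cfsg.Agent.UnitarySimple
open scoped Pointwise

variable {ι : Type} [Fintype ι] [DecidableEq ι] {F : Type*} [Field F] [Finite F]
variable {σ : F ≃+* F} {f : (ι → F) → (ι → F) → F} (hf : Geo.IsUnitaryForm σ f)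
include hf

variable {x y : ι → F} (p : Pair f x y) {m : ℕ} (hm : Fintype.card ι = m + 2) (h3 : 3 ≤ m)
include p hm h3

theorem cls_eq_a {r : ι → F} (hrr : f r r ≠ 0) :
    ((cls hf x y (f r r)).ncard : ℤ) = aNorm (qn σ) m := card_cls hf p hm h3 (self_fixed hf r) hrr

theorem cls_eq_i {r : ι → F} (hrr : f r r = 0) : ((cls hf x y (f r r)).ncard : ℤ) = iNorm (qn σ) m := by
  rw [hrr]; exact card_cls_zero hf p hm h3

theorem cls_zero_nonempty : (cls hf x y 0).Nonempty := by
  have h := card_cls_zero hf p hm h3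
  have hp := (norm_pos (q := (qn σ : ℤ)) (by exact_mod_cast two_le_qn hf.ne_refl hf.involutive) h3).2
  rw [iNorm] at hp
  refine (Set.ncard_pos (Set.toFinite _)).1 ?_
  exact_mod_cast h ▸ hp

theorem cls_nonempty {c : F} (hc : σ c = c) (hc0 : c ≠ 0) : (cls hf x y c).Nonempty := by
  have h := card_cls hf p hm h3 hc hc0
  have hp := (norm_pos (q := (qn σ : ℤ)) (by exact_mod_cast two_le_qn hf.ne_refl hf.involutive) h3).1
  rw [aNorm] at hp
  refine (Set.ncard_pos (Set.toFinite _)).1 ?_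
  exact_mod_cast h ▸ hp

/-- When transvections are missing at the point, the dual is large. -/
theorem pow_le_dNum (H : Subgroup (GL ι F)) (hS : sPar hf H p.xx ≠ anti σ) : qn σ ^ m ≤ dNum hf p H := by
  obtain ⟨c, hc, hcS⟩ : ∃ c ∈ anti σ, c ∉ sPar hf H p.xx := by
    by_contra h
    push Not at h
    exact hS (le_antisymm (fun _ hc => hc.1) h)
  obtain ⟨φ, hφS, hφc⟩ := exists_sep (sPar hf H p.xx) hcS
  obtain ⟨b, hb⟩ := exists_trace hf.ne_refl hf.involutive (1 : F) (map_one σ)
  have h := card_sq_le hf (g := φ.comp (AddMonoidHom.id F - σ.toAddMonoidHom)) (fun h => hφc (by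
      have h1 : φ (c * b - σ (c * b)) = 0 := DFunLike.congr_fun h (c * b)
      rwa [map_mul σ, show σ c = -c from hc, show c * b - -c * σ b = c * (b + σ b) by ring, hb, mul_one] at h1))
    (p.nondeg hf) (K := kPar hf p H) (fun v hv => hv.1) (fun u hu v hv => hφS _ (by
      show f u v - σ (f u v) ∈ sPar hf H p.xx
      rw [← hf.herm v u]
      exact comm_sPar hf p hu hv))
  have hW := card_wSp hf p hm
  have hK : Nat.card (kPar hf p H) ≤ qn σ ^ m :=
    (Nat.pow_le_pow_iff_left two_ne_zero).1 (h.trans (le_of_eq (by rw [hW, mul_comm, pow_mul])))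
  have hd := dNum_mul hf p H
  rw [hW, two_mul, pow_add] at hd
  refine Nat.le_of_mul_le_mul_right ?_ (show 0 < qn σ ^ m from pow_pos Nat.card_pos m)
  rw [← hd]
  exact Nat.mul_le_mul_left _ hK

omit hm h3 in
/-- The dual is the zero vector and its norm classes. -/
theorem dNum_eq_sum (H : Subgroup (GL ι F)) [Fintype (fixedField σ)] :
    dNum hf p H = 1 + ∑ c : fixedField σ, ((dPar hf p H : Set (ι → F)) ∩ cls hf x y (c : F)).ncard := by
  classical
  set D := dPar hf p H
  let e : {r : D // r ≠ 0} ≃ Σ c : fixedField σ, ↥((D : Set (ι → F)) ∩ cls hf x y (c : F)) :=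
    { toFun := fun r => ⟨⟨f (r.1 : ι → F) r.1, self_fixed hf _⟩,
        ⟨r.1.1, r.1.2, dPar_sub hf p r.1.2, fun h => r.2 (Subtype.ext h), rfl⟩⟩
      invFun := fun z => ⟨⟨z.2.1, z.2.2.1⟩, fun h => z.2.2.2.2.1 (congrArg Subtype.val h)⟩
      left_inv := fun r => rfl
      right_inv := fun z => by
        obtain ⟨⟨c, hc⟩, v, hv, hvc⟩ := z
        exact Sigma.subtype_ext (Subtype.ext hvc.2.2) rfl }
  have h := Nat.card_congr e
  rw [Nat.card_sigma] at h
  simp only [Nat.card_coe_set_eq] at h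
  rw [← h, add_comm]
  have h1 : Nat.card {r : D // r ≠ 0} + 1 = Nat.card D := by
    rw [← Finite.card_option]
    exact Nat.card_congr (Equiv.optionSubtypeNe 0)
  exact h1.symm

/-- The class equations of the dual. -/
theorem exists_classEq (H : Subgroup (GL ι F)) : ∃ b₀ B : ℕ,
    (aIdx hf p H : ℤ) * ((dNum hf p H : ℤ) - 1) = iNorm (qn σ) m * b₀ + aNorm (qn σ) m * B ∧
      ∀ w ∈ wSp hf x y, w ≠ 0 → f w w = 0 → bNum hf p H w = b₀ := by
  classical
  haveI := Fintype.ofFinite (fixedField σ)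
  obtain ⟨w₀, hw₀, hw₀0, hw₀w⟩ := cls_zero_nonempty hf p hm h3
  have hex : ∀ c : fixedField σ, ∃ b : ℕ, c ≠ 0 →
      (aIdx hf p H : ℤ) * ((dPar hf p H : Set (ι → F)) ∩ cls hf x y (c : F)).ncard = aNorm (qn σ) m * b := by
    intro c
    by_cases hc : c = 0
    · exact ⟨0, fun h => absurd hc h⟩
    obtain ⟨r, hr, hr0, hrc⟩ := cls_nonempty hf p hm h3 c.2 fun h => hc (Subtype.ext h)
    refine ⟨bNum hf p H r, fun _ => ?_⟩
    have h := cnt_eq hf p hm h3 H hr hr0
    rw [hrc] at h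
    rw [aNorm, ← card_cls hf p hm h3 c.2 fun h => hc (Subtype.ext h)]
    exact_mod_cast h
  choose b hb using hex
  refine ⟨bNum hf p H w₀, ∑ c ∈ Finset.univ.erase (0 : fixedField σ), b c, ?_,
    fun w hw hw0 hww => bNum_eq hf p hm h3 H hw hw0 hw₀ hw₀0 (hww.trans hw₀w.symm)⟩
  rw [dNum_eq_sum hf p H, ← Finset.add_sum_erase _ _ (Finset.mem_univ (0 : fixedField σ))]
  push_cast
  rw [add_sub_cancel_left, mul_add, Finset.mul_sum, Finset.mul_sum,
    Finset.sum_congr rfl fun c hc => hb c (Finset.ne_of_mem_erase hc)]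
  congr 1
  have h := cnt_eq hf p hm h3 H hw₀ hw₀0
  rw [hw₀w] at h
  rw [iNorm, ← card_cls_zero hf p hm h3]
  exact_mod_cast h

end Cfsg.Agent.UMin
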