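/-
The weight of an isotropic point in a subgroup: the index of the middle part times the size of the dual.
-/
import Cfsg.Agent.Lib.UnitaryMinIndex.Sums
import Cfsg.Agent.Lib.UnitaryMinIndex.Five

set_option autoImplicit false

namespace Cfsg.Agent.UMin

open Matrix Cfsg.Agent.Transvec Cfsg.Agent.Transvec.Herm Cfsg.Agent.UnitarySimple
open scoped Pointwise

variable {ι : Type} [Fintype ι] [DecidableEq ι] {F : Type*} [Field F] [Finite F]
variable {σ : F ≃+* F} {f : (ι → F) → (ι → F) → F} (hf : Geo.IsUnitaryForm σ f)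
include hf

theorem exists_prime_pow_qn : ∃ p k : ℕ, p.Prime ∧ 1 ≤ k ∧ qn σ = p ^ k := by
  letI : Fintype (fixedField σ) := Fintype.ofFinite _
  obtain ⟨p, -, n, hp, hn⟩ := FiniteField.card' (fixedField σ)
  exact ⟨p, n, hp, n.2, by rw [qn, Nat.card_eq_fintype_card, hn]⟩

theorem exists_not_mem_span {D : AddSubgroup (ι → F)} (hD : qn σ ^ 2 < Nat.card D) (r : ι → F) :
    ∃ d ∈ D, d ∉ Submodule.span F {r} := by
  by_contra h
  push Not at h
  refine absurd hD (not_lt.2 ?_)
  rw [← card_F hf.ne_refl hf.involutive]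
  choose k hk using fun d : D => Submodule.mem_span_singleton.1 (h d d.2)
  exact Nat.card_le_card_of_injective k fun a b hab => Subtype.ext (by rw [← hk a, ← hk b, hab])

theorem card_le_of_line {D : AddSubgroup (ι → F)} {r : ι → F} (h : ∀ d ∈ D, d ∈ Submodule.span F {r}) :
    Nat.card D ≤ qn σ ^ 2 := by
  by_contra hh
  obtain ⟨d, hd, hdr⟩ := exists_not_mem_span hf (not_le.1 hh) r
  exact hdr (h d hd)

/-- An additive group inside a line with constant non-zero norm has at most four elements. -/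
theorem card_le_four {D : AddSubgroup (ι → F)} {r : ι → F} (hr : r ∈ D) (hrr : f r r ≠ 0)
    (hline : ∀ d ∈ D, d ∈ Submodule.span F {r}) (hconst : ∀ d ∈ D, d ≠ 0 → f d d = f r r) : Nat.card D ≤ 4 := by
  classical
  have hr0 : r ≠ 0 := fun h => hrr (by rw [h, zero_left hf])
  let A : Set F := {k | k • r ∈ D}
  have hN : ∀ k ∈ A, k ≠ 0 → k * σ k = 1 := fun k hk hk0 => by
    have h := hconst _ hk (smul_ne_zero hk0 hr0)
    rw [hf.smul_left, Herm.smul_right hf, ← mul_assoc] at h
    exact mul_right_cancel₀ hrr (by rw [h, one_mul])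
  have h1A : (1 : F) ∈ A := by show (1 : F) • r ∈ D; rwa [one_smul]
  have hroot : ∀ k ∈ A, k ≠ 0 → k ≠ -1 → k + σ k = -1 := fun k hk hk0 hk1 => by
    have h1 : (1 : F) + k ∈ A := by show (1 + k) • r ∈ D; rw [add_smul]; exact D.add_mem h1A hk
    have h := hN _ h1 fun h => hk1 (by linear_combination h)
    rw [map_add, map_one] at h
    linear_combination h - hN k hk hk0
  have hsmall : A.ncard ≤ 4 := by
    by_cases hA : ∀ k ∈ A, k = 0 ∨ k = 1 ∨ k = -1
    · calc A.ncard ≤ ({0, 1, -1} : Set F).ncard := Set.ncard_le_ncard (fun k hk => by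
            simpa [or_assoc] using hA k hk) (Set.toFinite _)
        _ ≤ 4 := by
          refine (Set.ncard_insert_le _ _).trans ?_
          have := Set.ncard_insert_le (1 : F) {-1}
          rw [Set.ncard_singleton] at this
          omega
    push Not at hA
    obtain ⟨w, hw, hw0, hw1, hw1'⟩ := hA
    have hw' := hroot w hw hw0 hw1'
    have h2 : (2 : F) = 0 := by
      have hn : -w ∈ A := by show (-w) • r ∈ D; rw [neg_smul]; exact D.neg_mem hw
      have h := hroot (-w) hn (neg_ne_zero.2 hw0) (fun h => hw1 (neg_injective h))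
      rw [map_neg] at h
      linear_combination hw' + h
    have hneg : (-1 : F) = 1 := by linear_combination -h2
    have hmem : ∀ k ∈ A, k = 0 ∨ k = 1 ∨ k = w ∨ k = σ w := fun k hk => by
      by_cases hk0 : k = 0
      · exact Or.inl hk0
      by_cases hk1 : k = 1
      · exact Or.inr (Or.inl hk1)
      have hk' := hroot k hk hk0 (by rwa [hneg])
      have : (k - w) * (k - σ w) = 0 := by
        linear_combination hN w hw hw0 - hN k hk hk0 + k * hk' - k * hw'
      rcases mul_eq_zero.1 this with h | h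
      · exact Or.inr (Or.inr (Or.inl (sub_eq_zero.1 h)))
      · exact Or.inr (Or.inr (Or.inr (sub_eq_zero.1 h)))
    calc A.ncard ≤ ({0, 1, w, σ w} : Set F).ncard := Set.ncard_le_ncard (fun k hk => by
          simpa using hmem k hk) (Set.toFinite _)
      _ ≤ 4 := by
        refine (Set.ncard_insert_le _ _).trans ?_
        have h1 := Set.ncard_insert_le (1 : F) {w, σ w}
        have h2 := Set.ncard_insert_le w {σ w}
        rw [Set.ncard_singleton] at h2
        omega
  refine le_trans ?_ hsmall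
  rw [← Nat.card_coe_set_eq]
  choose k hk using fun d : D => Submodule.mem_span_singleton.1 (hline d d.2)
  exact Nat.card_le_card_of_injective (fun d => (⟨k d, by show k d • r ∈ D; rw [hk]; exact d.2⟩ : A))
    fun a b hab => Subtype.ext (by rw [← hk a, ← hk b, show k a = k b from congrArg Subtype.val hab])

variable {x y : ι → F} (p : Pair f x y) {m : ℕ} (hm : Fintype.card ι = m + 2) (h3 : 3 ≤ m)
include p hm h3

/-- The exceptional solution of the three-dimensional count does not occur. -/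
theorem five_special (hm3 : m = 3) (H : Subgroup (GL ι F)) (hd : dNum hf p H = qn σ ^ 3)
    {w : ι → F} (hw : w ∈ dPar hf p H) (hw0 : w ≠ 0) (hww : f w w = 0)
    (hb : ∀ u ∈ wSp hf x y, u ≠ 0 → f u u = 0 → bNum hf p H u = 1) : False := by
  classical
  set D := dPar hf p H with hDdef
  set X := wSp hf x y
  set q := qn σ with hq
  have hq2 : 2 ≤ q := two_le_qn hf.ne_refl hf.involutive
  have hDX : ∀ v ∈ D, v ∈ X := fun v hv => dPar_sub hf p hv
  have hwX := hDX w hw
  have hfix : ∀ g : lev f x y, mv (g : GL ι F) w = w → ∀ v ∈ D, mv (g : GL ι F) v ∈ D := by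
    intro g hg v hv
    have h := mv_mem_smul g (D := (D : Set (ι → F))) hv
    rwa [smul_eq_of_one hf p H (hb w hwX hw0 hww) hw hw hg] at h
  have key : ∀ w' ∈ X, ∀ q2 : Pair f w w',
      Nondeg hf (X ⊓ orth hf (Submodule.span F {w, w'})) ∧
        Module.finrank F ↥(X ⊓ orth hf (Submodule.span F {w, w'})) = 1 := by
    intro w' hw' q2
    have hle : Submodule.span F {w, w'} ≤ X := Submodule.span_le.2 (by rintro v (rfl | rfl) <;> assumption)
    have hn := (nondeg_pair hf q2.xx q2.yy q2.xy).1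
    have h := finrank_inf_orth_add hf hn hle
    rw [(nondeg_pair hf q2.xx q2.yy q2.xy).2, p.finrank hf hm, hm3] at h
    exact ⟨nondeg_inf_orth hf hn (p.nondeg hf) hle, by omega⟩
  -- every member is orthogonal to w
  have hperp : ∀ d ∈ D, f d w = 0 := by
    intro d hd'
    by_contra hc
    set c := f d w with hcdef
    obtain ⟨b, hb'⟩ := exists_trace hf.ne_refl hf.involutive (-f (c⁻¹ • d) (c⁻¹ • d))
      (by rw [map_neg, self_fixed hf])
    have h1 : f w (c⁻¹ • d) = 1 := by
      rw [Herm.smul_right hf, hf.herm w d, ← hcdef, ← map_mul, inv_mul_cancel₀ hc, map_one]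
    have h1' : f (c⁻¹ • d) w = 1 := by rw [hf.herm, h1, map_one]
    set w' := c⁻¹ • d + b • w with hw'def
    have q2 : Pair f w w' := ⟨hww, by
      simp only [hw'def, hf.add_left, Herm.add_right hf, hf.smul_left b w, Herm.smul_right hf b _ w, h1, h1', hww]
      linear_combination hb', by
      rw [hw'def, Herm.add_right hf, Herm.smul_right hf b, hww, mul_zero, add_zero, h1]⟩
    have hw'X : w' ∈ X := X.add_mem (X.smul_mem _ (hDX d hd')) (X.smul_mem _ hwX)
    obtain ⟨hVn, hVd⟩ := key w' hw'X q2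
    set V := X ⊓ orth hf (Submodule.span F {w, w'})
    have hvw : ∀ v : V, f (v : ι → F) w = 0 := fun v => q2.left_x hf v.2.2
    have hdv : ∀ v : V, f d (v : ι → F) = 0 := fun v => by
      have h := q2.right_y hf v.2.2
      rw [hw'def, hf.add_left, hf.smul_left b, q2.right_x hf v.2.2, mul_zero, add_zero, hf.smul_left] at h
      exact (mul_eq_zero.1 h).resolve_left (inv_ne_zero hc)
    choose l hl using fun v : V =>
      exists_trace hf.ne_refl hf.involutive (-f (v : ι → F) v) (by rw [map_neg, self_fixed hf])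
    have hin : ∀ z : V × anti σ, c • (z.1 : ι → F) + ((l z.1 + z.2) * c) • w ∈ D := by
      intro z
      have hl' : l z.1 + z.2 + σ (l z.1 + z.2) + f (z.1 : ι → F) z.1 = 0 := by
        rw [map_add, show σ (z.2 : F) = -(z.2 : F) from z.2.2]
        linear_combination hl z.1
      have h := hfix ⟨_, eichler_mem_lev hf p hwX z.1.2.1 hww (hvw z.1) hl'⟩
        (qel_apex hf hww (hvw z.1) _) d hd'
      rw [show mv (qel hf w (z.1 : ι → F) (l z.1 + z.2)) d = d + (c • (z.1 : ι → F) + ((l z.1 + z.2) * c) • w) by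
        rw [mv_qel hf hww (hvw z.1), hdv, sub_zero, add_assoc]] at h
      exact (D.add_mem_cancel_left hd').1 h
    let Ψ : Option (V × anti σ) → D := fun o => o.elim ⟨d, hd'⟩ fun z => ⟨_, hin z⟩
    have horth : ∀ z : V × anti σ, f (c • (z.1 : ι → F) + ((l z.1 + z.2) * c) • w) w = 0 := fun z => by
      rw [hf.add_left, hf.smul_left, hf.smul_left, hvw, hww, mul_zero, mul_zero, add_zero]
    have hΨ : Function.Injective Ψ := by
      rintro (_ | z) (_ | z') h
      · rfl
      · exact absurd (by rw [hcdef, show d = _ from congrArg Subtype.val h]; exact horth z') hc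
      · exact absurd (by rw [hcdef, ← show _ = d from congrArg Subtype.val h]; exact horth z) hc
      · have h' : c • (z.1 : ι → F) + ((l z.1 + z.2) * c) • w = c • (z'.1 : ι → F) + ((l z'.1 + z'.2) * c) • w :=
          congrArg Subtype.val h
        have h2 := congrArg (fun v => f v w') h'
        simp only [hf.add_left, hf.smul_left, q2.xy, q2.left_y hf z.1.2.2, q2.left_y hf z'.1.2.2, mul_zero,
          zero_add, mul_one] at h2
        rw [h2] at h'
        have h4 : z.1 = z'.1 := Subtype.ext (smul_right_injective _ hc (add_right_cancel h'))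
        rw [h4] at h2
        exact congrArg some (Prod.ext h4 (Subtype.ext (add_left_cancel (mul_right_cancel₀ hc h2))))
    have h := Nat.card_le_card_of_injective Ψ hΨ
    rw [Finite.card_option, Nat.card_prod, card_anti hf.ne_refl hf.involutive,
      Module.natCard_eq_pow_finrank (K := F), hVd, pow_one, card_F hf.ne_refl hf.involutive, ← pow_succ, ← hq,
      show Nat.card D = q ^ 3 from hd] at h
    rw [show (2 : ℕ) + 1 = 3 from rfl] at h
    omega
  obtain ⟨w', hw', hw'1, hw'w'⟩ := exists_partner hf (p.nondeg hf) hwX hw0 hww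
  have q2 : Pair f w w' := ⟨hww, hw'w', hw'1⟩
  obtain ⟨hVn, hVd⟩ := key w' hw' q2
  obtain ⟨r, hr, hrr⟩ := exists_anisotropic hf hVn (fun h0 => by rw [h0, finrank_bot] at hVd; omega)
  have hwr : f w r = 0 := q2.right_x hf hr.2
  have hrw : f r w = 0 := q2.left_x hf hr.2
  have hw'r : f w' r = 0 := q2.right_y hf hr.2
  have hdec : ∀ d ∈ D, ∃ β : F, d = f d w' • w + β • r := by
    intro d hd'
    have hz : d - f d w' • w ∈ X ⊓ orth hf (Submodule.span F {w, w'}) := by
      refine ⟨X.sub_mem (hDX d hd') (X.smul_mem _ hwX), ?_⟩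
      have h := q2.proj_mem hf d
      rwa [hperp d hd', zero_smul, sub_zero] at h
    have hline : Submodule.span F {r} = X ⊓ orth hf (Submodule.span F {w, w'}) :=
      Submodule.eq_of_le_of_finrank_eq ((Submodule.span_singleton_le_iff_mem _ _).2 hr)
        (by rw [finrank_span_single hf hrr, hVd])
    obtain ⟨β, hβ⟩ := Submodule.mem_span_singleton.1 (hline ▸ hz)
    exact ⟨β, by rw [hβ]; abel⟩
  choose β hβ using hdec
  have hq3 : q ^ 2 < Nat.card D := by
    rw [show Nat.card D = q ^ 3 from hd]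
    exact Nat.pow_lt_pow_right hq2 (by norm_num)
  obtain ⟨d₁, hd₁, hd₁w⟩ := exists_not_mem_span hf hq3 w
  have hβ₁ : β d₁ hd₁ ≠ 0 := fun h => hd₁w (by
    rw [hβ d₁ hd₁, h, zero_smul, add_zero]; exact Submodule.smul_mem _ _ (Submodule.mem_span_singleton_self w))
  have hwline : ∀ a : F, a • w ∈ D := by
    intro a
    set c := f d₁ r
    have hc : c ≠ 0 := by
      show f d₁ r ≠ 0
      rw [hβ d₁ hd₁, hf.add_left, hf.smul_left, hf.smul_left, hwr, mul_zero, zero_add]
      exact mul_ne_zero hβ₁ hrr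
    set γ := σ (-a / c) with hγ
    obtain ⟨l, hl⟩ := exists_trace hf.ne_refl hf.involutive (-f (γ • r) (γ • r))
      (by rw [map_neg, self_fixed hf])
    have hγw : f (γ • r) w = 0 := by rw [hf.smul_left, hrw, mul_zero]
    have h := hfix ⟨_, eichler_mem_lev hf p hwX (X.smul_mem γ hr.1) hww hγw (l := l) (by linear_combination hl)⟩
      (qel_apex hf hww hγw _) d₁ hd₁
    rw [show mv (qel hf w (γ • r) l) d₁ = d₁ + a • w by
      rw [mv_qel hf hww hγw, hperp d₁ hd₁, zero_smul, add_zero, mul_zero, zero_sub, Herm.smul_right hf, hγ,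
        hf.involutive, div_mul_cancel₀ _ hc, neg_neg]] at h
    exact (D.add_mem_cancel_left hd₁).1 h
  have hβmem : ∀ d (hd' : d ∈ D), β d hd' • r ∈ D := fun d hd' => by
    have h := D.sub_mem hd' (hwline (f d w'))
    rwa [show d - f d w' • w = β d hd' • r from sub_eq_iff_eq_add'.2 (hβ d hd')] at h
  let B : Set F := {b | b • r ∈ D}
  have hB : Nat.card B ≤ q := by
    have e : Nat.card (F × B) ≤ Nat.card D := by
      refine Nat.card_le_card_of_injective (fun z => (⟨z.1 • w + (z.2 : F) • r, D.add_mem (hwline _) z.2.2⟩ : D)) ?_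
      intro z z' h
      have h' : z.1 • w + (z.2 : F) • r = z'.1 • w + (z'.2 : F) • r := congrArg Subtype.val h
      have h2 := congrArg (fun v => f v r) h'
      simp only [hf.add_left, hf.smul_left, hwr, mul_zero, zero_add, mul_eq_mul_right_iff, hrr, or_false] at h2
      rw [h2] at h'
      exact Prod.ext (smul_left_injective F hw0 (add_right_cancel h')) (Subtype.ext h2)
    rw [Nat.card_prod, card_F hf.ne_refl hf.involutive, show Nat.card D = q ^ 3 from hd, ← hq, pow_succ] at e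
    exact Nat.le_of_mul_le_mul_left e (pow_pos (by omega) 2)
  set β₀ := β d₁ hd₁
  have hmove : ∀ t : Fˣ, σ (t : F) / t * β₀ ∈ B := by
    intro t
    have ht := t.ne_zero
    let g : lev f x y := ⟨_, torPr_mem_lev hf p q2 hwX hw' hr.1 hrr ht⟩
    have hu0 : σ (t : F) / t ≠ 0 := div_ne_zero (sig_ne_zero hf ht) ht
    have hgw : mv (g : GL ι F) w = (t : F) • w := by
      show mv (tor hf w w' (t : F) * pr hf r (σ (t : F) / t)) w = _
      rw [mv_mul, pr_fix hf hrr hu0 hwr, tor_fst hf hww hw'w' hw'1 ht]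
    have hg := smul_eq_of_one hf p H
      (hb _ (X.smul_mem _ hwX) (smul_ne_zero ht hw0) (by rw [hf.smul_left, Herm.smul_right hf, hww]; ring))
      hw (hwline t) hgw
    have h := mv_mem_smul g (D := (D : Set (ι → F))) (hβmem d₁ hd₁)
    rw [hg, show mv (g : GL ι F) (β₀ • r) = (σ (t : F) / t * β₀) • r by
      show mv (tor hf w w' (t : F) * pr hf r (σ (t : F) / t)) _ = _
      rw [mv_smul, mv_mul, pr_self hf hrr hu0, mv_smul, tor_fix hf hww hw'w' hw'1 ht hrw
        ((f_eq_zero_comm hf).1 hw'r), smul_smul, mul_comm]] at h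
    exact h
  have h0B : (0 : F) ∈ B := by show (0 : F) • r ∈ D; rw [zero_smul]; exact D.zero_mem
  have hB0 : Nat.card ↥(B \ {0}) ≤ q - 1 := by
    rw [Nat.card_coe_set_eq, Set.ncard_sdiff_singleton_of_mem h0B, ← Nat.card_coe_set_eq]
    omega
  have h := card_le_of_fibres (fun t : Fˣ => (⟨σ (t : F) / t * β₀, hmove t,
      mul_ne_zero (div_ne_zero (sig_ne_zero hf t.ne_zero) t.ne_zero) hβ₁⟩ : ↥(B \ {0}))) hB0 (N := q - 1)
    fun t₀ => by
      have hmem : ∀ t : Fˣ, σ (t : F) / t * β₀ = σ (t₀ : F) / t₀ * β₀ →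
          σ ((t : F) / t₀) = (t : F) / t₀ := fun t ht => by
        have h1 := mul_right_cancel₀ hβ₁ ht
        rw [map_div₀]
        field_simp [t.ne_zero, t₀.ne_zero, sig_ne_zero hf t₀.ne_zero] at h1 ⊢
        linear_combination h1
      have hcard : Nat.card {k : fixedField σ // k ≠ 0} = q - 1 := by
        rw [← Nat.card_congr unitsEquivNeZero, Nat.card_units]
      rw [← hcard]
      refine Nat.card_le_card_of_injective (fun t => (⟨⟨(t.1 : F) / t₀, hmem t.1 (congrArg Subtype.val t.2)⟩,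
        fun h => div_ne_zero t.1.ne_zero t₀.ne_zero (congrArg Subtype.val h)⟩ : {k : fixedField σ // k ≠ 0})) ?_
      intro t t' h
      have h' : (t.1 : F) / t₀ = (t'.1 : F) / t₀ := congrArg (fun k => ((k.1 : fixedField σ) : F)) h
      exact Subtype.ext (Units.ext ((div_left_inj' t₀.ne_zero).1 h'))
  rw [Nat.card_units, card_F hf.ne_refl hf.involutive, ← hq] at h
  obtain ⟨s, hs⟩ : ∃ s, q = s + 2 := ⟨q - 2, by omega⟩
  rw [hs, show (s + 2) ^ 2 - 1 = (s + 1) * (s + 3) by
    rw [show (s + 2) ^ 2 = (s + 1) * (s + 3) + 1 by ring, Nat.add_sub_cancel],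
    show s + 2 - 1 = s + 1 by omega] at h
  nlinarith

/-- The weight at a point where transvections are missing. -/
theorem noncentre_bound (H : Subgroup (GL ι F)) (hS : sPar hf H p.xx ≠ anti σ) :
    iNorm (qn σ) (m + 2) ≤ (qn σ : ℤ) * (aIdx hf p H * dNum hf p H) * ((qn σ : ℤ) ^ 2 - 1) ∨
      (aIdx hf p H = 1 ∧ ∀ v ∈ wSp hf x y, v ∈ dPar hf p H) := by
  classical
  set q := qn σ with hqdef
  set a := aIdx hf p H with hadef
  set d := dNum hf p H with hddef
  set D := dPar hf p H with hDdef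
  have hq2 : 2 ≤ q := two_le_qn hf.ne_refl hf.involutive
  have hqz : (2 : ℤ) ≤ (q : ℤ) := by exact_mod_cast hq2
  have ha := aIdx_pos hf p H
  have hqd := pow_le_dNum hf p hm h3 H hS
  have hq2d : q ^ 2 < Nat.card D := lt_of_lt_of_le (Nat.pow_lt_pow_right hq2 (show 2 < m by omega)) hqd
  have hdM := dNum_mul hf p H
  rw [card_wSp hf p hm] at hdM
  have hdle : d ≤ q ^ (2 * m) := by rw [← hdM]; exact Nat.le_mul_of_pos_right _ Nat.card_pos
  have hq1 : 0 ≤ (q : ℤ) ^ 2 - 1 := by nlinarith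
  have hfull : ∀ z ∈ D, z ∈ wSp hf x y := fun z hz => dPar_sub hf p hz
  by_cases hdmax : d = q ^ (2 * m)
  · by_cases ha1 : a = 1
    · refine Or.inr ⟨ha1, fun v hv => ?_⟩
      by_contra hvD
      have h : Nat.card D < Nat.card (wSp hf x y) := by
        rw [← SetLike.coe_sort_coe D, ← SetLike.coe_sort_coe (wSp hf x y), Nat.card_coe_set_eq, Nat.card_coe_set_eq]
        exact Set.ncard_lt_ncard ⟨hfull, fun h => hvD (h hv)⟩ (Set.toFinite _)
      rw [card_wSp hf p hm] at h
      exact absurd hdmax (ne_of_lt h)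
    · left
      have h2 : 2 * ((q : ℤ) ^ (2 * m)) ≤ (a : ℤ) * d := by
        rw [hdmax]; push_cast
        exact mul_le_mul_of_nonneg_right (by exact_mod_cast (show 2 ≤ a by omega)) (by positivity)
      refine (double_full hqz h3).trans (mul_le_mul_of_nonneg_right ?_ hq1)
      rw [mul_comm 2 (q : ℤ), mul_assoc]
      exact mul_le_mul_of_nonneg_left h2 (by linarith)
  left
  by_cases hsing : ∀ v ∈ D, f v v = 0
  · obtain ⟨w, hw, hw0⟩ := exists_not_mem_span hf hq2d (0 : ι → F)
    have hw0' : w ≠ 0 := fun h => hw0 (by rw [h]; exact Submodule.zero_mem _)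
    rcases singular_dichotomy hf p hm h3 hfull hsing hw hw0' with hl | ⟨r, hr, hr0, hk⟩
    · exact absurd (card_le_of_line hf hl) (not_le.2 hq2d)
    · have h1 := cls_le hf p hm h3 H hr hr0 hk
      have h1' : ((cls hf x y (f r r)).ncard : ℤ) * (q + 1) + a ≤ (a : ℤ) * d := by exact_mod_cast h1
      rw [cls_eq_i hf p hm h3 (hsing r hr)] at h1'
      have hdm : d ≤ q ^ m := (Nat.pow_le_pow_iff_left two_ne_zero).1
        ((card_sq_le_of_singular hf (p.nondeg hf) hfull hsing).trans
          (le_of_eq (by rw [card_wSp hf p hm, mul_comm, pow_mul])))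
      exact many_iso hqz h3 (Int.natCast_nonneg a) (by linarith)
        (mul_le_mul_of_nonneg_left (by exact_mod_cast hdm) (Int.natCast_nonneg a))
  push Not at hsing
  obtain ⟨r₀, hr₀, hr₀₀⟩ := hsing
  by_cases hm4 : 4 ≤ m
  · by_cases hall : ∀ r ∈ D, f r r ≠ 0 → Nat.card (trSet f x y (D : Set (ι → F)) r) ≤ q
    · obtain ⟨d₁, hd₁, hd₁r⟩ := exists_not_mem_span hf hq2d r₀
      have hW := aniso_full hf p hm hm4 hfull hall hr₀ hr₀₀ hd₁ hd₁r
      exfalso
      apply hdmax
      rw [hddef, dNum, ← card_wSp hf p hm]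
      exact Nat.card_congr (Equiv.setCongr (Set.ext fun v => ⟨hfull v, hW v⟩))
    · push Not at hall
      obtain ⟨r, hr, hrr, hk⟩ := hall
      have h1 := cls_le hf p hm h3 H hr (fun h => hrr (by rw [h, zero_left hf])) (show q + 1 ≤ _ from hk)
      have h1' : ((cls hf x y (f r r)).ncard : ℤ) * (q + 1) + a ≤ (a : ℤ) * d := by exact_mod_cast h1
      rw [cls_eq_a hf p hm h3 hrr] at h1'
      refine (many_norm hqz h3).trans (mul_le_mul_of_nonneg_right (mul_le_mul_of_nonneg_left ?_ (by linarith)) hq1)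
      linarith
  obtain rfl : m = 3 := by omega
  obtain ⟨pp, k, hpp, hk, hqpk⟩ := exists_prime_pow_qn hf
  obtain ⟨b₀, B, hcount, hb₀⟩ := exists_classEq hf p hm h3 H
  rw [← hqdef, ← hadef, ← hddef] at hcount
  have hdvd : d ∣ pp ^ (k * (2 * 3)) := ⟨_, by rw [pow_mul, ← hqpk]; exact hdM.symm⟩
  obtain ⟨e, he, hde⟩ := (Nat.dvd_prime_pow hpp).1 hdvd
  have he3 : 3 * k ≤ e := by
    have h : pp ^ (k * 3) ≤ pp ^ e := by rw [pow_mul, ← hqpk, ← hde]; exact hqd
    have := (Nat.pow_le_pow_iff_right hpp.one_lt).1 h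
    omega
  have he6 : e < 6 * k := by
    rcases lt_or_eq_of_le he with h | h
    · omega
    · exact absurd (by rw [hde, h, pow_mul, ← hqpk]) hdmax
  obtain ⟨X, hX⟩ : ∃ X : ℕ, (X : ℤ) = ((q : ℤ) ^ 2 - 1) * b₀ + (q : ℤ) ^ 2 * B :=
    ⟨(q ^ 2 - 1) * b₀ + q ^ 2 * B, by push_cast [Nat.cast_sub (Nat.one_le_pow 2 q (by omega))]; ring⟩
  have hXnat : X + b₀ = q ^ 2 * (b₀ + B) := by
    have : (X : ℤ) + b₀ = (q : ℤ) ^ 2 * (b₀ + B) := by rw [hX]; ring
    exact_mod_cast this
  have hcz : (a : ℤ) * ((d : ℤ) - 1) = ((q : ℤ) ^ 3 + 1) * X := by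
    rw [hcount, hX, iNorm, aNorm]; norm_num; ring
  have hcn : a * (d - 1) = (q ^ 3 + 1) * X := by
    have hd1 : 1 ≤ d := dNum_pos hf p H
    zify [hd1]; exact hcz
  rcases five_bound hpp hk hqpk hde he3 he6 ha hXnat hcn with h | ⟨hd3, hb1⟩
  · have hz : (q : ℤ) ^ 6 + (q : ℤ) ^ 4 + q + 1 ≤ (a : ℤ) * d := by exact_mod_cast h
    have h1 := mul_le_mul_of_nonneg_right (mul_le_mul_of_nonneg_left hz (show (0 : ℤ) ≤ q by linarith)) hq1
    have hpos : 0 ≤ ((q : ℤ) - 1) * ((q : ℤ) ^ 2 - 1) := mul_nonneg (by linarith) hq1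
    rw [iNorm]
    norm_num
    linarith
  · exfalso
    have hD : ((dPar hf p H : Set (ι → F)) ∩ cls hf x y 0).Nonempty := by
      obtain ⟨w₀, hw₀, hw₀0, hw₀w⟩ := cls_zero_nonempty hf p hm h3
      have h := cnt_eq hf p hm h3 H hw₀ hw₀0
      rw [hw₀w, hb₀ w₀ hw₀ hw₀0 hw₀w, hb1, mul_one] at h
      have hne := (Set.ncard_pos (Set.toFinite _)).2 (cls_zero_nonempty hf p hm h3)
      exact (Set.ncard_pos (Set.toFinite _)).1 (Nat.pos_of_mul_pos_left (h ▸ hne))
    obtain ⟨w, hw, hwW, hw0, hww⟩ := hD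
    exact five_special hf p hm h3 rfl H hd3 hw hw0 hww (fun u hu hu0 huu => (hb₀ u hu hu0 huu).trans hb1)

/-- The weight at any point with non-trivial dual. -/
theorem centre_bound (H : Subgroup (GL ι F)) (hd : 2 ≤ dNum hf p H) :
    (qn σ : ℤ) ^ 2 * iNorm (qn σ) m ≤ ((qn σ : ℤ) ^ 2 - 1) * (aIdx hf p H * dNum hf p H) ∨
      ((qn σ : ℤ) = 2 ∧ Even m ∧ 4 * aNorm (qn σ) m ≤ 3 * (aIdx hf p H * dNum hf p H)) := by
  classical
  set q := qn σ with hqdef
  set a := aIdx hf p H with hadef
  set d := dNum hf p H with hddef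
  set D := dPar hf p H with hDdef
  have hq2 : 2 ≤ q := two_le_qn hf.ne_refl hf.involutive
  have hqz : (2 : ℤ) ≤ (q : ℤ) := by exact_mod_cast hq2
  have haz : (0 : ℤ) ≤ a := Int.natCast_nonneg a
  have hfull : ∀ z ∈ D, z ∈ wSp hf x y := fun z hz => dPar_sub hf p hz
  have hone : ∀ r ∈ D, r ≠ 0 → 1 ≤ Nat.card (trSet f x y (D : Set (ι → F)) r) := fun r _ _ => by
    haveI : Nonempty (trSet f x y (D : Set (ι → F)) r) := ⟨⟨_, self_mem_trSet⟩⟩
    exact Nat.card_pos
  refine centre_numeric hqz h3 ?_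
  by_cases hsing : ∀ v ∈ D, f v v = 0
  · obtain ⟨w, hw, hw0⟩ : ∃ w ∈ D, w ≠ 0 := by
      by_contra h
      push Not at h
      have h1 : D = ⊥ := (AddSubgroup.eq_bot_iff_forall D).2 h
      have : d = 1 := by rw [hddef, dNum, ← hDdef, h1, AddSubgroup.card_bot]
      omega
    rcases singular_dichotomy hf p hm h3 hfull hsing hw hw0 with hl | ⟨r, hr, hr0, hk⟩
    · have hdq : (d : ℤ) ≤ (q : ℤ) ^ 2 := by exact_mod_cast card_le_of_line hf hl
      have h1 := cls_le hf p hm h3 H hw hw0 (hone w hw hw0)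
      have h1' : ((cls hf x y (f w w)).ncard : ℤ) * 1 + a ≤ (a : ℤ) * d := by exact_mod_cast h1
      rw [cls_eq_i hf p hm h3 (hsing w hw)] at h1'
      refine Or.inr (Or.inr (Or.inr (Or.inl ?_)))
      have h2 := mul_le_mul_of_nonneg_left hdq haz
      have h3' := mul_le_mul_of_nonneg_left h1' (show (0 : ℤ) ≤ (q : ℤ) ^ 2 by positivity)
      linarith
    · have h1 := cls_le hf p hm h3 H hr hr0 (show 2 ≤ _ by exact le_trans (by omega) hk)
      have h1' : ((cls hf x y (f r r)).ncard : ℤ) * 2 + a ≤ (a : ℤ) * d := by exact_mod_cast h1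
      rw [cls_eq_i hf p hm h3 (hsing r hr)] at h1'
      exact Or.inr (Or.inr (Or.inl (by linarith)))
  push Not at hsing
  obtain ⟨r, hr, hrr⟩ := hsing
  have hr0 : r ≠ 0 := fun h => hrr (by rw [h, zero_left hf])
  by_cases hk : 2 ≤ Nat.card (trSet f x y (D : Set (ι → F)) r)
  · have h1 := cls_le hf p hm h3 H hr hr0 hk
    have h1' : ((cls hf x y (f r r)).ncard : ℤ) * 2 + a ≤ (a : ℤ) * d := by exact_mod_cast h1
    rw [cls_eq_a hf p hm h3 hrr] at h1'
    exact Or.inl (by linarith)
  have two : ∀ r' ∈ D, r' ≠ 0 → f r r ≠ f r' r' → ((cls hf x y (f r r)).ncard : ℤ) +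
      (cls hf x y (f r' r')).ncard + a ≤ (a : ℤ) * d := fun r' hr' hr0' hne => by
    exact_mod_cast cls_two_le hf p hm h3 H hr hr0 hr' hr0' hne
  by_cases hl : ∀ d' ∈ D, d' ∈ Submodule.span F {r}
  · by_cases hconst : ∀ d' ∈ D, d' ≠ 0 → f d' d' = f r r
    · have h4 : (d : ℤ) ≤ 4 := by exact_mod_cast card_le_four hf hr hrr hl hconst
      have h1 := cls_le hf p hm h3 H hr hr0 (hone r hr hr0)
      have h1' : ((cls hf x y (f r r)).ncard : ℤ) * 1 + a ≤ (a : ℤ) * d := by exact_mod_cast h1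
      rw [cls_eq_a hf p hm h3 hrr] at h1'
      refine Or.inr (Or.inr (Or.inr (Or.inr ?_)))
      have h2 := mul_le_mul_of_nonneg_left h4 haz
      linarith
    · push Not at hconst
      obtain ⟨r', hr', hr0', hne⟩ := hconst
      have h1' := two r' hr' hr0' (Ne.symm hne)
      have hr'r' : f r' r' ≠ 0 := by
        obtain ⟨c, hc⟩ := Submodule.mem_span_singleton.1 (hl r' hr')
        rw [← hc, hf.smul_left, Herm.smul_right hf, ← mul_assoc]
        have hc0 : c ≠ 0 := fun h => hr0' (by rw [← hc, h, zero_smul])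
        exact mul_ne_zero (mul_ne_zero hc0 (sig_ne_zero hf hc0)) hrr
      rw [cls_eq_a hf p hm h3 hrr, cls_eq_a hf p hm h3 hr'r'] at h1'
      exact Or.inl (by linarith)
  · push Not at hl
    obtain ⟨d₁, hd₁, hd₁r⟩ := hl
    obtain ⟨e, he, hee, -, he0, c, hc, hce⟩ := exists_iso_mem hf p hm h3 hfull (hfull r hr) hrr
      (inv_of_one hf p (show _ ≤ 1 by omega)) hd₁ hd₁r
    have hiso : f (c • e) (c • e) = 0 := by rw [hf.smul_left, Herm.smul_right hf, hee, mul_zero, mul_zero]
    have h1' := two (c • e) hce (smul_ne_zero hc he0) (by rw [hiso]; exact hrr)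
    rw [cls_eq_a hf p hm h3 hrr, cls_eq_i hf p hm h3 hiso] at h1'
    exact Or.inr (Or.inl (by linarith))

end Cfsg.Agent.UMin
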