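/-
The smallest index of a proper subgroup of the special unitary group.
-/
import Cfsg.Agent.Lib.UnitaryMinIndex.Weight
import Cfsg.Agent.Lib.UnitaryMinIndex.Points
import Cfsg.Agent.Lib.UnitaryMinIndex.Semireg

set_option autoImplicit false

namespace Cfsg.Agent.UMin

open Matrix Cfsg.Agent.Transvec Cfsg.Agent.Transvec.Herm Cfsg.Agent.UnitarySimple
open scoped Pointwise

variable {ι : Type} [Fintype ι] [DecidableEq ι] {F : Type*} [Field F]
variable {σ : F ≃+* F} {f : (ι → F) → (ι → F) → F} (hf : Geo.IsUnitaryForm σ f)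
include hf

/-- All transvections at x lie in H. -/
def IsCtr (H : Subgroup (GL ι F)) (x : ι → F) : Prop := ∀ c : F, σ c = -c → qel hf x 0 c ∈ H

theorem isCtr_smul {H : Subgroup (GL ι F)} {x : ι → F} (hx : f x x = 0) (h : IsCtr hf H x) (t : F) :
    IsCtr hf H (t • x) := fun c hc => by
  rw [qel_scale_zero hf hx]
  exact h _ (by rw [map_mul, map_mul, hf.involutive, hc]; ring)

theorem isCtr_map {H : Subgroup (GL ι F)} (hH : H ≤ sug f) {h : GL ι F} (hh : h ∈ H) {x : ι → F}
    (hx : f x x = 0) (hc : IsCtr hf H x) : IsCtr hf H (mv h x) := fun c hc' => by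
  have h1 := H.mul_mem (H.mul_mem hh (hc c hc')) (H.inv_mem hh)
  rwa [qel_conj hf hx (hH hh) (zero_left hf x), mv_zero] at h1

theorem isCtr_iff {H : Subgroup (GL ι F)} {x : ι → F} (hx : f x x = 0) :
    IsCtr hf H x ↔ sPar hf H hx = anti σ :=
  ⟨fun h => le_antisymm (fun _ hc => hc.1) (fun c hc => ⟨hc, h c hc⟩), fun h _ hc => (h.ge hc).2⟩

variable [Finite F] {m : ℕ} (hm : Fintype.card ι = m + 2) (h3 : 3 ≤ m)
include hm h3

/-- The number of isotropic points. -/
theorem isoPts_identity :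
    (Nat.card (isoPts f) : ℤ) * ((qn σ : ℤ) ^ 2 - 1) = iNorm (qn σ) (m + 2) := by
  have h := card_iso_sub hf (nondeg_top hf) (k := m + 1) (by rw [finrank_top, Module.finrank_pi, hm])
  have e : ({v : ι → F | v ∈ (⊤ : Submodule F (ι → F)) ∧ v ≠ 0 ∧ f v v = 0} : Set (ι → F)).ncard =
      Nat.card (isoPts f) * (qn σ ^ 2 - 1) := by
    rw [card_isoPts_mul hf, ← Nat.card_coe_set_eq]
    exact Nat.card_congr (Equiv.subtypeEquivRight fun v => by simp)
  rw [e] at h
  push_cast [Nat.cast_sub (Nat.one_le_pow 2 (qn σ) Nat.card_pos)] at h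
  rw [h, iNorm, show m + 2 - 1 = m + 1 by omega]

/-- H has complete middle part and trivial radical vectors at the pair. -/
def Full (H : Subgroup (GL ι F)) {x y : ι → F} (p : Pair f x y) : Prop :=
  aIdx hf p H = 1 ∧ ∀ v ∈ wSp hf x y, v ∈ dPar hf p H

theorem full_dNum {H : Subgroup (GL ι F)} {x y : ι → F} {p : Pair f x y} (h : Full hf H p) :
    dNum hf p H = qn σ ^ (2 * m) := by
  rw [← card_wSp hf p hm]
  exact Nat.card_congr (Equiv.setCongr (Set.ext fun v => ⟨fun hv => dPar_sub hf p hv, h.2 v⟩))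

theorem full_kern {H : Subgroup (GL ι F)} {x y : ι → F} {p : Pair f x y} (h : Full hf H p) :
    ∀ v ∈ kPar hf p H, v = 0 := by
  intro v hv
  have h1 := dNum_mul hf p H
  rw [full_dNum hf hm h3 h, ← card_wSp hf p hm] at h1
  have h2 : Nat.card (kPar hf p H) = 1 := Nat.eq_of_mul_eq_mul_left Nat.card_pos (h1.trans (mul_one _).symm)
  have h3 := AddSubgroup.card_eq_one.1 h2
  rw [h3] at hv
  exact AddSubgroup.mem_bot.1 hv

theorem full_lift {H : Subgroup (GL ι F)} {x y : ι → F} {p : Pair f x y} (h : Full hf H p)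
    (g : lev f x y) : g ∈ lPar hf p H := by
  rw [Subgroup.index_eq_one.1 h.1]
  exact Subgroup.mem_top g

section small

variable {H : Subgroup (GL ι F)} (hH : H ≤ sug f) (hsmall : H.relIndex (sug f) < Nat.card (isoPts f))
include hH hsmall

theorem noncentre_full {x y : ι → F} (p : Pair f x y) (hnc : ¬ IsCtr hf H x) :
    Full hf H p ∧ qn σ * qn σ ^ (2 * m) ≤ H.relIndex (pline f x) := by
  have hS : sPar hf H p.xx ≠ anti σ := fun h => hnc ((isCtr_iff hf p.xx).2 h)
  have h1 := le_relIndex_of_sPar hf p (by omega) H hS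
  have h2 := omega_le hf (by omega) (p.x_ne hf) p.xx hH
  rcases noncentre_bound hf p hm h3 H hS with h | h
  · exfalso
    rw [← isoPts_identity hf hm h3] at h
    have hq1 : (0 : ℤ) < (qn σ : ℤ) ^ 2 - 1 := by
      have : (2 : ℤ) ≤ qn σ := by exact_mod_cast two_le_qn hf.ne_refl hf.involutive
      nlinarith
    have h4 := le_of_mul_le_mul_right h hq1
    have h4' : Nat.card (isoPts f) ≤ qn σ * (aIdx hf p H * dNum hf p H) := by exact_mod_cast h4
    omega
  · have hF : Full hf H p := h
    refine ⟨hF, ?_⟩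
    rw [h.1, one_mul, full_dNum hf hm h3 hF] at h1
    exact h1

/-- There is no invariant totally isotropic subspace. -/
theorem no_invariant {W₀ : Submodule F (ι → F)} (hW0 : W₀ ≠ ⊥) (hiso : ∀ u ∈ W₀, ∀ v ∈ W₀, f u v = 0)
    (hinv : ∀ h ∈ H, ∀ w ∈ W₀, mv h w ∈ W₀) : False := by
  obtain ⟨w, hw, hw0⟩ := Submodule.exists_mem_ne_zero_of_ne_bot hW0
  obtain ⟨d, -, hwd, hdd⟩ := exists_partner hf (nondeg_top hf) Submodule.mem_top hw0 (hiso w hw w hw)
  have hdw : f d w = 1 := by rw [hf.herm, hwd, map_one]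
  have p : Pair f d w := ⟨hdd, hiso w hw w hw, hdw⟩
  have hnc : ¬ IsCtr hf H d := fun hc => by
    obtain ⟨t, ht0, ht⟩ := exists_anti hf.ne_refl hf.involutive
    have h1 := hinv _ (hc t ht) w hw
    rw [qel_zero hf hdd, mv_htv, hwd, mul_one] at h1
    have h2 : d ∈ W₀ := (W₀.smul_mem_iff ht0).1 ((W₀.add_mem_iff_right hw).1 h1)
    rw [hiso w hw d h2] at hwd
    exact zero_ne_one hwd
  obtain ⟨hF, -⟩ := noncentre_full hf hm h3 hH hsmall p hnc
  by_cases h1 : ∃ u ∈ W₀, u ≠ 0 ∧ f u d = 0
  · obtain ⟨u, hu, hu0, hud⟩ := h1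
    have huW : u ∈ wSp hf d w := (mem_wSp hf).2 ⟨(f_eq_zero_comm hf).1 hud, hiso w hw u hu⟩
    obtain ⟨u', hu', huu', hu'u'⟩ := exists_partner hf (p.nondeg hf) huW hu0 (hiso u hu u hu)
    obtain ⟨g, hg, hgu⟩ := exists_lev_iso hf p (by rw [p.finrank hf hm]; exact h3) huW hu' hu0
      (fun h => by rw [h, zero_right hf] at huu'; exact zero_ne_one huu') (hiso u hu u hu) hu'u'
    obtain ⟨v, hv, c, hc, hH'⟩ := full_lift hf hm h3 hF ⟨g, hg⟩
    have h2 := hinv _ hH' u hu
    rw [mv_mul, hgu, mv_qel hf hdd (p.left_x hf hv), p.left_x hf hu', zero_smul, mul_zero, zero_sub,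
      add_zero] at h2
    have h3' := hiso _ h2 u hu
    rw [hf.add_left, hf.smul_left, (f_eq_zero_comm hf).1 hud, mul_zero, add_zero, hf.herm u' u, huu',
      map_one] at h3'
    exact one_ne_zero h3'
  push Not at h1
  have hline : ∀ u ∈ W₀, u = f u d • w := fun u hu => by
    by_contra h
    refine h1 _ (W₀.sub_mem hu (W₀.smul_mem (f u d) hw)) (sub_ne_zero.2 h) ?_
    rw [Herm.sub_left hf, hf.smul_left, hwd, mul_one, sub_self]
  have horb : Nat.card (ptOrbit hw0 H) ≤ 1 := by
    rw [Finite.card_le_one_iff_subsingleton]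
    refine ⟨fun P Q => ?_⟩
    obtain ⟨-, a, rfl⟩ := P
    obtain ⟨-, b, rfl⟩ := Q
    refine Subtype.ext ?_
    have ha := hline _ (hinv _ a.2 w hw)
    have hb := hline _ (hinv _ b.2 w hw)
    have hfa : f (mv (a : GL ι F) w) d ≠ 0 := fun h0 => hw0 (mv_inj (a : GL ι F) (by
      rw [ha, h0, zero_smul, mv_zero]))
    show ptImage hw0 (a : GL ι F) = ptImage hw0 (b : GL ι F)
    rw [ptImage, ptImage, Projectivization.mk_eq_mk_iff']
    refine ⟨f (mv (a : GL ι F) w) d / f (mv (b : GL ι F) w) d, ?_⟩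
    have hfb : f (mv (b : GL ι F) w) d ≠ 0 := fun h0 => hw0 (mv_inj (b : GL ι F) (by
      rw [hb, h0, zero_smul, mv_zero]))
    calc _ = (f (mv (a : GL ι F) w) d / f (mv (b : GL ι F) w) d) • (f (mv (b : GL ι F) w) d • w) :=
          congrArg _ hb
      _ = f (mv (a : GL ι F) w) d • w := by rw [smul_smul, div_mul_cancel₀ _ hfb]
      _ = _ := ha.symm
  have h2 := omega_mul hf (by omega) hw0 (hiso w hw w hw) hH
  have h3' : 1 ≤ H.relIndex (pline f w) := Nat.pos_of_ne_zero Subgroup.index_ne_zero_of_finite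
  have h4 := Nat.mul_le_mul_right (Nat.card (isoPts f)) h3'
  have h5 := Nat.mul_le_mul_right (H.relIndex (sug f)) horb
  omega

/-- A point whose radical lies in H forces H to be everything. -/
theorem full_centre {x : ι → F} (hx0 : x ≠ 0) (hxx : f x x = 0) (hc : IsCtr hf H x)
    (hQ : ∀ {y : ι → F} (p : Pair f x y), ∀ v ∈ wSp hf x y, v ∈ kPar hf p H) : sug f ≤ H := by
  obtain ⟨h, hh, hxh⟩ : ∃ h ∈ H, f x (mv h x) ≠ 0 := by
    by_contra hcon
    push Not at hcon
    let S : Submodule F (ι → F) := Submodule.span F (Set.range fun h : H => mv (h : GL ι F) x)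
    refine no_invariant hf hm h3 hH hsmall (W₀ := S) (fun h => hx0 ?_) ?_ ?_
    · have : x ∈ S := Submodule.subset_span ⟨1, mv_one x⟩
      rwa [h, Submodule.mem_bot] at this
    · intro u hu v hv
      induction hu using Submodule.span_induction with
      | mem u hu =>
        obtain ⟨a, rfl⟩ := hu
        induction hv using Submodule.span_induction with
        | mem v hv =>
          obtain ⟨b, rfl⟩ := hv
          have := hcon ((a : GL ι F)⁻¹ * b) (H.mul_mem (H.inv_mem a.2) b.2)
          rwa [← f_mv (hH a.2), ← mv_mul, mul_inv_cancel_left] at this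
        | zero => exact zero_right hf _
        | add a b _ _ ha hb => rw [Herm.add_right hf, ha, hb, add_zero]
        | smul c a _ ha => rw [Herm.smul_right hf, ha, mul_zero]
      | zero => exact zero_left hf _
      | add a b _ _ ha hb => rw [hf.add_left, ha, hb, add_zero]
      | smul c a _ ha => rw [hf.smul_left, ha, mul_zero]
    · intro h hh w hw
      induction hw using Submodule.span_induction with
      | mem u hu =>
        obtain ⟨a, rfl⟩ := hu
        exact Submodule.subset_span ⟨⟨h * a, H.mul_mem hh a.2⟩, mv_mul h a x⟩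
      | zero => rw [mv_zero]; exact S.zero_mem
      | add a b _ _ ha hb => rw [mv_add]; exact S.add_mem ha hb
      | smul c a _ ha => rw [mv_smul]; exact S.smul_mem c ha
  set x' := mv h x
  have hx'x' : f x' x' = 0 := (f_mv (hH hh) x x).trans hxx
  set y := σ (f x x')⁻¹ • x' with hy
  have p : Pair f x y := ⟨hxx, by rw [hy, hf.smul_left, Herm.smul_right hf, hx'x', mul_zero, mul_zero], by
    rw [hy, Herm.smul_right hf, hf.involutive, inv_mul_cancel₀ hxh]⟩
  have hyc : IsCtr hf H y := isCtr_smul hf hx'x' (isCtr_map hf hH hh hxx hc) _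
  have hpart : ∀ {z : ι → F}, Pair f x z → IsCtr hf H z := by
    intro z p'
    set v := z - f z y • x - f z x • y with hv'
    have hzx : f z x = 1 := p'.yx hf
    have hv : v ∈ wSp hf x y := p.proj_mem hf z
    obtain ⟨-, l₀, hl₀, hl₀H⟩ := hQ p v hv
    have he : z = y + v + f z y • x := by rw [hv', hzx, one_smul]; abel
    have hl : f z y + σ (f z y) + f v v = 0 := by
      have h := p'.yy
      generalize hL : f z y = L at he ⊢
      rw [he] at h
      simp only [hf.add_left, Herm.add_right hf, hf.smul_left, Herm.smul_right hf, p.xx, p.yy, p.xy, p.yx hf,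
        p.left_x hf hv, p.left_y hf hv, p.right_x hf hv, p.right_y hf hv] at h
      linear_combination h
    have hmem : qel hf x v (f z y) ∈ H := by
      have h1 := H.mul_mem (hc (f z y - l₀) (by rw [map_sub]; linear_combination hl - hl₀)) hl₀H
      rwa [qel_mul hf hxx (zero_left hf x) (p.left_x hf hv), zero_add, zero_right hf, sub_zero, sub_add_cancel] at h1
    have h2 := isCtr_map hf hH hmem p.yy hyc
    rwa [qel_y hf p hv, ← he] at h2
  have hnon : ∀ {z : ι → F}, f z z = 0 → f x z ≠ 0 → IsCtr hf H z := by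
    intro z hzz hxz
    have h1 := isCtr_smul hf (x := σ (f x z)⁻¹ • z)
      (by rw [hf.smul_left, Herm.smul_right hf, hzz, mul_zero, mul_zero])
      (hpart ⟨hxx, by rw [hf.smul_left, Herm.smul_right hf, hzz, mul_zero, mul_zero], by
        rw [Herm.smul_right hf, hf.involutive, inv_mul_cancel₀ hxz]⟩) (σ (f x z))
    rwa [smul_smul, ← map_mul, mul_inv_cancel₀ hxz, map_one, one_smul] at h1
  have hall : ∀ {z : ι → F}, f z z = 0 → IsCtr hf H z := by
    intro z hzz
    by_cases hxz : f x z = 0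
    swap
    · exact hnon hzz hxz
    by_cases hk : ∃ k : F, z = k • x
    · obtain ⟨k, rfl⟩ := hk
      exact isCtr_smul hf hxx hc k
    push Not at hk
    obtain ⟨φ, hφx, hφz⟩ := exists_dual_pair hf hk hx0 1 1
    obtain ⟨d, -, hdf⟩ := exists_rep hf (nondeg_top hf) φ
    have hxd : f x d = 1 := by rw [← hdf x Submodule.mem_top, hφx]
    have hzd : f z d = 1 := by rw [← hdf z Submodule.mem_top, hφz]
    obtain ⟨b, hb⟩ := exists_trace hf.ne_refl hf.involutive (-f d d) (by rw [map_neg, self_fixed hf])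
    set v := d + b • x with hv
    have hzx : f z x = 0 := (f_eq_zero_comm hf).1 hxz
    have hxv : f x v = 1 := by rw [hv, Herm.add_right hf, Herm.smul_right hf, hxx, mul_zero, add_zero, hxd]
    have hzv : f z v = 1 := by rw [hv, Herm.add_right hf, Herm.smul_right hf, hzx, mul_zero, add_zero, hzd]
    have hvv : f v v = 0 := by
      have hdx : f d x = 1 := by rw [hf.herm, hxd, map_one]
      simp only [hv, hf.add_left, Herm.add_right hf, hf.smul_left, Herm.smul_right hf, hxx, hxd, hdx]
      linear_combination hb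
    have hvc : IsCtr hf H v := hnon hvv (by rw [hxv]; exact one_ne_zero)
    obtain ⟨t, ht0, ht⟩ := exists_anti hf.ne_refl hf.involutive
    set g := qel hf v 0 t
    have hg : g ∈ H := hvc t ht
    have hgz : f x (mv g z) ≠ 0 := by
      show f x (mv (qel hf v 0 t) z) ≠ 0
      rw [qel_zero hf hvv, mv_htv, Herm.add_right hf, Herm.smul_right hf, hxz, hzv, hxv, zero_add, mul_one,
        mul_one]
      exact sig_ne_zero hf ht0
    have h1 := isCtr_map hf hH (H.inv_mem hg) ((f_mv (hH hg) z z).trans hzz)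
      (hnon ((f_mv (hH hg) z z).trans hzz) hgz)
    rwa [mv_inv_mv] at h1
  exact UnitaryGen.su_le_all hf (by omega) (fun h => by omega) fun z hz c hc => by
    rw [← qel_zero hf hz]; exact hall hz c hc

/-- A subgroup of small index is everything, or q = 2 and its index is large. -/
theorem small_cases : sug f ≤ H ∨
    (qn σ = 2 ∧ Even m ∧ 2 ^ (m + 1) * (2 ^ (m + 2) - 1) ≤ 3 * H.relIndex (sug f)) := by
  by_cases hall : ∀ x : ι → F, x ≠ 0 → f x x = 0 → IsCtr hf H x
  · refine Or.inl (UnitaryGen.su_le_all hf (by omega) (fun h => by omega) fun z hz c hc => ?_)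
    rw [← qel_zero hf hz]
    rcases eq_or_ne z 0 with rfl | hz0
    · rw [qel_zero hf hz]
      convert H.one_mem
      exact ext_mv fun v => by rw [mv_htv, zero_right hf, mul_zero, zero_smul, add_zero, mv_one]
    · exact hall z hz0 hz c hc
  push Not at hall
  obtain ⟨y, hy0, hyy, hync⟩ := hall
  obtain ⟨y', -, hyy', hy'y'⟩ := exists_partner hf (nondeg_top hf) Submodule.mem_top hy0 hyy
  have py : Pair f y y' := ⟨hyy, hy'y', hyy'⟩
  obtain ⟨hyF, hyM⟩ := noncentre_full hf hm h3 hH hsmall py hync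
  have hq := two_le_qn hf.ne_refl hf.involutive
  have hqz : (2 : ℤ) ≤ (qn σ : ℤ) := by exact_mod_cast hq
  have hq1 : (0 : ℤ) < (qn σ : ℤ) ^ 2 - 1 := by nlinarith
  have hid := isoPts_identity hf hm h3
  have hNd := iNorm_identity hqz h3
  by_cases hctr : ∃ x : ι → F, x ≠ 0 ∧ f x x = 0 ∧ IsCtr hf H x
  · obtain ⟨x, hx0, hxx, hxc⟩ := hctr
    have hne : ¬ ∃ h ∈ H, ∃ t : F, t ≠ 0 ∧ mv h x = t • y := by
      rintro ⟨h, hh, t, ht, he⟩
      have h1 := isCtr_smul hf ((f_mv (hH hh) x x).trans hxx) (isCtr_map hf hH hh hxx hxc) t⁻¹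
      rw [he, smul_smul, inv_mul_cancel₀ ht, one_smul] at h1
      exact hync h1
    have hsum := omega_add hf (by omega) hx0 hy0 hxx hyy hH hne
    by_cases hd : ∀ {y : ι → F} (p : Pair f x y), dNum hf p H = 1
    · refine Or.inl (full_centre hf hm h3 hH hsmall hx0 hxx hxc fun p v hv => ?_)
      by_contra hvK
      have h1 := dNum_mul hf p H
      rw [hd p, one_mul, ← SetLike.coe_sort_coe, ← SetLike.coe_sort_coe (wSp hf x _), Nat.card_coe_set_eq,
        Nat.card_coe_set_eq] at h1
      exact absurd h1 (ne_of_lt (Set.ncard_lt_ncard ⟨fun u hu => hu.1, fun h => hvK (h hv)⟩ (Set.toFinite _)))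
    push Not at hd
    obtain ⟨x', p, hp⟩ := hd
    have hd2 : 2 ≤ dNum hf p H := by have := dNum_pos hf p H; omega
    have hz : zIdx hf H p.xx = 1 := by
      rw [zIdx, (isCtr_iff hf p.xx).1 hxc, AddSubgroup.relIndex_self]
    have had : aIdx hf p H * dNum hf p H ≤ H.relIndex (pline f x) := by
      have h1 := relIndex_pline hf p (by omega) H
      rw [hz, mul_one] at h1
      have hT : Nat.card (tMul f H x) ≤ qn σ ^ 2 - 1 := by
        rw [← card_F hf.ne_refl hf.involutive, ← Nat.card_units]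
        exact Nat.card_le_card_of_injective _ Subtype.val_injective
      refine Nat.le_of_mul_le_mul_left ?_ (show 0 < qn σ ^ 2 - 1 by
        have := Nat.one_lt_pow two_ne_zero (show 1 < qn σ by omega); omega)
      rw [← h1, mul_comm (qn σ ^ 2 - 1)]
      exact Nat.mul_le_mul_left _ hT
    have hadz : ((aIdx hf p H : ℤ) * dNum hf p H) ≤ H.relIndex (pline f x) := by exact_mod_cast had
    have hyz : (qn σ : ℤ) * (qn σ : ℤ) ^ (2 * m) ≤ H.relIndex (pline f y) := by exact_mod_cast hyM
    have hsz : (H.relIndex (pline f x) : ℤ) + H.relIndex (pline f y) ≤ H.relIndex (sug f) := by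
      exact_mod_cast hsum
    rcases centre_bound hf p hm h3 H hd2 with h | ⟨hq2, hev, h⟩
    · exfalso
      have h1 : ((qn σ : ℤ) ^ 2 - 1) * ((Nat.card (isoPts f) : ℤ) - 1) ≤
          ((qn σ : ℤ) ^ 2 - 1) * H.relIndex (sug f) := by
        have h2 := mul_le_mul_of_nonneg_left (le_trans (add_le_add hadz hyz) hsz) hq1.le
        linarith [hid.trans hNd]
      have h2 := le_of_mul_le_mul_left h1 hq1
      have hN : Nat.card (isoPts f) = H.relIndex (sug f) + 1 := by omega
      have h4 := omega_mul hf (show 4 ≤ Fintype.card ι by omega) hx0 hxx hH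
      rw [hN] at h4
      have hdvd : H.relIndex (sug f) ∣ H.relIndex (pline f x) :=
        (Nat.coprime_self_add_right.2 (Nat.coprime_one_right _)).dvd_of_dvd_mul_right
          ⟨Nat.card (ptOrbit hx0 H), by rw [h4, mul_comm]⟩
      have hpos : 0 < H.relIndex (pline f x) := Nat.pos_of_ne_zero Subgroup.index_ne_zero_of_finite
      have h5 := Nat.le_of_dvd hpos hdvd
      have h6 : 0 < qn σ * qn σ ^ (2 * m) := by positivity
      omega
    · right
      have hq2' : qn σ = 2 := by exact_mod_cast hq2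
      refine ⟨hq2', hev, ?_⟩
      rw [hq2] at h hyz
      have hM : (2 : ℤ) * 2 ^ (2 * m) * 3 + 4 * aNorm 2 m = 2 ^ (m + 1) * (2 ^ (m + 2) - 1) := by
        obtain ⟨k, rfl⟩ : ∃ k, m = k + 1 := ⟨m - 1, by omega⟩
        rw [aNorm, hev.neg_one_pow, Nat.add_sub_cancel, two_mul, pow_add, pow_add, pow_add, pow_add, pow_add]
        ring
      have h1 : (2 : ℤ) ^ (m + 1) * (2 ^ (m + 2) - 1) ≤ 3 * (H.relIndex (sug f) : ℤ) := by linarith
      have h2 : ((2 ^ (m + 1) * (2 ^ (m + 2) - 1) : ℕ) : ℤ) ≤ ((3 * H.relIndex (sug f) : ℕ) : ℤ) := by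
        push_cast [Nat.cast_sub (Nat.one_le_two_pow (n := m + 2))]
        exact h1
      exact_mod_cast h2
  push Not at hctr
  exfalso
  -- all points are of the same type and in one orbit
  have hF : ∀ {x y : ι → F} (p : Pair f x y), Full hf H p := fun p =>
    (noncentre_full hf hm h3 hH hsmall p (hctr _ (p.x_ne hf) p.xx)).1
  have hrel : ∀ x : ι → F, x ≠ 0 → f x x = 0 → qn σ * qn σ ^ (2 * m) ≤ H.relIndex (pline f x) := by
    intro x hx0 hxx
    obtain ⟨x', -, hxx', hx'x'⟩ := exists_partner hf (nondeg_top hf) Submodule.mem_top hx0 hxx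
    exact (noncentre_full hf hm h3 hH hsmall ⟨hxx, hx'x', hxx'⟩ (hctr x hx0 hxx)).2
  have htrans : ∀ x z : ι → F, x ≠ 0 → z ≠ 0 → f x x = 0 → f z z = 0 →
      ∃ h ∈ H, ∃ t : F, t ≠ 0 ∧ mv h x = t • z := by
    intro x z hx hz hxx hzz
    by_contra hne
    have h1 := omega_add hf (show 4 ≤ Fintype.card ι by omega) hx hz hxx hzz hH hne
    have h2 := hrel x hx hxx
    have h4 := hrel z hz hzz
    have h5 : (Nat.card (isoPts f) : ℤ) ≤ H.relIndex (sug f) := by
      refine le_of_mul_le_mul_right ?_ hq1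
      rw [hid]
      refine (double_full hqz h3).trans (mul_le_mul_of_nonneg_right ?_ hq1.le)
      have h6 : 2 * (qn σ * qn σ ^ (2 * m)) ≤ H.relIndex (sug f) := by omega
      rw [mul_assoc]
      exact_mod_cast h6
    omega
  refine semi_false hf hm h3 (H := H) ⟨?_, fun p => full_kern hf hm h3 (hF p), fun p g => full_lift hf hm h3 (hF p) g⟩
  intro z hz0 hzz c hc hcH
  by_contra hc0
  -- then every point has a non-trivial transvection in H
  have hev : ∀ u : ι → F, u ≠ 0 → f u u = 0 → ∃ a : F, σ a = -a ∧ a ≠ 0 ∧ qel hf u 0 a ∈ H := by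
    intro u hu huu
    obtain ⟨h, hh, t, ht, he⟩ := htrans z u hz0 hu hzz huu
    refine ⟨t * σ t * c, by rw [map_mul, map_mul, hf.involutive, hc]; ring,
      mul_ne_zero (mul_ne_zero ht (sig_ne_zero hf ht)) hc0, ?_⟩
    have h1 := H.mul_mem (H.mul_mem hh hcH) (H.inv_mem hh)
    rwa [qel_conj hf hzz (hH hh) (zero_left hf z), mv_zero, he, qel_scale_zero hf huu] at h1
  obtain ⟨x, x', w, p, hw, hw0, hww⟩ := exists_pair_and_iso hf hm h3
  have hwx := p.left_x hf hw
  have huu : ∀ e : F, f (w + e • x) (w + e • x) = 0 := fun e => by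
    simp only [hf.add_left, Herm.add_right hf, hf.smul_left, Herm.smul_right hf, hww, hwx, p.right_x hf hw, p.xx,
      mul_zero, add_zero]
  have hu0 : ∀ e : F, w + e • x ≠ 0 := fun e h0 => hw0 (by
    have h3 := congrArg (fun v => f v x') h0
    simp only [hf.add_left, hf.smul_left, p.left_y hf hw, p.xy, mul_one, zero_add, zero_left hf] at h3
    rwa [h3, zero_smul, add_zero] at h0)
  choose a ha ha0 haH using fun e => hev _ (hu0 e) (huu e)
  obtain ⟨e, e', hee, he⟩ : ∃ e e', e ≠ e' ∧ a e = a e' := by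
    by_contra h
    push Not at h
    have h1 := Nat.card_le_card_of_injective (fun e => (⟨a e, ha e⟩ : anti σ))
      (fun e e' heq => by_contra fun hne => h e e' hne (congrArg Subtype.val heq))
    rw [card_anti hf.ne_refl hf.involutive, card_F hf.ne_refl hf.involutive] at h1
    have : qn σ * 2 ≤ qn σ * qn σ := Nat.mul_le_mul_left _ hq
    rw [pow_two] at h1
    omega
  have h1 := H.mul_mem (haH e) (H.inv_mem (haH e'))
  rw [← he] at h1
  set b := a e
  set vv := (σ (e - e') * b) • w with hvv'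
  set L := b * (σ e * e) - b * (σ e' * e') with hL
  have hvvx : f vv x = 0 := by rw [hvv', hf.smul_left, hwx, mul_zero]
  have heq : qel hf (w + e • x) 0 b = qel hf x vv L * qel hf (w + e' • x) 0 b := by
    refine ext_mv fun v => ?_
    rw [mv_mul, qel_zero hf (huu e), qel_zero hf (huu e'), mv_qel hf p.xx hvvx, mv_htv, mv_htv]
    simp only [hvv', hL, hf.add_left, Herm.add_right hf, hf.smul_left, Herm.smul_right hf, hww, hwx, p.right_x hf hw,
      p.xx, map_mul, map_sub, hf.involutive, show σ b = -b from ha e, mul_zero, add_zero]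
    module
  rw [heq, mul_inv_cancel_right] at h1
  have hk : vv ∈ kPar hf p H := by
    refine ⟨(wSp hf x x').smul_mem _ hw, L, ?_, h1⟩
    simp only [hvv', hL, hf.smul_left, Herm.smul_right hf, hww, map_sub, map_mul, hf.involutive,
      show σ b = -b from ha e]
    ring
  have h2 := full_kern hf hm h3 (hF p) vv hk
  rw [hvv', smul_eq_zero, mul_eq_zero, map_eq_zero_iff σ σ.injective, sub_eq_zero] at h2
  rcases h2 with (h2 | h2) | h2
  · exact hee h2
  · exact ha0 e h2
  · exact hw0 h2

end small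

/-- The index of a proper subgroup of the special unitary group. -/
theorem index_bound {H : Subgroup (GL ι F)} (hH : H ≤ sug f) (hne : H ≠ sug f) :
    Nat.card (isoPts f) ≤ H.relIndex (sug f) ∨
      (qn σ = 2 ∧ Even m ∧ 2 ^ (m + 1) * (2 ^ (m + 2) - 1) ≤ 3 * H.relIndex (sug f)) := by
  by_cases hsmall : H.relIndex (sug f) < Nat.card (isoPts f)
  · rcases small_cases hf hm h3 hH hsmall with h | h
    · exact absurd (le_antisymm hH h) hne
    · exact Or.inr h
  · exact Or.inl (not_lt.1 hsmall)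

end Cfsg.Agent.UMin
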