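/-
The smallest index of a proper subgroup of PSU, and the point stabilisers attaining it.
-/
import Cfsg.Agent.Lib.UnitaryMinIndex.Global
import Cfsg.Agent.Lib.Classical.UnitaryStd

set_option autoImplicit false

namespace Cfsg.Agent.UMin

open Matrix Cfsg.Agent.Transvec Cfsg.Agent.Transvec.Herm Cfsg.Agent.UnitarySimple
open scoped LinearAlgebra.Projectivization

section forms

variable {ι : Type} [Fintype ι] [DecidableEq ι] {F : Type*} [Field F] [Finite F]
variable {σ : F ≃+* F} {f : (ι → F) → (ι → F) → F} (hf : Geo.IsUnitaryForm σ f)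
variable (h4 : 4 ≤ Fintype.card ι)
include hf h4

omit h4 in
/-- A central element fixes every isotropic point. -/
theorem central_iso {g : GL ι F} (hg : g ∈ sug f) (hc : ∀ h ∈ sug f, h * g = g * h) {x : ι → F} (hx0 : x ≠ 0)
    (hxx : f x x = 0) : ∃ t : F, t ≠ 0 ∧ mv g x = t • x := by
  obtain ⟨y, -, hxy, -⟩ := exists_partner hf (nondeg_top hf) Submodule.mem_top hx0 hxx
  obtain ⟨c, hc0, hcσ⟩ := exists_anti hf.ne_refl hf.involutive
  have h := congrArg (fun a => mv a y)
    (show qel hf (mv g x) (mv g 0) c = qel hf x 0 c by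
      rw [← qel_conj hf hxx hg (zero_left hf x), ← hc _ (qel_mem hf hxx (zero_left hf x) (by
        rw [hcσ, zero_left hf]; ring)), mul_inv_cancel_right])
  rw [mv_zero, qel_zero hf ((f_mv hg x x).trans hxx), qel_zero hf hxx] at h
  simp only [mv_htv, add_right_inj, hf.herm y x, hxy, map_one, mul_one] at h
  have hgx : mv g x ≠ 0 := fun h0 => hx0 (mv_inj g (h0.trans (mv_zero g).symm))
  have hk : c * f y (mv g x) ≠ 0 := fun h0 => by
    rw [h0, zero_smul, eq_comm, smul_eq_zero] at h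
    exact h.elim hc0 hx0
  refine ⟨(c * f y (mv g x))⁻¹ * c, mul_ne_zero (inv_ne_zero hk) hc0, ?_⟩
  rw [mul_smul, ← h, smul_smul, inv_mul_cancel₀ hk, one_smul]

omit h4 in
/-- A central element fixes every anisotropic point. -/
theorem central_aniso {g : GL ι F} (hg : g ∈ sug f) (hc : ∀ h ∈ sug f, h * g = g * h)
    (h2 : 2 ≤ Fintype.card ι) {r : ι → F} (hrr : f r r ≠ 0) : ∃ t : F, t ≠ 0 ∧ mv g r = t • r := by
  obtain ⟨b, hb⟩ := exists_trace hf.ne_refl hf.involutive (f r r) (self_fixed hf r)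
  have hb0 : b ≠ 0 := fun h => hrr (by rw [← hb, h, map_zero, add_zero])
  obtain ⟨e, -, d, -, hee, hdd, hed, rfl⟩ := exists_norm_pair hf (nondeg_top hf)
    (by rw [finrank_top, Module.finrank_pi]; exact h2) Submodule.mem_top hrr hb hb0
  have p : Pair f e d := ⟨hee, hdd, hed⟩
  obtain ⟨η, hη0, hη⟩ := exists_anti hf.ne_refl hf.involutive
  have hiso : f (e + η • d) (e + η • d) = 0 := by
    simp only [hf.add_left, Herm.add_right hf, hf.smul_left, Herm.smul_right hf, hee, hdd, hed, p.yx hf, hη]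
    ring
  have hne : e + η • d ≠ 0 := fun h0 => by
    have h1 := congrArg (fun v => f v d) h0
    simp only [hf.add_left, hf.smul_left, hed, hdd, mul_zero, add_zero, zero_left hf] at h1
    exact one_ne_zero h1
  obtain ⟨te, hte, he⟩ := central_iso hf hg hc (p.x_ne hf) hee
  obtain ⟨td, htd, hd⟩ := central_iso hf hg hc (p.y_ne hf) hdd
  obtain ⟨t, ht, ht'⟩ := central_iso hf hg hc hne hiso
  rw [mv_add, mv_smul, he, hd] at ht'
  have h1 := congrArg (fun v => f v d) ht'
  have h2' := congrArg (fun v => f v e) ht'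
  simp only [hf.add_left, hf.smul_left, hed, hdd, hee, p.yx hf, mul_zero, mul_one, add_zero, zero_add] at h1 h2'
  have h3 : td = t := mul_left_cancel₀ hη0 (by linear_combination h2')
  refine ⟨t, ht, ?_⟩
  rw [mv_add, mv_smul, he, hd, h1, h3]
  module

/-- The anisotropic points. -/
def anisoPts (f : (ι → F) → (ι → F) → F) : Set (ℙ F (ι → F)) := {P | f P.rep P.rep ≠ 0}

theorem card_anisoPts (hq : qn σ = 2) {m : ℕ} (hm : Fintype.card ι = m + 2) :
    (Nat.card (anisoPts f) : ℤ) * 3 = 2 ^ (m + 1) * (2 ^ (m + 2) - (-1) ^ (m + 2)) ∧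
      ∀ (r : ι → F) (hr0 : r ≠ 0), f r r ≠ 0 → Nat.card (ptOrbit hr0 (sug f)) = Nat.card (anisoPts f) := by
  have hfix : ∀ a : F, σ a = a → a ≠ 0 → a = 1 := by
    intro a ha ha0
    by_contra ha1
    have hsub : ({0, 1, a} : Set F) ⊆ (fixedField σ : Set F) := by
      rintro b (rfl | rfl | rfl)
      · exact map_zero σ
      · exact map_one σ
      · exact ha
    have h := Set.ncard_le_ncard hsub (Set.toFinite _)
    rw [Set.ncard_insert_of_notMem (by simp [Ne.symm ha0]), Set.ncard_pair (Ne.symm ha1),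
      ← Nat.card_coe_set_eq] at h
    change 2 + 1 ≤ qn σ at h
    omega
  have hone : ∀ v : ι → F, f v v ≠ 0 → f v v = 1 := fun v hv => hfix _ (self_fixed hf v) hv
  have hsm : ∀ (a : F) (v : ι → F), a ≠ 0 → f v v ≠ 0 → f (a • v) (a • v) ≠ 0 := fun a v ha hv => by
    rw [hf.smul_left, Herm.smul_right hf]
    exact mul_ne_zero ha (mul_ne_zero (sig_ne_zero hf ha) hv)
  refine ⟨?_, fun r hr0 hrr => ?_⟩
  · have hc : Nat.card (anisoPts f) * 3 =
        ({v : ι → F | v ∈ (⊤ : Submodule F (ι → F)) ∧ v ≠ 0 ∧ f v v = 1} : Set (ι → F)).ncard := by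
      rw [show 3 = Nat.card Fˣ by rw [Nat.card_units, card_F hf.ne_refl hf.involutive, hq]; rfl,
        ← Nat.card_prod, ← Nat.card_coe_set_eq]
      refine Nat.card_congr (Equiv.ofBijective
        (fun z : anisoPts f × Fˣ => (⟨(z.2 : F) • z.1.1.rep, Submodule.mem_top,
          smul_ne_zero z.2.ne_zero z.1.1.rep_nonzero, hone _ (hsm _ _ z.2.ne_zero z.1.2)⟩ :
          ↥({v : ι → F | v ∈ (⊤ : Submodule F (ι → F)) ∧ v ≠ 0 ∧ f v v = 1} : Set (ι → F)))) ⟨?_, ?_⟩)
      · rintro ⟨P, a⟩ ⟨P', b⟩ h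
        have h' : (a : F) • P.1.rep = (b : F) • P'.1.rep := congrArg Subtype.val h
        have hp : P.1 = P'.1 := by
          rw [← P.1.mk_rep, ← P'.1.mk_rep, Projectivization.mk_eq_mk_iff']
          exact ⟨(a : F)⁻¹ * b, by rw [mul_smul, ← h', smul_smul, inv_mul_cancel₀ a.ne_zero, one_smul]⟩
        obtain rfl := Subtype.ext hp
        exact Prod.ext rfl (Units.ext (smul_left_injective _ P.1.rep_nonzero h'))
      · rintro ⟨v, -, hv, hvv⟩
        obtain ⟨a, ha⟩ := Projectivization.exists_smul_eq_mk_rep F v hv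
        refine ⟨(⟨Projectivization.mk F v hv, ?_⟩, a⁻¹), Subtype.ext ?_⟩
        · show f _ _ ≠ 0
          rw [← ha, Units.smul_def]
          exact hsm _ _ a.ne_zero (by rw [hvv]; exact one_ne_zero)
        · show ((a⁻¹ : Fˣ) : F) • (Projectivization.mk F v hv).rep = v
          rw [← ha, Units.smul_def, smul_smul, Units.inv_mul, one_smul]
    have h := card_norm_sub hf (nondeg_top hf) (k := m + 1) (by rw [finrank_top, Module.finrank_pi, hm])
      (map_one σ) one_ne_zero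
    rw [← hc, hq] at h
    push_cast at h
    exact h
  · refine Nat.card_congr (Equiv.setCongr (Set.Subset.antisymm ?_ fun P hP => ?_))
    · rintro _ ⟨h, rfl⟩
      obtain ⟨a, ha⟩ := Projectivization.exists_smul_eq_mk_rep F (mv (h : GL ι F) r)
        (fun e => hr0 (mv_inj _ (e.trans (mv_zero _).symm)))
      show f (Projectivization.mk F (mv (h : GL ι F) r) _).rep (Projectivization.mk F (mv (h : GL ι F) r) _).rep ≠ 0
      rw [← ha, Units.smul_def]
      exact hsm _ _ a.ne_zero (by rw [f_mv h.2]; exact hrr)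
    · obtain ⟨g, hg, h, -⟩ := exists_move_norm hf (nondeg_top hf) (by rw [finrank_top, Module.finrank_pi]; exact h4)
        (K := sug f) (fun v _ hv c hc => ⟨htv_mem hf v hv hc, htv_mem_specialLinear hf v hv c⟩)
        (fun _ hg => hg.1) Submodule.mem_top Submodule.mem_top hr0 P.rep_nonzero
        ((hone r hrr).trans (hone _ hP).symm)
      exact ⟨⟨g, hg⟩, by simp only [ptImage, h, P.mk_rep]⟩

end forms

/-! ### The projective group -/

variable {F : Type*} [Field F] [Fintype F] {q n : ℕ}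

omit [Fintype F] in
/-- A subgroup of the projective group gives one of the linear group of the same index. -/
theorem exists_linear (H : Subgroup (Cfsg.PSU n F q)) (hH : H ≠ ⊤) :
    ∃ K : Subgroup (GL (Fin n) F), K ≤ sug (hermForm n F q) ∧ K ≠ sug (hermForm n F q) ∧
      K.relIndex (sug (hermForm n F q)) = H.index := by
  let π : Cfsg.SU n F q →* Cfsg.PSU n F q := QuotientGroup.mk' _
  let φ : sug (hermForm n F q) →* Cfsg.PSU n F q := π.comp (UnitaryStd.suEquiv).symm.toMonoidHom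
  have hφ : Function.Surjective φ :=
    (QuotientGroup.mk'_surjective _).comp (UnitaryStd.suEquiv).symm.surjective
  have hidx : ((H.comap φ).map (sug (hermForm n F q)).subtype).relIndex (sug (hermForm n F q)) = H.index := by
    rw [Subgroup.relIndex, ← Subgroup.comap_subtype,
      Subgroup.comap_map_eq_self_of_injective Subtype.val_injective, Subgroup.index_comap_of_surjective _ hφ]
  refine ⟨_, Subgroup.map_subtype_le _, fun h => hH ?_, hidx⟩
  rw [h, Subgroup.relIndex_self] at hidx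
  exact Subgroup.index_eq_one.1 hidx.symm

omit [Fintype F] in
/-- A subgroup containing the centre gives one of the projective group of the same index. -/
theorem exists_projective (K : Subgroup (GL (Fin n) F))
    (hK : ∀ g ∈ sug (hermForm n F q), (∀ h ∈ sug (hermForm n F q), h * g = g * h) → g ∈ K) :
    ∃ H : Subgroup (Cfsg.PSU n F q), H.index = K.relIndex (sug (hermForm n F q)) := by
  let π : Cfsg.SU n F q →* Cfsg.PSU n F q := QuotientGroup.mk' _
  let e : Cfsg.SU n F q ≃* sug (hermForm n F q) := UnitaryStd.suEquiv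
  refine ⟨((K.subgroupOf _).comap e.toMonoidHom).map π, ?_⟩
  rw [Subgroup.index_map_eq _ (QuotientGroup.mk'_surjective _) ?_,
    Subgroup.index_comap_of_surjective _ e.surjective, Subgroup.relIndex]
  rw [QuotientGroup.ker_mk']
  intro A hA
  rw [Subgroup.mem_comap, Subgroup.mem_subgroupOf]
  refine hK _ (e A).2 fun h hh => ?_
  have := Subgroup.mem_center_iff.1 hA (e.symm ⟨h, hh⟩)
  exact congrArg Subtype.val (show (⟨h, hh⟩ : sug (hermForm n F q)) * e A = e A * ⟨h, hh⟩ by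
    rw [← e.apply_symm_apply ⟨h, hh⟩, ← map_mul, ← map_mul, this])

/-- The data of the standard form and the value of the bound. -/
theorem psu_core (hF : Fintype.card F = q ^ 2) (hn : 5 ≤ n) :
    2 ≤ q ∧ ∃ N : ℕ, (N : ℤ) * ((q : ℤ) ^ 2 - 1) = ((q : ℤ) ^ n - (-1) ^ n) * ((q : ℤ) ^ (n - 1) + (-1) ^ n) ∧
      (∀ H : Subgroup (Cfsg.PSU n F q), H ≠ ⊤ → N ≤ H.index ∨
        (q = 2 ∧ Even n ∧ 2 ^ (n - 1) * (2 ^ n - 1) ≤ 3 * H.index)) ∧
      (∃ H : Subgroup (Cfsg.PSU n F q), H.index = N) ∧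
      (q = 2 → Even n → ∃ H : Subgroup (Cfsg.PSU n F q), 3 * H.index = 2 ^ (n - 1) * (2 ^ n - 1)) := by
  obtain ⟨σ, -, hf, hqn⟩ := UnitaryStd.exists_setup (F := F) (n := n) hF (by omega)
  change qn σ = q at hqn
  subst hqn
  obtain ⟨m, rfl⟩ : ∃ m, n = m + 2 := ⟨n - 2, by omega⟩
  have hm : Fintype.card (Fin (m + 2)) = m + 2 := Fintype.card_fin _
  have h3 : 3 ≤ m := by omega
  refine ⟨two_le_qn hf.ne_refl hf.involutive, Nat.card (isoPts (hermForm (m + 2) F (qn σ))),
    isoPts_identity hf hm h3, fun H hH => ?_, ?_, fun hq2 hev => ?_⟩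
  · obtain ⟨K, hK, hKne, hidx⟩ := exists_linear H hH
    rw [← hidx]
    rcases index_bound hf hm h3 hK hKne with h | ⟨h1, h2, h⟩
    · exact Or.inl h
    · refine Or.inr ⟨h1, h2.add even_two, ?_⟩
      rw [show m + 2 - 1 = m + 1 by omega]
      exact h
  · obtain ⟨x, y, w, p, -, -, -⟩ := exists_pair_and_iso hf hm h3
    obtain ⟨H, hH⟩ := exists_projective (pline (hermForm (m + 2) F (qn σ)) x) fun g hg hc =>
      (mem_pline (p.x_ne hf)).2 ⟨hg, central_iso hf hg hc (p.x_ne hf) p.xx⟩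
    refine ⟨H, ?_⟩
    rw [hH, ← card_ptOrbit (p.x_ne hf) le_rfl, ptOrbit_sug hf (by omega) (p.x_ne hf) p.xx]
  · obtain ⟨r, -, hrr⟩ := exists_anisotropic hf (nondeg_top hf) (fun h0 => by
      have := congrArg (fun S : Submodule F (Fin (m + 2) → F) => Module.finrank F ↥S) h0
      simp at this)
    have hr0 : r ≠ 0 := fun h => hrr (by rw [h, zero_left hf])
    obtain ⟨hcard, horb⟩ := card_anisoPts hf (by omega) hq2 hm
    obtain ⟨H, hH⟩ := exists_projective (pline (hermForm (m + 2) F (qn σ)) r) fun g hg hc =>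
      (mem_pline hr0).2 ⟨hg, central_aniso hf hg hc (by omega) hrr⟩
    refine ⟨H, ?_⟩
    rw [hH, ← card_ptOrbit hr0 le_rfl, horb r hr0 hrr, show m + 2 - 1 = m + 1 by omega]
    rw [hev.neg_one_pow] at hcard
    have h1 : ((3 * Nat.card (anisoPts (hermForm (m + 2) F (qn σ))) : ℕ) : ℤ) =
        ((2 ^ (m + 1) * (2 ^ (m + 2) - 1) : ℕ) : ℤ) := by
      push_cast [Nat.cast_sub (Nat.one_le_two_pow (n := m + 2))]
      linarith
    exact_mod_cast h1

theorem min_index_psu_odd (hF : Fintype.card F = q ^ 2) (hn : 5 ≤ n) (hodd : Odd n) :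
    (∀ H : Subgroup (Cfsg.PSU n F q), H ≠ ⊤ → (q ^ n + 1) * (q ^ (n - 1) - 1) / (q ^ 2 - 1) ≤ H.index) ∧
      ∃ H : Subgroup (Cfsg.PSU n F q), H.index = (q ^ n + 1) * (q ^ (n - 1) - 1) / (q ^ 2 - 1) := by
  obtain ⟨hq, N, hN, hb, hex, -⟩ := psu_core hF hn
  rw [hodd.neg_one_pow] at hN
  have h1 : 1 ≤ q ^ (n - 1) := Nat.one_le_pow _ _ (by omega)
  have h2 : 1 < q ^ 2 := Nat.one_lt_pow two_ne_zero (by omega)
  have e : (q ^ n + 1) * (q ^ (n - 1) - 1) = N * (q ^ 2 - 1) := by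
    have : (((q ^ n + 1) * (q ^ (n - 1) - 1) : ℕ) : ℤ) = ((N * (q ^ 2 - 1) : ℕ) : ℤ) := by
      push_cast [Nat.cast_sub h1, Nat.cast_sub h2.le]
      linarith
    exact_mod_cast this
  rw [e, Nat.mul_div_cancel _ (by omega)]
  exact ⟨fun H hH => (hb H hH).resolve_right fun h => Nat.not_even_iff_odd.2 hodd h.2.1, hex⟩

theorem min_index_psu_even (hF : Fintype.card F = q ^ 2) (hq3 : 3 ≤ q) (hn : 6 ≤ n) (heven : Even n) :
    (∀ H : Subgroup (Cfsg.PSU n F q), H ≠ ⊤ → (q ^ n - 1) * (q ^ (n - 1) + 1) / (q ^ 2 - 1) ≤ H.index) ∧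
      ∃ H : Subgroup (Cfsg.PSU n F q), H.index = (q ^ n - 1) * (q ^ (n - 1) + 1) / (q ^ 2 - 1) := by
  obtain ⟨hq, N, hN, hb, hex, -⟩ := psu_core hF (show 5 ≤ n by omega)
  rw [heven.neg_one_pow] at hN
  have h1 : 1 ≤ q ^ n := Nat.one_le_pow _ _ (by omega)
  have h2 : 1 < q ^ 2 := Nat.one_lt_pow two_ne_zero (by omega)
  have e : (q ^ n - 1) * (q ^ (n - 1) + 1) = N * (q ^ 2 - 1) := by
    have : (((q ^ n - 1) * (q ^ (n - 1) + 1) : ℕ) : ℤ) = ((N * (q ^ 2 - 1) : ℕ) : ℤ) := by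
      push_cast [Nat.cast_sub h1, Nat.cast_sub h2.le]
      linarith
    exact_mod_cast this
  rw [e, Nat.mul_div_cancel _ (by omega)]
  exact ⟨fun H hH => (hb H hH).resolve_right fun h => by have := h.1; omega, hex⟩

theorem min_index_psu_two (hF : Fintype.card F = 4) (hn : 6 ≤ n) (heven : Even n) :
    (∀ H : Subgroup (Cfsg.PSU n F 2), H ≠ ⊤ → 2 ^ (n - 1) * (2 ^ n - 1) / 3 ≤ H.index) ∧
      ∃ H : Subgroup (Cfsg.PSU n F 2), H.index = 2 ^ (n - 1) * (2 ^ n - 1) / 3 := by
  obtain ⟨-, N, hN, hb, -, hex⟩ := psu_core (q := 2) (F := F) (by omega) (show 5 ≤ n by omega)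
  rw [heven.neg_one_pow] at hN
  push_cast at hN
  refine ⟨fun H hH => Nat.div_le_of_le_mul ?_, ?_⟩
  · rcases hb H hH with h | h
    · have hz : ((2 ^ (n - 1) * (2 ^ n - 1) : ℕ) : ℤ) ≤ ((3 * H.index : ℕ) : ℤ) := by
        push_cast [Nat.cast_sub (Nat.one_le_two_pow (n := n))]
        have h1 : (N : ℤ) ≤ H.index := by exact_mod_cast h
        have h2 : (1 : ℤ) ≤ 2 ^ n := one_le_pow₀ (by norm_num)
        linarith
      exact_mod_cast hz
    · exact h.2.2
  · obtain ⟨H, hH⟩ := hex rfl heven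
    exact ⟨H, by rw [← hH, Nat.mul_div_cancel_left _ (by norm_num)]⟩

end Cfsg.Agent.UMin
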